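import Mathlib.Tactic

/-!
The arithmetic of Brauer–Suzuki–Wall for `|K| = 2`: the degree equation has only the solutions of `A₄` and `A₅`.
-/

set_option autoImplicit false

namespace Cfsg.Agent.BSW

theorem small_check_pos : ∀ i < 7, ∀ j < 46, ∀ n < 4,
    (2 * n + 1) * ((2 * i + 1) * (2 * j + 1) * (2 * i + 2 * j + 3) + (2 * i + 2 * j + 2) * (2 * i + 2 * j + 3)) =
      8 * ((2 * i + 1) * (2 * j + 1) * (2 * i + 2 * j + 3)) + (2 * n + 1) * ((2 * i + 1) * (2 * j + 1)) →
    n = 1 := by
  decide +kernel

theorem small_check_neg : ∀ i < 9, ∀ j < 37, ∀ n < 9,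
    (2 * n + 1) * (2 * i * (2 * j) * (2 * i + 2 * j + 2)) =
      8 * ((2 * i + 1) * (2 * j + 1) * (2 * i + 2 * j + 1)) →
    n = 7 := by
  decide +kernel

theorem small_arith_pos {N x y : ℤ} (hN : 0 < N) (hNo : Odd N) (hxo : Odd x) (hyo : Odd y)
    (hx : 0 < x) (hxy : x ≤ y)
    (h : N * (x * y * (1 + x + y) + (x + y) * (1 + x + y) - x * y) = 8 * (x * y * (1 + x + y))) : N = 3 := by
  have hy : 0 < y := lt_of_lt_of_le hx hxy
  have hpos : 0 < x * y * (1 + x + y) := by positivity
  have hR : x * y < (x + y) * (1 + x + y) := by nlinarith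
  have hN8 : N < 8 := by
    by_contra hc
    push Not at hc
    nlinarith [mul_pos hN (sub_pos.mpr hR)]
  have hx14 : x < 15 := by
    by_contra hc
    push Not at hc
    have h1 : x * y * (1 + x + y) ≤ 7 * ((x + y) * (1 + x + y)) := by nlinarith
    have h2 : x * y ≤ 7 * (x + y) := by nlinarith
    nlinarith
  have hy92 : y < 92 := by
    by_contra hc
    push Not at hc
    have e : (1 + x + y) * (((8 - N) * x - N) * y - N * x) + N * x * y = 0 := by linear_combination -h
    rcases le_or_gt ((8 - N) * x - N) 0 with hD | hD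
    · have h1 : (1 + x + y) * (((8 - N) * x - N) * y) ≤ 0 :=
        mul_nonpos_of_nonneg_of_nonpos (by omega) (mul_nonpos_of_nonpos_of_nonneg hD hy.le)
      nlinarith [mul_pos (mul_pos hN hx) (show 0 < 1 + x by omega)]
    · have : 0 ≤ ((8 - N) * x - N) * y - N * x := by nlinarith
      nlinarith [mul_pos hN (mul_pos hx hy)]
  obtain ⟨n, rfl⟩ := hNo
  obtain ⟨i, rfl⟩ := hxo
  obtain ⟨j, rfl⟩ := hyo
  obtain ⟨n, rfl⟩ := Int.eq_ofNat_of_zero_le (show 0 ≤ n by omega)
  obtain ⟨i, rfl⟩ := Int.eq_ofNat_of_zero_le (show 0 ≤ i by omega)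
  obtain ⟨j, rfl⟩ := Int.eq_ofNat_of_zero_le (show 0 ≤ j by omega)
  have := small_check_pos i (by omega) j (by omega) n (by omega) (by
    zify
    linear_combination h)
  omega

theorem small_arith_neg {N y z : ℤ} (hN : 0 < N) (hNo : Odd N) (hyo : Odd y) (hzo : Odd z)
    (hy : 0 < y) (hyz : y ≤ z)
    (h : N * ((y - 1) * (z - 1) * (y + z)) = 8 * (y * z * (y + z - 1))) : N = 15 := by
  have hy3 : 3 ≤ y := by
    obtain ⟨i, rfl⟩ := hyo
    by_contra hc
    rw [show i = 0 by omega] at h hyz
    norm_num at h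
    omega
  have hz3 : 3 ≤ z := le_trans hy3 hyz
  have hN18 : N < 18 := by
    by_contra hc
    push Not at hc
    have h1 : 4 * (y * z) ≤ 9 * ((y - 1) * (z - 1)) := by nlinarith
    have h2 : 18 * ((y - 1) * (z - 1) * (y + z)) ≤ N * ((y - 1) * (z - 1) * (y + z)) :=
      mul_le_mul_of_nonneg_right hc (mul_nonneg (mul_nonneg (by omega) (by omega)) (by omega))
    nlinarith
  have hN8 : 8 < N := by
    by_contra hc
    push Not at hc
    have h2 : N * ((y - 1) * (z - 1) * (y + z)) ≤ 8 * ((y - 1) * (z - 1) * (y + z)) :=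
      mul_le_mul_of_nonneg_right hc (mul_nonneg (mul_nonneg (by omega) (by omega)) (by omega))
    nlinarith
  have hy18 : y < 19 := by
    by_contra hc
    push Not at hc
    have h1 : 8 * (y * z) < 9 * ((y - 1) * (z - 1)) := by nlinarith
    have h2 : 9 * ((y - 1) * (z - 1) * (y + z)) ≤ N * ((y - 1) * (z - 1) * (y + z)) :=
      mul_le_mul_of_nonneg_right (by omega) (mul_nonneg (mul_nonneg (by omega) (by omega)) (by omega))
    nlinarith
  have hz74 : z < 74 := by
    by_contra hc
    push Not at hc
    have e : (N * (y - 1) - 8 * y) * (z * z + (y - 1) * z) = N * (y - 1) * y := by linear_combination h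
    have hrhs : N * (y - 1) * y ≤ 17 * 17 * 18 := by
      have h1 : N * (y - 1) ≤ 17 * 17 := mul_le_mul (by omega) (by omega) (by omega) (by omega)
      exact mul_le_mul h1 (by omega) (by omega) (by omega)
    have hw : 5476 ≤ z * z + (y - 1) * z := by nlinarith
    rcases le_or_gt (N * (y - 1) - 8 * y) 0 with hD | hD
    · nlinarith [mul_nonpos_of_nonpos_of_nonneg hD (show 0 ≤ z * z + (y - 1) * z by omega),
        mul_pos (mul_pos hN (show 0 < y - 1 by omega)) hy]
    · nlinarith
  obtain ⟨n, rfl⟩ := hNo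
  obtain ⟨i, rfl⟩ := hyo
  obtain ⟨j, rfl⟩ := hzo
  obtain ⟨n, rfl⟩ := Int.eq_ofNat_of_zero_le (show 0 ≤ n by omega)
  obtain ⟨i, rfl⟩ := Int.eq_ofNat_of_zero_le (show 0 ≤ i by omega)
  obtain ⟨j, rfl⟩ := Int.eq_ofNat_of_zero_le (show 0 ≤ j by omega)
  have := small_check_neg i (by omega) j (by omega) n (by omega) (by
    zify
    linear_combination h)
  omega

/-- The signed degrees `a`, `b`, `c` of the three constituents determine the number of involutions. -/
theorem small_arith {N a b c : ℤ} (hN : 0 < N) (hNo : Odd N) (ha : Odd a) (hb : Odd b) (hc : Odd c)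
    (hsum : 1 + a + b + c = 0) (h : N * (a * b * c + b * c + a * c + a * b) = 8 * (a * b * c)) :
    N = 3 ∨ N = 15 := by
  have key : ∀ a b c : ℤ, Odd a → Odd b → Odd c → 1 + a + b + c = 0 →
      N * (a * b * c + b * c + a * c + a * b) = 8 * (a * b * c) → 0 < a → c < 0 → N = 3 ∨ N = 15 := by
    intro a b c ha hb hc hsum h ha0 hc0
    have hc' : c = -(1 + a + b) := by omega
    rcases lt_trichotomy b 0 with hb0 | rfl | hb0
    · right
      have ha' : a = -b - c - 1 := by omega
      rcases le_total (-b) (-c) with hle | hle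
      · refine small_arith_neg hN hNo (y := -b) (z := -c) hb.neg hc.neg (by omega) hle ?_
        subst ha'
        linear_combination h
      · refine small_arith_neg hN hNo (y := -c) (z := -b) hc.neg hb.neg (by omega) hle ?_
        subst ha'
        linear_combination h
    · simp at hb
    · left
      rcases le_total a b with hle | hle
      · refine small_arith_pos hN hNo ha hb ha0 hle ?_
        subst hc'
        linear_combination -h
      · refine small_arith_pos hN hNo hb ha hb0 hle ?_
        subst hc'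
        linear_combination -h
  have ha1 : a ≠ 0 := by rintro rfl; simp at ha
  have hb1 : b ≠ 0 := by rintro rfl; simp at hb
  have hc1 : c ≠ 0 := by rintro rfl; simp at hc
  by_cases ha0 : 0 < a
  · by_cases hc0 : c < 0
    · exact key a b c ha hb hc hsum h ha0 hc0
    · exact key a c b ha hc hb (by omega) (by linear_combination h) ha0 (by omega)
  · by_cases hb0 : 0 < b
    · exact key b c a hb hc ha (by omega) (by linear_combination h) hb0 (by omega)
    · exact key c b a hc hb ha (by omega) (by linear_combination h) (by omega) (by omega)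

end Cfsg.Agent.BSW
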