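import Cfsg.Agent.Lib.BSW.Structure
import Cfsg.Agent.Lib.BSW.SmallArith

/-!
Brauer–Suzuki–Wall, `|K| = 2`: the group has order 12 or 60.
-/

set_option autoImplicit false
set_option linter.style.haveILetI false

namespace Cfsg.Agent.BSW

open Char

attribute [local instance] Classical.propDecidable

universe u

variable {G : Type u} [Group G]

namespace Config

variable {c : Config G} [Fintype G]

theorem mem_K_two (h2 : Nat.card c.K = 2) {x : G} (hx : x ∈ c.K) : x = 1 ∨ x = c.t := by
  refine c.eq_one_or_t hx ?_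
  have := congrArg Subtype.val (pow_card_eq_one' (x := (⟨x, hx⟩ : c.K)))
  rw [h2, Subgroup.coe_pow, sq] at this
  exact this

theorem KType_iff_two (h2 : Nat.card c.K = 2) {g : G} : c.KType g ↔ orderOf g = 2 := by
  refine ⟨fun ⟨v, x, hx, h1, e⟩ => ?_, c.KType_of_involution⟩
  rw [e, order_conj, (c.mem_K_two h2 hx).resolve_left h1, c.ht]

theorem outer_two (h2 : Nat.card c.K = 2) {g : G} (h1 : g ≠ 1) (hg : orderOf g ≠ 2) : c.Outer g :=
  ⟨h1, fun h => hg ((c.KType_iff_two h2).mp h)⟩

theorem card_G_two (h2 : Nat.card c.K = 2) : Nat.card G = 4 * c.numInv := by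
  rw [← c.card_G, h2]

theorem numInv_odd (h2 : Nat.card c.K = 2) : Odd c.numInv := by
  rw [← Nat.not_even_iff_odd]
  rintro ⟨m, hm⟩
  haveI := Fact.mk Nat.prime_two
  obtain ⟨P, hP⟩ := Sylow.exists_subgroup_card_pow_prime 2 (G := G) (n := 3)
    (by rw [c.card_G_two h2, hm]; exact ⟨m, by ring⟩)
  have hPp : IsPGroup 2 P := IsPGroup.of_card hP
  haveI : Nontrivial P := Finite.one_lt_card_iff_nontrivial.mp (by rw [hP]; norm_num)
  haveI := hPp.center_nontrivial
  obtain ⟨z, hz⟩ := exists_prime_orderOf_dvd_card' 2 (G := Subgroup.center P)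
    (by
      obtain ⟨n, hn, hc⟩ := (IsPGroup.to_subgroup hPp (Subgroup.center P)).nontrivial_iff_card.mp inferInstance
      rw [hc]; exact dvd_pow_self 2 hn.ne')
  rw [← Subgroup.orderOf_coe, ← Subgroup.orderOf_coe] at hz
  obtain ⟨v, hv⟩ := isConj_iff.mp (c.hconj c.t ((z : P) : G) c.ht hz)
  have hle : P ≤ Subgroup.centralizer ({((z : P) : G)} : Set G) := fun p hp => mem_cent.mpr
    (congrArg Subtype.val (Subgroup.mem_center_iff.mp z.2 ⟨p, hp⟩))
  have := Subgroup.card_le_of_le hle
  rw [← hv, card_cent_conj, c.card_H, h2, hP] at this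
  norm_num at this

theorem mu_t_two (h2 : Nat.card c.K = 2) : c.mu.1 ⟨c.t, c.htK⟩ = -1 := by
  refine (c.lam_t c.mu).resolve_left fun h => c.mu_spec.1 (Subtype.ext (funext fun x => ?_))
  rcases c.mem_K_two h2 x.2 with e | e
  · rw [show x = 1 from Subtype.ext e, c.lam_one]; simp
  · rw [show x = ⟨c.t, c.htK⟩ from Subtype.ext e, h]; simp

theorem sum_lam_two (h2 : Nat.card c.K = 2) {R : Type*} [AddCommMonoid R] (f : IrrCharacter c.K → R) :
    ∑ lam : IrrCharacter c.K, f lam = f (trivialChar c.K) + f c.mu := by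
  have huniv : (Finset.univ : Finset (IrrCharacter c.K)) = {trivialChar c.K, c.mu} :=
    (Finset.eq_of_subset_of_card_le (Finset.subset_univ _) (by
      rw [Finset.card_univ, c.card_lam, h2, Finset.card_pair c.mu_spec.1.symm])).symm
  rw [huniv, Finset.sum_pair c.mu_spec.1.symm]

theorem numInv_two (h2 : Nat.card c.K = 2) : c.numInv = 3 ∨ c.numInv = 15 := by
  obtain ⟨A, B, C, hAB, hAC, hBC, hS⟩ := Finset.card_eq_three.mp c.card_supp_mu
  have hmu := c.mu_spec.1
  have hval : ∀ chi : IrrCharacter G, chi.1 c.t = (c.cz chi c.mu : ℂ) := fun chi => by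
    rw [c.apply_of_mem chi c.htK c.t_ne, c.sum_lam_two h2, c.cz_triv_right, c.mu_t_two h2]
    simp
  have hodd : ∀ chi ∈ c.supp c.mu, Odd ((c.cz chi c.mu) * (degree chi : ℤ)) := fun chi h => by
    obtain ⟨a, ha⟩ := c.degree_congr chi
    rw [c.sum_lam_two h2, c.cz_triv_right, h2] at ha
    rcases c.cz_sign c.mu hmu h with e | e <;> rw [e] at ha ⊢ <;> rw [ha]
    · exact ⟨a - 1, by push_cast; ring⟩
    · exact ⟨-a - 1, by push_cast; ring⟩
  have hsum := c.sum_cz_apply c.mu (1 : G)
  rw [c.alpha_one, c.sum_split c.mu hmu, hS, Finset.sum_insert (by simp [hAB, hAC]), Finset.sum_pair hBC,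
    trivialChar_apply, apply_one_eq_degree, apply_one_eq_degree, apply_one_eq_degree] at hsum
  have hstar := c.star c.mu hmu
  have hsum2 : ∑ chi : IrrCharacter G, (c.cz chi c.mu : ℂ) * chi.1 c.t ^ 2 / chi.1 1 =
      ∑ chi : IrrCharacter G, (c.cz chi c.mu : ℂ) * (chi.1 c.t ^ 2 / chi.1 1) :=
    Finset.sum_congr rfl fun chi _ => by ring
  have hone : ∀ chi ∈ c.supp c.mu, chi.1 c.t ^ 2 = 1 := fun chi h => by
    rw [hval]; rcases c.cz_sign c.mu hmu h with e | e <;> rw [e] <;> simp
  have hinv : ∀ chi ∈ c.supp c.mu, (c.cz chi c.mu : ℂ) * (chi.1 c.t ^ 2 / chi.1 1) =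
      1 / (((c.cz chi c.mu) * (degree chi : ℤ) : ℤ) : ℂ) := fun chi h => by
    rw [hone chi h, apply_one_eq_degree]
    rcases c.cz_sign c.mu hmu h with e | e <;> rw [e] <;> simp
  rw [hsum2, c.sum_split c.mu hmu, hS, Finset.sum_insert (by simp [hAB, hAC]), Finset.sum_pair hBC,
    hinv A (by simp [hS]), hinv B (by simp [hS]), hinv C (by simp [hS]), trivialChar_apply, trivialChar_apply,
    c.card_G_two h2, h2] at hstar
  have hA := hodd A (by simp [hS])
  have hB := hodd B (by simp [hS])
  have hC := hodd C (by simp [hS])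
  set a := c.cz A c.mu * (degree A : ℤ) with ha
  set b := c.cz B c.mu * (degree B : ℤ) with hb
  set d := c.cz C c.mu * (degree C : ℤ) with hd
  have hNpos : 0 < c.numInv := Nat.pos_of_ne_zero fun h => Nat.card_pos.ne' (by
    rw [c.card_G_two h2, h] : Nat.card G = 0)
  have hne : ∀ z : ℤ, Odd z → (z : ℂ) ≠ 0 := fun z hz h => by
    rw [Int.cast_eq_zero] at h; subst h; simp at hz
  have h1 : 1 + a + b + d = 0 := by
    have : ((1 + a + b + d : ℤ) : ℂ) = 0 := by
      rw [ha, hb, hd]; push_cast; linear_combination hsum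
    exact_mod_cast this
  have h3 : (c.numInv : ℤ) * (a * b * d + b * d + a * d + a * b) = 8 * (a * b * d) := by
    have hN : (c.numInv : ℂ) ≠ 0 := by exact_mod_cast hNpos.ne'
    have := hne a hA
    have := hne b hB
    have := hne d hC
    push_cast at hstar
    field_simp at hstar
    have : (((c.numInv : ℤ) * (a * b * d + b * d + a * d + a * b) : ℤ) : ℂ) = ((8 * (a * b * d) : ℤ) : ℂ) := by
      push_cast
      linear_combination hstar
    exact_mod_cast this
  rcases small_arith (by exact_mod_cast hNpos) ((Int.odd_coe_nat _).mpr (c.numInv_odd h2)) hA hB hC h1 h3 with e | e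
  · exact Or.inl (by exact_mod_cast e)
  · exact Or.inr (by exact_mod_cast e)

theorem cent_odd_two (h2 : Nat.card c.K = 2) {x : G} {p : ℕ} (hx : orderOf x = p) (h1 : 2 < p) :
    Odd (Nat.card (Subgroup.centralizer ({x} : Set G))) ∧ c.Outer x := by
  have ho : c.Outer x := c.outer_two h2 (fun e => by rw [e, orderOf_one] at hx; omega) (by omega)
  exact ⟨c.outer_card_cent_odd ho, ho⟩

/-- The normalizer of a cyclic subgroup of prime order: its elements act by powers. -/
theorem conj_eq_pm {x u : G} {p : ℕ} (hp : p.Prime) (hx : orderOf x = p) (hu : u * u = 1)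
    (hn : u * x * u⁻¹ ∈ Subgroup.zpowers x) : u * x * u⁻¹ = x ∨ u * x * u⁻¹ = x⁻¹ := by
  obtain ⟨i, hi⟩ := Subgroup.mem_zpowers_iff.mp hn
  have h : x ^ (i * i) = x := by
    rw [zpow_mul, hi, conj_zpow, hi, show u * (u * x * u⁻¹) * u⁻¹ = (u * u) * x * (u * u)⁻¹ by group, hu]
    simp
  have hd : (p : ℤ) ∣ (i - 1) * (i + 1) := by
    rw [show (i - 1) * (i + 1) = i * i - 1 by ring, ← hx, orderOf_dvd_iff_zpow_eq_one, zpow_sub, h, zpow_one,
      mul_inv_cancel]
  rcases (Nat.prime_iff_prime_int.mp hp).dvd_or_dvd hd with h' | h' <;>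
    rw [← hx, orderOf_dvd_iff_zpow_eq_one] at h'
  · left; rw [← hi, ← mul_inv_eq_one]; simpa [zpow_sub] using h'
  · right; rw [← hi, eq_inv_iff_mul_eq_one]; simpa [zpow_add] using h'

theorem centralizer_of_mem_prime {Q : Subgroup G} {p : ℕ} [Fact p.Prime] (hQ : Nat.card Q = p)
    (hC : ∀ x : G, orderOf x = p → Nat.card (Subgroup.centralizer ({x} : Set G)) = p) :
    ∀ x ∈ Q, x ≠ 1 → Subgroup.centralizer ({x} : Set G) = Q := by
  intro x hx h1
  have hd := orderOf_dvd_natCard (⟨x, hx⟩ : Q)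
  rw [Subgroup.orderOf_mk, hQ] at hd
  have hxo : orderOf x = p :=
    ((Nat.dvd_prime Fact.out).mp hd).resolve_left (fun e => h1 (orderOf_eq_one_iff.mp e))
  have e1 : Subgroup.zpowers x = Q :=
    Subgroup.eq_of_le_of_card_ge (Subgroup.zpowers_le.mpr hx) (by rw [Nat.card_zpowers, hxo, hQ])
  refine (Subgroup.eq_of_le_of_card_ge ?_ (by rw [hC x hxo, hQ])).symm
  rw [← e1, Subgroup.zpowers_le]
  exact mem_cent_self x

theorem conclusion_twelve (h2 : Nat.card c.K = 2) (hN : c.numInv = 3) : Conclusion G := by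
  haveI := Fact.mk Nat.prime_three
  have hG : Nat.card G = 12 := by rw [c.card_G_two h2, hN]
  obtain ⟨x, hx⟩ := exists_prime_orderOf_dvd_card' 3 (G := G) (by rw [hG]; norm_num)
  have hC : ∀ y : G, orderOf y = 3 → Nat.card (Subgroup.centralizer ({y} : Set G)) = 3 := by
    intro y hy
    obtain ⟨hodd, -⟩ := c.cent_odd_two h2 hy (by norm_num)
    have h12 := Subgroup.card_subgroup_dvd_card (Subgroup.centralizer ({y} : Set G))
    rw [hG] at h12
    have h3 : 3 ∣ Nat.card (Subgroup.centralizer ({y} : Set G)) := by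
      rw [← hy, ← Subgroup.orderOf_mk y (mem_cent_self y)]
      exact orderOf_dvd_natCard _
    obtain ⟨m, hm⟩ := hodd
    have := Nat.le_of_dvd (by norm_num) h12
    have hm6 : m ≤ 6 := by omega
    interval_cases m <;> rw [hm] at h12 h3 <;> first | omega | norm_num at h12 h3 ⊢
  set Q := Subgroup.zpowers x with hQ
  have hQc : Nat.card Q = 3 := by rw [hQ, Nat.card_zpowers, hx]
  have hCQ := centralizer_of_mem_prime hQc hC
  set N := Subgroup.normalizer (Q : Set G) with hNdef
  -- the involutions are those of `C(t)`, so no involution inverts `x`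
  have hinvol : ∀ u : G, orderOf u = 2 → u ∈ c.H := by
    have h3 : Nat.card {u : c.H // orderOf (u : G) = 2} = 3 := by
      have hH : Nat.card c.H = 4 := by rw [c.card_H, h2]
      have e : Nat.card {u : c.H // orderOf (u : G) = 2} = Nat.card {u : c.H // u ≠ 1} := by
        refine Nat.card_congr (Equiv.subtypeEquivRight fun u => ⟨fun h e => ?_, fun h => ?_⟩)
        · rw [e, Subgroup.coe_one, orderOf_one] at h; omega
        · by_cases hK : (u : G) ∈ c.K
          · rw [(c.mem_K_two h2 hK).resolve_left (fun e => h (Subtype.ext e)), c.ht]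
          · exact c.coset_sq u.2 hK
      haveI := Fintype.ofFinite c.H
      rw [e, Nat.card_eq_fintype_card, Fintype.card_subtype_compl, Fintype.card_subtype_eq,
        ← Nat.card_eq_fintype_card, hH]
    let f : {u : c.H // orderOf (u : G) = 2} → {u : G // orderOf u = 2} := fun u => ⟨u.1, u.2⟩
    have hf : Function.Bijective f := (Nat.bijective_iff_injective_and_card f).mpr
      ⟨fun a b e => Subtype.ext (Subtype.ext (congrArg Subtype.val e :)), by rw [h3, ← hN, numInv]⟩
    intro u hu
    obtain ⟨w, hw⟩ := hf.2 ⟨u, hu⟩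
    have e : ((w.1 : G)) = u := congrArg Subtype.val hw
    exact e ▸ w.1.2
  have hNQ : N = Q := by
    have hle : Q ≤ N := Subgroup.le_normalizer
    refine (Subgroup.eq_of_le_of_card_ge hle ?_).symm
    by_contra hlt
    have h12 := Subgroup.card_subgroup_dvd_card N
    rw [hG] at h12
    have h3 := Subgroup.card_dvd_of_le hle
    rw [hQc] at h3 hlt
    have heven : 2 ∣ Nat.card N := by
      have := Nat.le_of_dvd (by norm_num) h12
      interval_cases (Nat.card N) <;> omega
    obtain ⟨u, hu⟩ := exists_prime_orderOf_dvd_card' 2 heven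
    rw [← Subgroup.orderOf_coe] at hu
    have hcon := conj_mem_of_normalizer u.2 (Subgroup.mem_zpowers x)
    rcases conj_eq_pm Nat.prime_three hx (sq_of_order hu) hcon with e | e
    · obtain ⟨-, ho⟩ := c.cent_odd_two h2 hx (by norm_num)
      exact c.outer_commute_involution_false ho hu (mul_inv_eq_iff_eq_mul.mp e).symm
    · have hm : (x * (u : G) * x⁻¹) * u ∈ c.H :=
        mul_mem (hinvol _ (by rw [order_conj, hu])) (hinvol _ hu)
      have e3 : x ^ 3 = 1 := by rw [← hx]; exact pow_orderOf_eq_one x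
      have e2 : (x * (u : G) * x⁻¹) * u = x * x := by
        rw [show x * (u : G) * x⁻¹ * u = x * ((u : G) * x * (u : G)⁻¹)⁻¹ * ((u : G) * u) by group, e,
          sq_of_order hu, inv_inv, mul_one]
      rw [e2] at hm
      have hxH : x ∈ c.H := by
        have := mul_mem hm hm
        rwa [show x * x * (x * x) = x ^ 3 * x by simp only [pow_succ, pow_zero, one_mul, mul_assoc], e3, one_mul] at this
      have h4 : 3 ∣ Nat.card c.H := by
        rw [← hx, ← Subgroup.orderOf_mk x hxH]
        exact orderOf_dvd_natCard _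
      rw [c.card_H, h2] at h4
      omega
  refine ⟨Q, ⊥, by rw [hQc, hG], hCQ, ⟨⟨fun a b => Subsingleton.elim _ _⟩⟩, by rw [Subgroup.card_bot, hQc], by simp,
    by rw [sup_bot_eq]; exact hNQ, fun X hX h1 => absurd (le_bot_iff.mp hX) h1⟩

theorem conclusion_sixty (h2 : Nat.card c.K = 2) (hN : c.numInv = 15) : Conclusion G := by
  haveI := Fact.mk (show Nat.Prime 5 by norm_num)
  have hG : Nat.card G = 60 := by rw [c.card_G_two h2, hN]
  have hst : c.t * c.s ≠ 1 ∧ orderOf (c.t * c.s) = 2 := by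
    have h1 : c.t * c.s ∈ c.H := c.xs_mem_H c.htK
    have hK : c.t * c.s ∉ c.K := c.xs_notMem c.htK
    exact ⟨ne_one_of_order (c.coset_sq h1 hK), c.coset_sq h1 hK⟩
  -- normalizers of subgroups of order 5
  have hnorm : ∀ y : G, orderOf y = 5 →
      Nat.card (Subgroup.normalizer (Subgroup.zpowers y : Set G)) = 10 := by
    intro y hy
    have hyc : Nat.card (Subgroup.zpowers y) = 5 := by rw [Nat.card_zpowers, hy]
    have hidx : (Subgroup.zpowers y).index = 12 := by
      have := Subgroup.index_mul_card (Subgroup.zpowers y)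
      rw [hyc, hG] at this
      omega
    let S : Sylow 5 G := (IsPGroup.of_card (n := 1) (by rw [hyc, pow_one]) :
      IsPGroup 5 (Subgroup.zpowers y)).toSylow (by rw [hidx]; norm_num)
    have hn : Nat.card (Sylow 5 G) = (Subgroup.normalizer (Subgroup.zpowers y : Set G)).index :=
      S.card_eq_index_normalizer
    have hmod := card_sylow_modEq_one 5 G
    have hd : Nat.card (Sylow 5 G) ∣ 12 := by
      have := S.card_dvd_index
      rwa [show (S : Subgroup G).index = 12 from hidx] at this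
    have hprod := Subgroup.index_mul_card (Subgroup.normalizer (Subgroup.zpowers y : Set G))
    rw [hG, ← hn] at hprod
    by_contra hne
    have h1 : Nat.card (Sylow 5 G) = 1 := by
      have := Nat.le_of_dvd (by norm_num) hd
      unfold Nat.ModEq at hmod
      interval_cases h : Nat.card (Sylow 5 G) <;> omega
    rw [h1, one_mul] at hprod
    have htop : Subgroup.normalizer (Subgroup.zpowers y : Set G) = ⊤ :=
      Subgroup.eq_top_of_card_eq _ (by rw [hprod, hG])
    obtain ⟨-, ho⟩ := c.cent_odd_two h2 hy (by norm_num)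
    have hall : ∀ u : G, orderOf u = 2 → u * y * u⁻¹ = y⁻¹ := fun u hu => by
      refine (conj_eq_pm (by norm_num) hy (sq_of_order hu)
        (conj_mem_of_normalizer (by rw [htop]; trivial) (Subgroup.mem_zpowers y))).resolve_left ?_
      exact fun e => c.outer_commute_involution_false ho hu (mul_inv_eq_iff_eq_mul.mp e).symm
    have e1 := hall _ hst.2
    rw [show c.t * c.s * y * (c.t * c.s)⁻¹ = c.t * (c.s * y * c.s⁻¹) * c.t⁻¹ by group, hall _ c.hs, ← conj_inv,
      hall _ c.ht, inv_inv] at e1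
    exact hne (by
      have h2 : y * y = 1 := by nth_rw 2 [e1]; exact mul_inv_cancel y
      have := orderOf_dvd_of_pow_eq_one (show y ^ 2 = 1 by rw [sq]; exact h2)
      rw [hy] at this
      norm_num at this)
  have hC : ∀ y : G, orderOf y = 5 → Nat.card (Subgroup.centralizer ({y} : Set G)) = 5 := by
    intro y hy
    obtain ⟨hodd, -⟩ := c.cent_odd_two h2 hy (by norm_num)
    have h5 : 5 ∣ Nat.card (Subgroup.centralizer ({y} : Set G)) := by
      rw [← hy, ← Subgroup.orderOf_mk y (mem_cent_self y)]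
      exact orderOf_dvd_natCard _
    have h10 : Nat.card (Subgroup.centralizer ({y} : Set G)) ∣ 10 := by
      rw [← hnorm y hy]
      refine Subgroup.card_dvd_of_le fun a ha => Subgroup.mem_normalizer_iff.mpr fun b => ?_
      have hcy : ∀ b ∈ Subgroup.zpowers y, a * b * a⁻¹ = b := fun b hb => by
        obtain ⟨i, rfl⟩ := Subgroup.mem_zpowers_iff.mp hb
        rw [mul_inv_eq_iff_eq_mul]
        exact (Commute.zpow_right (mem_cent.mp ha) i).eq
      refine ⟨fun hb => by rw [hcy b hb]; exact hb, fun hb => ?_⟩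
      have := hcy _ hb
      rwa [mul_left_cancel (mul_right_cancel this)] at hb
    obtain ⟨m, hm⟩ := hodd
    have := Nat.le_of_dvd (by norm_num) h10
    have hm6 : m ≤ 5 := by omega
    interval_cases m <;> omega
  -- a subgroup of order 5 normalized by `t`
  obtain ⟨x, hx, hxt⟩ : ∃ x : G, orderOf x = 5 ∧ c.t * x * c.t⁻¹ = x⁻¹ := by
    obtain ⟨y, hy⟩ := exists_prime_orderOf_dvd_card' 5 (G := G) (by rw [hG]; norm_num)
    haveI := Fact.mk Nat.prime_two
    obtain ⟨u, hu⟩ := exists_prime_orderOf_dvd_card' 2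
      (G := Subgroup.normalizer (Subgroup.zpowers y : Set G)) (by rw [hnorm y hy]; norm_num)
    rw [← Subgroup.orderOf_coe] at hu
    obtain ⟨-, ho⟩ := c.cent_odd_two h2 hy (by norm_num)
    have hinv : (u : G) * y * (u : G)⁻¹ = y⁻¹ :=
      (conj_eq_pm (by norm_num) hy (sq_of_order hu)
        (conj_mem_of_normalizer u.2 (Subgroup.mem_zpowers y))).resolve_left
        fun e => c.outer_commute_involution_false ho hu (mul_inv_eq_iff_eq_mul.mp e).symm
    obtain ⟨v, hv⟩ := isConj_iff.mp (c.hconj c.t (u : G) c.ht hu)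
    refine ⟨v⁻¹ * y * v, by rw [← hy]; simpa using order_conj v⁻¹ y, ?_⟩
    rw [← hv] at hinv
    rw [show c.t * (v⁻¹ * y * v) * c.t⁻¹ = v⁻¹ * (v * c.t * v⁻¹ * y * (v * c.t * v⁻¹)⁻¹) * v by group, hinv]
    group
  set Q := Subgroup.zpowers x with hQ
  have hQc : Nat.card Q = 5 := by rw [hQ, Nat.card_zpowers, hx]
  have hCQ := centralizer_of_mem_prime hQc hC
  have hQK : Q ⊓ c.K = ⊥ := disjoint_iff.mp <| Subgroup.disjoint_of_coprime_natCard (by rw [hQc, h2]; norm_num)
  have htN : c.t ∈ Subgroup.normalizer (Q : Set G) := by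
    refine mem_normalizer_of_ti hCQ (Subgroup.mem_zpowers x) (fun e => ?_) ?_
    · rw [e, orderOf_one] at hx; norm_num at hx
    · rw [hxt]; exact inv_mem (Subgroup.mem_zpowers x)
  have hKN : c.K ≤ Subgroup.normalizer (Q : Set G) := fun a ha => by
    rcases c.mem_K_two h2 ha with e | e <;> rw [e]
    · exact one_mem _
    · exact htN
  have hnormK : Subgroup.normalizer (c.K : Set G) = c.H :=
    c.normalizer_K_sub le_rfl (fun e => c.t_ne (by have := c.htK; rwa [e, Subgroup.mem_bot] at this))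
  refine ⟨Q, c.K, by rw [hQc, hG], hCQ, ⟨⟨fun a b => c.K_comm a b⟩⟩, by rw [hQc, h2], hQK, ?_,
    fun X hX h1 => ⟨by rw [c.normalizer_K_sub hX h1, hnormK], c.s, c.hs, c.hsK, c.hinv, by rw [hnormK, c.hH]⟩⟩
  refine (Subgroup.eq_of_le_of_card_ge (sup_le Subgroup.le_normalizer hKN) ?_).symm
  rw [hnorm x hx]
  refine Nat.le_of_dvd Nat.card_pos ?_
  have d5 : 5 ∣ Nat.card (Q ⊔ c.K : Subgroup G) := hQc ▸ Subgroup.card_dvd_of_le le_sup_left
  have d2 : 2 ∣ Nat.card (Q ⊔ c.K : Subgroup G) := h2 ▸ Subgroup.card_dvd_of_le le_sup_right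
  omega

/-- The theorem for `|K| = 2`. -/
theorem conclusion_of_two (c : Config G) (h2 : Nat.card c.K = 2) : Conclusion G := by
  rcases c.numInv_two h2 with e | e
  · exact c.conclusion_twelve h2 e
  · exact c.conclusion_sixty h2 e

/-- The Brauer–Suzuki–Wall theorem. -/
theorem conclusion (c : Config G) : Conclusion G := by
  rcases eq_or_lt_of_le (show 2 ≤ Nat.card c.K from Nat.le_of_dvd Nat.card_pos
    (even_iff_two_dvd.mp c.even_card_K)) with e | e
  · exact c.conclusion_of_two e.symm
  · exact c.conclusion_of_two_lt e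

end Config

end Cfsg.Agent.BSW
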