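import Cfsg.Prelude
import Cfsg.Agent.Lib.BSW.Small
import Cfsg.Agent.Lib.Involution.Dihedral
import Cfsg.Agent.Lib.Transfer.Burnside
import Cfsg.Agent.Lib.SmallSimple.Low

/-!
Groups with an involution whose centralizer has order 4 and is elementary abelian.
-/

set_option autoImplicit false
set_option linter.style.haveILetI false

namespace Cfsg.Agent.BSW

open Subgroup

universe u

variable {G : Type u} [Group G]

/-- An involution whose centralizer is a four-group. -/
structure FourCent (G : Type u) [Group G] where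
  x : G
  hx : orderOf x = 2
  card_four : Nat.card (Subgroup.centralizer ({x} : Set G)) = 4
  sq : ∀ a ∈ Subgroup.centralizer ({x} : Set G), a * a = 1

namespace FourCent

variable (F : FourCent G)

/-- The centralizer. -/
abbrev C : Subgroup G := Subgroup.centralizer ({F.x} : Set G)

theorem x_mem : F.x ∈ F.C := mem_cent.mpr rfl

theorem comm {a b : G} (ha : a ∈ F.C) (hb : b ∈ F.C) : a * b = b * a := by
  have hi : ∀ c ∈ F.C, c⁻¹ = c := fun c hc => inv_eq_of_mul_eq_one_right (F.sq c hc)
  calc a * b = (a * b)⁻¹ := (hi _ (mul_mem ha hb)).symm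
    _ = b * a := by rw [mul_inv_rev, hi a ha, hi b hb]

theorem order_two {a : G} (ha : a ∈ F.C) (h1 : a ≠ 1) : orderOf a = 2 := order_of_sq (F.sq a ha) h1

variable [Finite G]

theorem cases {a : G} (ha : a ∈ F.C) (hax : a ≠ F.x) (ha1 : a ≠ 1) {b : G} (hb : b ∈ F.C) :
    b = 1 ∨ b = F.x ∨ b = a ∨ b = F.x * a := by
  classical
  haveI := Fintype.ofFinite F.C
  by_contra h
  push Not at h
  obtain ⟨h1, h2, h3, h4⟩ := h
  have hx1 := ne_one_of_order F.hx
  have h6 : F.x * a ≠ 1 := fun e => hax (by rw [eq_inv_of_mul_eq_one_right e, inv_of_order F.hx])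
  have h7 : F.x * a ≠ F.x := fun e => ha1 (by simpa using e)
  have h8 : F.x * a ≠ a := fun e => hx1 (by simpa using e)
  have hle := Finset.card_le_univ
    ({⟨b, hb⟩, 1, ⟨F.x, F.x_mem⟩, ⟨a, ha⟩, ⟨F.x * a, mul_mem F.x_mem ha⟩} : Finset F.C)
  rw [← Nat.card_eq_fintype_card, F.card_four,
    Finset.card_insert_of_notMem (by simp [Subtype.ext_iff, h1, h2, h3, h4]),
    Finset.card_insert_of_notMem (by simp [Subtype.ext_iff, hx1.symm, ha1.symm, h6.symm]),
    Finset.card_insert_of_notMem (by simp [Subtype.ext_iff, hax.symm, h7.symm]),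
    Finset.card_pair (fun e => h8 (congrArg Subtype.val e).symm)] at hle
  omega

theorem cent_of_mem_eq {a : G} (ha : a ∈ F.C) (hconj : IsConj F.x a) :
    Subgroup.centralizer ({a} : Set G) = F.C := by
  obtain ⟨g, hg⟩ := isConj_iff.mp hconj
  refine (Subgroup.eq_of_le_of_card_ge (fun b hb => mem_cent.mpr (F.comm hb ha)) ?_).symm
  rw [← hg, card_cent_conj]

/-- If every elementary abelian normal 2-subgroup has order different from 2 and 4,
the centralizer is a Sylow 2-subgroup. -/
theorem exists_sylow (hne : ∀ E : Subgroup G, E.Normal → Cfsg.IsElementaryAbelian 2 E →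
    Nat.card ↥E ≠ 2 ∧ Nat.card ↥E ≠ 4) : ∃ P : Sylow 2 G, (P : Subgroup G) = F.C := by
  haveI := Fact.mk Nat.prime_two
  obtain ⟨P, hP⟩ := (IsPGroup.of_card (n := 2) (by rw [F.card_four]; norm_num) : IsPGroup 2 F.C).exists_le_sylow
  refine ⟨P, ?_⟩
  by_contra hPC
  have hPp : IsPGroup 2 P := P.2
  haveI : Nontrivial P := Finite.one_lt_card_iff_nontrivial.mp
    (lt_of_lt_of_le (by rw [F.card_four]; norm_num) (Subgroup.card_le_of_le hP))
  haveI := hPp.center_nontrivial
  obtain ⟨z0, hz0⟩ := exists_prime_orderOf_dvd_card' 2 (G := Subgroup.center P) (by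
    obtain ⟨n, hn, hc⟩ := (IsPGroup.to_subgroup hPp (Subgroup.center P)).nontrivial_iff_card.mp inferInstance
    rw [hc]; exact dvd_pow_self 2 hn.ne')
  rw [← Subgroup.orderOf_coe, ← Subgroup.orderOf_coe] at hz0
  set z : G := ((z0 : P) : G) with hzdef
  have hzc : ∀ b ∈ (P : Subgroup G), b * z = z * b := fun b hb =>
    congrArg Subtype.val (Subgroup.mem_center_iff.mp z0.2 ⟨b, hb⟩)
  have hzC : z ∈ F.C := mem_cent.mpr (hzc F.x (hP F.x_mem)).symm
  have hzP : z ∈ (P : Subgroup G) := (z0 : P).2
  have hz1 : z ≠ 1 := ne_one_of_order hz0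
  have hzx : z ≠ F.x := fun e => hPC (le_antisymm (fun b hb => mem_cent.mpr (e ▸ hzc b hb)) hP)
  -- an element of `P` normalizing, not in, the centralizer
  haveI : Group.IsNilpotent P := hPp.isNilpotent
  have hlt : F.C.subgroupOf (P : Subgroup G) < ⊤ :=
    lt_top_iff_ne_top.mpr fun h => hPC (le_antisymm (Subgroup.subgroupOf_eq_top.mp h) hP)
  obtain ⟨n, hnN, hn⟩ := SetLike.exists_of_lt (Group.normalizerCondition_of_isNilpotent _ hlt)
  have hxx : IsConj F.x (F.x * z) := by
    have hmem : (n : G) * F.x * (n : G)⁻¹ ∈ F.C :=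
      (Subgroup.mem_normalizer_iff.mp hnN ⟨F.x, hP F.x_mem⟩).mp F.x_mem
    rcases F.cases hzC hzx hz1 hmem with e | e | e | e
    · exact absurd (conj_eq_one_iff.mp e) (ne_one_of_order F.hx)
    · exact absurd (mem_cent.mpr (mul_inv_eq_iff_eq_mul.mp e) : (n : G) ∈ F.C) hn
    · refine absurd ?_ hzx
      have e' : (n : G) * F.x * (n : G)⁻¹ = (n : G) * z * (n : G)⁻¹ := by
        rw [e, hzc _ n.2, mul_inv_cancel_right]
      exact (mul_left_cancel (mul_right_cancel e')).symm
    · exact isConj_iff.mpr ⟨n, e⟩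
  have hnc : ¬ IsConj F.x z := fun h => by
    have hle : (P : Subgroup G) ≤ Subgroup.centralizer ({z} : Set G) := fun b hb => mem_cent.mpr (hzc b hb)
    rw [F.cent_of_mem_eq hzC h] at hle
    exact hPC (le_antisymm hle hP)
  have hcent : ∀ g : G, g * z * g⁻¹ ∈ Subgroup.centralizer ({z} : Set G) := by
    intro g
    set z' := g * z * g⁻¹ with hz'def
    have hz' : orderOf z' = 2 := ((MulAut.conj g).orderOf_eq z).trans hz0
    have hnc' : ¬ IsConj F.x z' := fun h => hnc (h.trans (isConj_iff.mpr ⟨g, rfl⟩ : IsConj z z').symm)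
    have hinC : z' ∈ F.C → z' ∈ Subgroup.centralizer ({z} : Set G) := fun h => mem_cent.mpr (F.comm h hzC)
    have heven : Even (orderOf (F.x * z')) := by
      rw [← Nat.not_odd_iff_even]
      intro hodd
      obtain ⟨d, -, hd⟩ := Involution.exists_conj_pair_of_odd (sq_of_order F.hx) (sq_of_order hz') hodd
      exact hnc' (isConj_iff.mpr ⟨d, hd⟩)
    obtain ⟨hw, hwx, hwz⟩ := Involution.half_power_facts (sq_of_order F.hx) (sq_of_order hz') heven
    set w := (F.x * z') ^ (orderOf (F.x * z') / 2)
    rcases F.cases hzC hzx hz1 (mem_cent.mpr hwx.eq : w ∈ F.C) with e | e | e | e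
    · exact absurd e (ne_one_of_order hw)
    · exact hinC (mem_cent.mpr (e ▸ hwz.eq.symm))
    · exact mem_cent.mpr (e ▸ hwz.eq.symm)
    · refine hinC ?_
      rw [← F.cent_of_mem_eq (mul_mem F.x_mem hzC) hxx]
      exact mem_cent.mpr (e ▸ hwz.eq.symm)
  -- the normal closure of `z`
  set A := Subgroup.normalClosure ({z} : Set G) with hA
  have hAz : z ∈ A := Subgroup.subset_normalClosure rfl
  have hpair : ∀ a ∈ Group.conjugatesOfSet ({z} : Set G), ∀ b ∈ Group.conjugatesOfSet ({z} : Set G),
      a * b = b * a := by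
    intro a ha b hb
    obtain ⟨_, rfl, hga⟩ := Group.mem_conjugatesOfSet_iff.mp ha
    obtain ⟨_, rfl, hgb⟩ := Group.mem_conjugatesOfSet_iff.mp hb
    obtain ⟨g, rfl⟩ := isConj_iff.mp hga
    obtain ⟨h, rfl⟩ := isConj_iff.mp hgb
    have := mem_cent.mp (hcent (g⁻¹ * h))
    calc g * z * g⁻¹ * (h * z * h⁻¹) = g * (z * (g⁻¹ * h * z * (g⁻¹ * h)⁻¹)) * g⁻¹ := by group
      _ = g * (g⁻¹ * h * z * (g⁻¹ * h)⁻¹ * z) * g⁻¹ := by rw [this]
      _ = h * z * h⁻¹ * (g * z * g⁻¹) := by group
  have hAc : ∀ a ∈ A, ∀ b ∈ A, a * b = b * a := by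
    intro a ha b hb
    have h1 : A ≤ Subgroup.centralizer (Group.conjugatesOfSet ({z} : Set G)) :=
      (Subgroup.closure_le _).mpr fun a ha => Subgroup.mem_centralizer_iff.mpr fun b hb => hpair b hb a ha
    have h2 : A ≤ Subgroup.centralizer (A : Set G) :=
      (Subgroup.closure_le _).mpr fun a ha => Subgroup.mem_centralizer_iff.mpr fun b hb =>
        (Subgroup.mem_centralizer_iff.mp (h1 hb) a ha).symm
    exact Subgroup.mem_centralizer_iff.mp (h2 hb) a ha
  have hAsq : ∀ a ∈ A, a * a = 1 := by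
    intro a ha
    refine Subgroup.closure_induction (p := fun a _ => a * a = 1) ?_ (one_mul 1) ?_ ?_ ha
    · intro a ha
      obtain ⟨_, rfl, hga⟩ := Group.mem_conjugatesOfSet_iff.mp ha
      obtain ⟨g, rfl⟩ := isConj_iff.mp hga
      rw [show g * z * g⁻¹ * (g * z * g⁻¹) = g * (z * z) * g⁻¹ by group, sq_of_order hz0]
      group
    · intro a b ha hb h h'
      rw [show a * b * (a * b) = a * (b * a) * b by group, hAc b hb a ha,
        show a * (a * b) * b = (a * a) * (b * b) by group, h, h', one_mul]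
    · intro a _ h
      rw [← mul_inv_rev, h, inv_one]
  have hel : Cfsg.IsElementaryAbelian 2 A :=
    ⟨⟨⟨fun a b => Subtype.ext (hAc a a.2 b b.2)⟩⟩, fun a ha => by rw [pow_two]; exact hAsq a ha⟩
  obtain ⟨hA2, hA4⟩ := hne A Subgroup.normalClosure_normal hel
  by_cases hxA : F.x ∈ A
  · have hAC : A = F.C := by
      refine le_antisymm (fun a ha => mem_cent.mpr (hAc a ha F.x hxA)) fun b hb => ?_
      rcases F.cases hzC hzx hz1 hb with e | e | e | e <;> rw [e]
      · exact one_mem _
      · exact hxA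
      · exact hAz
      · exact mul_mem hxA hAz
    exact hA4 (by rw [hAC, F.card_four])
  · have hAx : ∀ a ∈ A, F.x * a * F.x⁻¹ ∈ A := fun a ha =>
      Subgroup.normalClosure_normal.conj_mem a ha F.x
    let φ : A →* A :=
      { toFun := fun a => ⟨F.x * (a : G) * F.x⁻¹ * a, mul_mem (hAx _ a.2) a.2⟩
        map_one' := Subtype.ext (by simp)
        map_mul' := fun a b => Subtype.ext (by
          show F.x * ((a : G) * b) * F.x⁻¹ * ((a : G) * b) = F.x * a * F.x⁻¹ * a * (F.x * b * F.x⁻¹ * b)
          calc F.x * ((a : G) * b) * F.x⁻¹ * ((a : G) * b)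
              = F.x * a * F.x⁻¹ * ((F.x * b * F.x⁻¹) * a) * b := by group
            _ = F.x * a * F.x⁻¹ * (a * (F.x * b * F.x⁻¹)) * b := by rw [hAc _ (hAx _ b.2) _ a.2]
            _ = F.x * a * F.x⁻¹ * a * (F.x * b * F.x⁻¹ * b) := by group) }
    set B := (F.C ⊓ A).subgroupOf A with hB
    have hBc : Nat.card B ≤ 2 := by
      rw [hB, Nat.card_congr (Subgroup.subgroupOfEquivOfLe inf_le_right).toEquiv]
      by_contra hlt
      have hd : Nat.card (F.C ⊓ A : Subgroup G) ∣ 2 ^ 2 := by
        rw [show (2 : ℕ) ^ 2 = Nat.card F.C by rw [F.card_four]; norm_num]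
        exact Subgroup.card_dvd_of_le inf_le_left
      obtain ⟨i, hi, hci⟩ := (Nat.dvd_prime_pow Nat.prime_two).mp hd
      have hCA : F.C ⊓ A = F.C := Subgroup.eq_of_le_of_card_ge inf_le_left (by
        rw [F.card_four, hci]; interval_cases i <;> simp_all)
      exact hxA (inf_eq_left.mp hCA F.x_mem)
    have hrange : φ.range ≤ B := by
      rintro _ ⟨a, rfl⟩
      refine Subgroup.mem_subgroupOf.mpr ⟨mem_cent.mpr ?_, (φ a).2⟩
      show F.x * (a : G) * F.x⁻¹ * a * F.x = F.x * (F.x * (a : G) * F.x⁻¹ * a)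
      rw [hAc _ (hAx _ a.2) _ a.2, inv_of_order F.hx,
        show (a : G) * (F.x * a * F.x) * F.x = a * F.x * a * (F.x * F.x) by group,
        show F.x * (a * (F.x * a * F.x)) = F.x * a * F.x * (a * F.x) by group, sq_of_order F.hx, mul_one]
      have := hAc _ (hAx _ a.2) _ a.2
      rw [inv_of_order F.hx] at this
      calc (a : G) * F.x * a = a * (F.x * a * F.x) * F.x := by
            rw [show (a : G) * (F.x * a * F.x) * F.x = a * F.x * a * (F.x * F.x) by group, sq_of_order F.hx, mul_one]
        _ = (F.x * a * F.x) * a * F.x := by rw [this]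
        _ = F.x * a * F.x * (a * F.x) := by group
    have hker : φ.ker ≤ B := by
      intro a ha
      have e : F.x * (a : G) * F.x⁻¹ * a = 1 := congrArg Subtype.val (MonoidHom.mem_ker.mp ha)
      refine Subgroup.mem_subgroupOf.mpr ⟨mem_cent.mpr ?_, a.2⟩
      have e2 : F.x * (a : G) * F.x⁻¹ = a := by
        rw [eq_inv_of_mul_eq_one_left e]
        exact inv_eq_of_mul_eq_one_right (hAsq _ a.2)
      exact (mul_inv_eq_iff_eq_mul.mp e2).symm
    have hprod : Nat.card φ.ker * Nat.card φ.range = Nat.card A := by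
      rw [← Subgroup.index_ker, mul_comm]
      exact Subgroup.index_mul_card φ.ker
    have h1 := Subgroup.card_le_of_le hrange
    have h2 := Subgroup.card_le_of_le hker
    have h3 : Nat.card A ≤ 4 := by rw [← hprod]; exact Nat.mul_le_mul (h2.trans hBc) (h1.trans hBc)
    have h4 : 2 ∣ Nat.card A := by
      rw [← hz0, ← Subgroup.orderOf_mk z hAz]
      exact orderOf_dvd_natCard _
    have := Nat.card_pos (α := A)
    omega

/-- With a Sylow 2-subgroup `C` and no normal 2-complement there is one class of involutions. -/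
theorem isConj_x (P : Sylow 2 G) (hP : (P : Subgroup G) = F.C) (hnc : ¬ Cfsg.HasNormalPComplement 2 G)
    {u : G} (hu : orderOf u = 2) : IsConj F.x u := by
  haveI := Fact.mk Nat.prime_two
  have hCC : Subgroup.centralizer (F.C : Set G) = F.C :=
    le_antisymm (fun a ha => mem_cent.mpr ((Subgroup.mem_centralizer_iff.mp ha F.x F.x_mem).symm))
      fun a ha => Subgroup.mem_centralizer_iff.mpr fun b hb => F.comm hb ha
  obtain ⟨n, hnN, hn⟩ : ∃ n ∈ Subgroup.normalizer (F.C : Set G), n ∉ F.C := by
    by_contra h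
    push Not at h
    refine hnc (Transfer.hasNormalPComplement_of_normalizer_le_centralizer P ?_)
    show Subgroup.normalizer ((P : Subgroup G) : Set G) ≤ Subgroup.centralizer ((P : Subgroup G) : Set G)
    rw [hP, hCC]
    exact h
  set N := Subgroup.normalizer (F.C : Set G) with hN
  haveI : (F.C.subgroupOf N).Normal := Subgroup.normal_in_normalizer
  have hodd : ¬ 2 ∣ (F.C.subgroupOf N).index := fun h => P.not_dvd_index (by
    rw [hP]; exact h.trans (Subgroup.relIndex_dvd_index_of_le Subgroup.le_normalizer))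
  have hn2 : n * n ∉ F.C := fun h => hn (by
    obtain ⟨j, hj⟩ := (Nat.odd_iff.mpr (Nat.two_dvd_ne_zero.mp hodd))
    have h1 : (⟨n, hnN⟩ : N) ^ (F.C.subgroupOf N).index ∈ F.C.subgroupOf N := Subgroup.pow_index_mem _ _
    rw [Subgroup.mem_subgroupOf, Subgroup.coe_pow, hj, pow_succ, pow_mul, pow_two] at h1
    exact (Subgroup.mul_mem_cancel_left _ (pow_mem h _)).mp h1)
  have hy : n * F.x * n⁻¹ ∈ F.C := (Subgroup.mem_normalizer_iff.mp hnN F.x).mp F.x_mem
  have hy1 : n * F.x * n⁻¹ ≠ 1 := fun e => ne_one_of_order F.hx (conj_eq_one_iff.mp e)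
  have hyx : n * F.x * n⁻¹ ≠ F.x := fun e => hn (mem_cent.mpr (mul_inv_eq_iff_eq_mul.mp e))
  have hz : n * n * F.x * (n * n)⁻¹ ∈ F.C :=
    (Subgroup.mem_normalizer_iff.mp (mul_mem hnN hnN) F.x).mp F.x_mem
  have hall : ∀ v ∈ F.C, v ≠ 1 → IsConj F.x v := by
    intro v hv hv1
    have hc1 : IsConj F.x (n * F.x * n⁻¹) := isConj_iff.mpr ⟨n, rfl⟩
    rcases F.cases hy hyx hy1 hv with e | e | e | e
    · exact absurd e hv1
    · exact e ▸ IsConj.refl _
    · exact e ▸ hc1
    · refine isConj_iff.mpr ⟨n * n, ?_⟩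
      rcases F.cases hy hyx hy1 hz with e' | e' | e' | e'
      · exact absurd (conj_eq_one_iff.mp e') (ne_one_of_order F.hx)
      · exact absurd (mem_cent.mpr (mul_inv_eq_iff_eq_mul.mp e')) hn2
      · refine absurd ?_ hyx
        have h' : n * (n * F.x * n⁻¹) * n⁻¹ = n * F.x * n⁻¹ :=
          (show n * (n * F.x * n⁻¹) * n⁻¹ = n * n * F.x * (n * n)⁻¹ by group).trans e'
        exact mul_left_cancel (mul_right_cancel h')
      · rw [e', e]
  obtain ⟨T, hT⟩ := (IsPGroup.of_card (n := 1) (by rw [Nat.card_zpowers, hu, pow_one])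
    : IsPGroup 2 (Subgroup.zpowers u)).exists_le_sylow
  obtain ⟨v, hv⟩ := MulAction.exists_smul_eq G T P
  have huC : v * u * v⁻¹ ∈ F.C := by
    rw [← hP, ← hv, Sylow.coe_subgroup_smul]
    exact ⟨u, hT (Subgroup.mem_zpowers u), rfl⟩
  exact (hall _ huC fun e => ne_one_of_order hu (conj_eq_one_iff.mp e)).trans
    (isConj_iff.mpr ⟨v, rfl⟩ : IsConj u (v * u * v⁻¹)).symm

/-- The Brauer–Suzuki–Wall configuration with `|K| = 2`. -/
noncomputable def config (hone : ∀ u : G, orderOf u = 2 → IsConj F.x u) (s : G) (hs : s ∈ F.C) (hs1 : s ≠ 1)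
    (hsx : s ≠ F.x) : Config G where
  t := F.x
  K := Subgroup.zpowers F.x
  s := s
  ht := F.hx
  comm := fun a ha b hb => F.comm ((Subgroup.zpowers_le.mpr F.x_mem) ha) ((Subgroup.zpowers_le.mpr F.x_mem) hb)
  hKH := Subgroup.zpowers_le.mpr F.x_mem
  htK := Subgroup.mem_zpowers _
  hs := F.order_two hs hs1
  hsH := hs
  hsK := fun h => by
    obtain ⟨i, hi⟩ := Subgroup.mem_zpowers_iff.mp h
    rw [← zpow_mod_orderOf, F.hx] at hi
    rcases Int.emod_two_eq_zero_or_one i with e | e <;> rw [show ((2 : ℕ) : ℤ) = 2 from rfl, e] at hi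
    · exact hs1 (by simpa using hi.symm)
    · exact hsx (by simpa using hi.symm)
  hH := by
    refine le_antisymm (sup_le (Subgroup.zpowers_le.mpr F.x_mem) (Subgroup.zpowers_le.mpr hs)) fun b hb => ?_
    rcases F.cases hs hsx hs1 hb with e | e | e | e <;> rw [e]
    · exact one_mem _
    · exact Subgroup.mem_sup_left (Subgroup.mem_zpowers _)
    · exact Subgroup.mem_sup_right (Subgroup.mem_zpowers _)
    · exact mul_mem (Subgroup.mem_sup_left (Subgroup.mem_zpowers _))
        (Subgroup.mem_sup_right (Subgroup.mem_zpowers _))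
  hCK := inf_eq_left.mpr fun a ha => mem_cent.mpr (F.comm (Subgroup.zpowers_le.mpr F.x_mem ha) hs)
  hinv := fun a ha => by
    have haC := Subgroup.zpowers_le.mpr F.x_mem ha
    rw [F.comm hs haC, mul_inv_cancel_right, inv_eq_of_mul_eq_one_right (F.sq a haC)]
  hTI := fun g hg => by
    refine (Subgroup.eq_bot_iff_forall _).mpr fun y ⟨hy, z, hz, hzy⟩ => by_contra fun h1 => hg ?_
    have key : ∀ a ∈ Subgroup.zpowers F.x, a ≠ 1 → a = F.x := fun a ha ha1 => by
      obtain ⟨i, rfl⟩ := Subgroup.mem_zpowers_iff.mp ha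
      rw [← zpow_mod_orderOf, F.hx] at ha1 ⊢
      rcases Int.emod_two_eq_zero_or_one i with e | e <;> rw [show ((2 : ℕ) : ℤ) = 2 from rfl, e] at ha1 ⊢
      · simp at ha1
      · simp
    have hzy' : g * z * g⁻¹ = y := hzy
    have hz1 : z ≠ 1 := fun e => h1 (by rw [← hzy', e]; group)
    rw [key y hy h1, key z hz hz1] at hzy'
    exact mem_cent.mpr (mul_inv_eq_iff_eq_mul.mp hzy')
  hconj := fun a b ha hb => (hone a ha).symm.trans (hone b hb)

include F in
/-- The recognition of `A₅`. -/
theorem iso_alternating (hnc : ¬ Cfsg.HasNormalPComplement 2 G)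
    (hne : ∀ E : Subgroup G, E.Normal → Cfsg.IsElementaryAbelian 2 E → Nat.card ↥E ≠ 2 ∧ Nat.card ↥E ≠ 4) :
    Nonempty (G ≃* ↥(alternatingGroup (Fin 5))) := by
  haveI := Fact.mk Nat.prime_two
  haveI := Fintype.ofFinite G
  obtain ⟨P, hP⟩ := F.exists_sylow hne
  have hone : ∀ u : G, orderOf u = 2 → IsConj F.x u := fun u hu => F.isConj_x P hP hnc hu
  obtain ⟨s, hs, hs1, hsx⟩ : ∃ s ∈ F.C, s ≠ 1 ∧ s ≠ F.x := by
    by_contra h
    push Not at h
    have hsub : F.C ≤ Subgroup.zpowers F.x := fun a ha => by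
      by_cases ha1 : a = 1
      · rw [ha1]; exact one_mem _
      · rw [h a ha ha1]; exact Subgroup.mem_zpowers _
    have := Subgroup.card_le_of_le hsub
    rw [F.card_four, Nat.card_zpowers, F.hx] at this
    omega
  set c := F.config hone s hs hs1 hsx with hc
  have h2 : Nat.card c.K = 2 := (Nat.card_zpowers F.x).trans F.hx
  have hG := c.card_G_two h2
  have hN60 : Nat.card G = 60 := by
    rcases c.numInv_two h2 with e | e
    · exfalso
      rw [e] at hG
      -- the three involutions make up a normal four-group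
      have hinvol : ∀ u : G, orderOf u = 2 → u ∈ F.C := by
        intro u hu
        by_contra hn
        classical
        haveI := Fintype.ofFinite {u : G // orderOf u = 2}
        have hle := Finset.card_le_univ ({⟨u, hu⟩, ⟨F.x, F.hx⟩, ⟨s, F.order_two hs hs1⟩,
          ⟨F.x * s, F.order_two (mul_mem F.x_mem hs) (fun e => hsx (by
            rw [eq_inv_of_mul_eq_one_right e, inv_of_order F.hx]))⟩} : Finset {u : G // orderOf u = 2})
        have n1 : u ≠ F.x := fun e => hn (e ▸ F.x_mem)
        have n2 : u ≠ s := fun e => hn (e ▸ hs)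
        have n3 : u ≠ F.x * s := fun e => hn (e ▸ mul_mem F.x_mem hs)
        have n4 : F.x ≠ F.x * s := fun e => hs1 (by simpa using e.symm)
        have n5 : s ≠ F.x * s := fun e => ne_one_of_order F.hx (by simpa using e.symm)
        rw [← Nat.card_eq_fintype_card, show Nat.card {u : G // orderOf u = 2} = 3 from e,
          Finset.card_insert_of_notMem (by simp [n1, n2, n3]),
          Finset.card_insert_of_notMem (by simp [hsx.symm, n4]),
          Finset.card_pair (fun e => n5 (congrArg Subtype.val e))] at hle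
        omega
      have hCn : F.C.Normal := ⟨fun a ha g => by
        by_cases ha1 : a = 1
        · subst ha1; simp
        · exact hinvol _ (((MulAut.conj g).orderOf_eq a).trans (F.order_two ha ha1))⟩
      exact (hne F.C hCn ⟨⟨⟨fun a b => Subtype.ext (F.comm a.2 b.2)⟩⟩,
        fun a ha => by rw [pow_two]; exact F.sq a ha⟩).2 F.card_four
    · rw [hG, e]
  obtain ⟨Q, D, hQ1, hQC, -, hD2, -, hNQ, hX⟩ := c.conclusion
  have hQ5 : Nat.card Q = 5 := by
    rw [hN60] at hQ1
    have hle : Nat.card Q ≤ 5 := by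
      by_contra hlt
      have h6 : 6 ≤ Nat.card Q := by omega
      have := Nat.mul_le_mul (Nat.mul_le_mul h6 (show 7 ≤ Nat.card Q + 1 by omega))
        (show 5 ≤ Nat.card Q - 1 by omega)
      omega
    interval_cases hq : Nat.card Q <;> omega
  haveI : Nontrivial G := Finite.one_lt_card_iff_nontrivial.mp (by omega)
  haveI : IsSimpleGroup G := by
    refine ⟨fun N hN => ?_⟩
    haveI := hN
    by_cases heven : 2 ∣ Nat.card N
    · right
      obtain ⟨w, hw⟩ := exists_prime_orderOf_dvd_card' 2 heven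
      rw [← Subgroup.orderOf_coe] at hw
      have hall : ∀ u : G, orderOf u = 2 → u ∈ N := fun u hu => by
        obtain ⟨v, hv⟩ := isConj_iff.mp ((hone _ hw).symm.trans (hone u hu))
        rw [← hv]; exact hN.conj_mem _ w.2 v
      have h15 : 15 < Nat.card N := by
        have hinvcard : Nat.card {u : G // orderOf u = 2} = 15 := by
          have := c.card_G_two h2
          rw [hN60] at this
          show c.numInv = 15
          omega
        let f : Option {u : G // orderOf u = 2} → N := fun o => o.elim 1 fun u => ⟨u.1, hall _ u.2⟩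
        have hf : Function.Injective f := by
          rintro (_ | a) (_ | b) h
          · rfl
          · exact absurd (congrArg Subtype.val h).symm (ne_one_of_order b.2)
          · exact absurd (congrArg Subtype.val h) (ne_one_of_order a.2)
          · exact congrArg some (Subtype.ext (congrArg Subtype.val h :))
        have := Nat.card_le_card_of_injective f hf
        rw [Finite.card_option, hinvcard] at this
        omega
      have hdvd : Nat.card N ∣ 60 := hN60 ▸ Subgroup.card_subgroup_dvd_card N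
      haveI : Fact (Nat.Prime 5) := ⟨by norm_num⟩
      have h5 : 5 ∣ Nat.card N := by
        have := Nat.le_of_dvd (by norm_num) hdvd
        interval_cases (Nat.card N) <;> omega
      have hQle : Q ≤ N := by
        have hidx : ¬ 5 ∣ N.index := fun h => by
          have h25 := Nat.mul_dvd_mul h h5
          rw [Subgroup.index_mul_card, hN60] at h25
          norm_num at h25
        intro q hq
        by_cases hq1 : q = 1
        · rw [hq1]; exact one_mem _
        have ho : orderOf q = 5 := by
          refine orderOf_eq_prime ?_ hq1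
          have := congrArg Subtype.val (pow_card_eq_one' (x := (⟨q, hq⟩ : Q)))
          rwa [hQ5] at this
        obtain ⟨v, hv⟩ := exists_conj_mem_of_coprime_index N 5 ho hidx
        have := hN.conj_mem _ hv v⁻¹
        rwa [show v⁻¹ * (v * q * v⁻¹) * v⁻¹⁻¹ = q by group] at this
      have hDle : D ≤ N := by
        intro d hd
        by_cases hd1 : d = 1
        · rw [hd1]; exact one_mem _
        · refine hall d (orderOf_eq_prime ?_ hd1)
          have := congrArg Subtype.val (pow_card_eq_one' (x := (⟨d, hd⟩ : D)))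
          rwa [show Nat.card D = 2 by omega] at this
      have hS : IsPGroup 5 Q := IsPGroup.of_card (n := 1) (by rw [hQ5, pow_one])
      have hSi : ¬ 5 ∣ Q.index := fun h => by
        have := Subgroup.index_mul_card Q
        rw [hQ5, hN60] at this
        omega
      have htop := Sylow.normalizer_sup_eq_top' (hS.toSylow hSi) (show ((hS.toSylow hSi : Sylow 5 G) : Subgroup G) ≤ N from hQle)
      refine top_le_iff.mp (htop ▸ sup_le ?_ le_rfl)
      show Subgroup.normalizer (Q : Set G) ≤ N
      rw [hNQ]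
      exact sup_le hQle hDle
    · left
      refine (Subgroup.eq_bot_iff_forall _).mpr fun n hn => ?_
      have hcop : (Nat.card N).Coprime 4 :=
        (((Nat.prime_two.coprime_iff_not_dvd).mpr heven).pow_left 2).symm
      have hinv : ∀ u : G, orderOf u = 2 → u * n * u⁻¹ = n⁻¹ := by
        intro u hu
        let φ : N →* N :=
          { toFun := fun a => ⟨u * (a : G) * u⁻¹, hN.conj_mem _ a.2 u⟩
            map_one' := Subtype.ext (by simp)
            map_mul' := fun a b => Subtype.ext (by simp [mul_assoc]) }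
        have hfix : MonoidHom.FixedPointFree φ := fun a ha => by
          have e : u * (a : G) * u⁻¹ = a := congrArg Subtype.val ha
          obtain ⟨v, hv⟩ := isConj_iff.mp (hone u hu)
          have hm : v⁻¹ * (a : G) * v ∈ F.C := by
            rw [FourCent.C, ← cent_conj, hv]
            exact mem_cent.mpr (mul_inv_eq_iff_eq_mul.mp e).symm
          have h4 : orderOf (v⁻¹ * (a : G) * v) ∣ 4 := by
            rw [← F.card_four, ← Subgroup.orderOf_mk _ hm]
            exact orderOf_dvd_natCard _
          rw [show v⁻¹ * (a : G) * v = MulAut.conj v⁻¹ (a : G) by simp, MulEquiv.orderOf_eq,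
            Subgroup.orderOf_coe] at h4
          exact orderOf_eq_one_iff.mp (Nat.eq_one_of_dvd_coprimes hcop (orderOf_dvd_natCard a) h4)
        have hinvol : Function.Involutive φ := fun a => Subtype.ext (by
          show u * (u * (a : G) * u⁻¹) * u⁻¹ = a
          rw [show u * (u * (a : G) * u⁻¹) * u⁻¹ = (u * u) * (a : G) * (u * u)⁻¹ by group, sq_of_order hu]
          simp)
        exact congrArg Subtype.val (congrFun (hfix.coe_eq_inv_of_involutive hinvol) ⟨n, hn⟩)
      have hxs : F.x * s ∈ F.C := mul_mem F.x_mem hs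
      have hts := hinv _ (F.order_two hxs (fun e => hsx (by
        rw [eq_inv_of_mul_eq_one_right e, inv_of_order F.hx])))
      rw [show F.x * s * n * (F.x * s)⁻¹ = F.x * (s * n * s⁻¹) * F.x⁻¹ by group, hinv _ (F.order_two hs hs1),
        ← conj_inv, hinv _ F.hx, inv_inv] at hts
      have h2 : n * n = 1 := by nth_rw 2 [hts]; exact mul_inv_cancel n
      have hd : orderOf n ∣ Nat.card N := by
        rw [← Subgroup.orderOf_mk n hn]; exact orderOf_dvd_natCard _
      have h2' : orderOf n ∣ 4 := (orderOf_dvd_of_pow_eq_one (by rw [pow_two]; exact h2)).trans ⟨2, rfl⟩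
      exact orderOf_eq_one_iff.mp (Nat.eq_one_of_dvd_coprimes hcop hd h2')
  refine SmallSimple.iso_alternating_five (fun hcomm => ?_) hN60
  have hC : F.C = ⊤ := top_le_iff.mp fun a _ => mem_cent.mpr (hcomm.is_comm.comm a F.x)
  have := F.card_four
  rw [show Subgroup.centralizer ({F.x} : Set G) = ⊤ from hC, Subgroup.card_top, hN60] at this
  omega

end FourCent

end Cfsg.Agent.BSW
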