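import Cfsg.Agent.Lib.Char.RealChar

/-!
The convolution square of a class function and its expansion in irreducible characters.
-/

set_option autoImplicit false

namespace Cfsg.Agent.BSW

open scoped ComplexConjugate
open Char

universe u

variable {G : Type u} [Group G] [Fintype G]

/-- `conv b g = ∑_{y z = g} b y * b z`. -/
noncomputable def conv (b : G → ℂ) (g : G) : ℂ := ∑ y : G, b y * b (y⁻¹ * g)

theorem isClassFunction_conv {b : G → ℂ} (hb : IsClassFunction G b) : IsClassFunction G (conv b) := by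
  intro g h
  refine (Fintype.sum_equiv (MulAut.conj h).toEquiv _ _ fun y => ?_).symm
  show b y * b (y⁻¹ * g) = b (h * y * h⁻¹) * b ((h * y * h⁻¹)⁻¹ * (h * g * h⁻¹))
  rw [hb y h, show (h * y * h⁻¹)⁻¹ * (h * g * h⁻¹) = h * (y⁻¹ * g) * h⁻¹ by group, hb _ h]

theorem sum_sum_mul_apply {b : G → ℂ} (hb : IsClassFunction G b) (χ : IrrCharacter G) :
    ∑ y : G, ∑ z : G, b y * b z * χ.1 (y * z) = (∑ g, b g * χ.1 g) ^ 2 / χ.1 1 := by
  have hne := IsIrrCharacter.apply_one_ne_zero χ.2
  obtain ⟨n, ρ, hρ, he⟩ := χ.2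
  haveI := hρ
  rw [← he] at hne ⊢
  obtain ⟨a, ha⟩ := exists_opSum_eq_smul hb ρ
  have hop : opSum b ρ = a • (LinearMap.id : (Fin n → ℂ) →ₗ[ℂ] (Fin n → ℂ)) := LinearMap.ext fun x => by simp [ha]
  have hd : ρ.character 1 = n := by rw [Representation.char_one]; simp
  have h1 : ∑ g, b g * ρ.character g = a * n := by
    rw [← trace_opSum, hop, map_smul, LinearMap.trace_id]; simp
  have h2 : ∑ y : G, ∑ z : G, b y * b z * ρ.character (y * z) = a * a * n := by
    have : opSum b ρ * opSum b ρ = ∑ y : G, ∑ z : G, (b y * b z) • ρ (y * z) := by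
      simp only [opSum, Finset.sum_mul]
      refine Finset.sum_congr rfl fun y _ => ?_
      rw [Finset.mul_sum]
      refine Finset.sum_congr rfl fun z _ => ?_
      rw [smul_mul_smul_comm, map_mul]
    have ht := congrArg (LinearMap.trace ℂ (Fin n → ℂ)) this
    rw [hop] at ht
    simp only [map_sum, map_smul, smul_eq_mul] at ht
    rw [show (a • (LinearMap.id : (Fin n → ℂ) →ₗ[ℂ] _)) * (a • LinearMap.id) = (a * a) • LinearMap.id from
      LinearMap.ext fun x => by simp [smul_smul], map_smul, LinearMap.trace_id] at ht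
    simpa [Representation.character] using ht.symm
  rw [h1, h2, hd]
  have hn : (n : ℂ) ≠ 0 := hd ▸ hne
  field_simp

theorem classInner_conv {b : G → ℂ} (hb : IsClassFunction G b) (χ : IrrCharacter G) :
    classInner (conv b) χ.1 = (Nat.card G : ℂ) * classInner b χ.1 ^ 2 / χ.1 1 := by
  have h := sum_sum_mul_apply hb (conjIrr χ)
  simp only [conjIrr_apply] at h
  have h' : ∑ g : G, conv b g * conj (χ.1 g) = (∑ g, b g * conj (χ.1 g)) ^ 2 / conj (χ.1 1) := by
    rw [← h]
    simp only [conv, Finset.sum_mul]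
    rw [Finset.sum_comm]
    refine Finset.sum_congr rfl fun y _ => (Fintype.sum_equiv (Equiv.mulLeft y) _ _ fun z => ?_).symm
    simp
  obtain ⟨d, hd⟩ := IsCharacter.apply_one (irr_isCharacter χ)
  have hG : (Nat.card G : ℂ) ≠ 0 := card_ne_zero
  rw [hd, map_natCast] at h'
  rw [classInner, h', classInner, hd]
  field_simp

theorem conv_eq_sum {b : G → ℂ} (hb : IsClassFunction G b) (g : G) :
    conv b g = ∑ χ : IrrCharacter G, (Nat.card G : ℂ) * classInner b χ.1 ^ 2 / χ.1 1 * χ.1 g := by
  conv_lhs => rw [eq_sum_classInner_smul (isClassFunction_conv hb)]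
  rw [Finset.sum_apply]
  exact Finset.sum_congr rfl fun χ _ => by rw [classInner_conv hb, Pi.smul_apply, smul_eq_mul]

end Cfsg.Agent.BSW
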