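import Cfsg.Agent.Lib.BSW.Setup
import Cfsg.Agent.Lib.BSW.Convolution
import Cfsg.Agent.Lib.Char.Induction
import Cfsg.Agent.Lib.Char.Linear
import Cfsg.Agent.Lib.Char.Generalized

/-!
Brauer–Suzuki–Wall: the functions `Ind_K^G (1 - λ)` and their multiplicities in the irreducible characters.
-/

set_option autoImplicit false
set_option linter.style.haveILetI false

namespace Cfsg.Agent.BSW

open scoped ComplexConjugate
open Char

attribute [local instance] Classical.propDecidable

universe u

variable {G : Type u} [Group G]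

namespace Config

variable (c : Config G)

theorem K_comm (a b : c.K) : a * b = b * a := Subtype.ext (c.comm a a.2 b b.2)

theorem lam_one (lam : IrrCharacter c.K) : lam.1 1 = 1 := apply_one_of_comm c.K_comm lam

variable [Fintype G]

noncomputable instance fintypeK : Fintype c.K := Fintype.ofFinite _

theorem lam_mul (lam : IrrCharacter c.K) (x y : c.K) : lam.1 (x * y) = lam.1 x * lam.1 y := by
  obtain ⟨f, hf⟩ := IsCharacter.exists_monoidHom (irr_isCharacter lam) (c.lam_one lam)
  rw [← hf, map_mul]

theorem lam_inv (lam : IrrCharacter c.K) (x : c.K) : lam.1 x⁻¹ = conj (lam.1 x) :=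
  (IsCharacter.conj_apply (irr_isCharacter lam) x).symm

theorem sum_lam (x : c.K) :
    ∑ lam : IrrCharacter c.K, lam.1 x = if x = 1 then (Nat.card c.K : ℂ) else 0 := by
  have := sum_irr_degree_mul x
  simp only [c.lam_one, one_mul] at this
  convert this using 2

theorem card_lam : Fintype.card (IrrCharacter c.K) = Nat.card c.K := by
  have h := c.sum_lam 1
  simp [c.lam_one] at h
  rw [Nat.card_eq_fintype_card]
  exact_mod_cast h

theorem card_sq_eq_one : Nat.card {x : c.K // x * x = 1} = 2 := by
  rw [Nat.card_eq_two_iff]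
  refine ⟨⟨1, by simp⟩, ⟨⟨c.t, c.htK⟩, Subtype.ext c.tt⟩, ?_, ?_⟩
  · intro e
    exact c.t_ne (congrArg Subtype.val (congrArg Subtype.val e)).symm
  · ext ⟨x, hx⟩
    simp only [Set.mem_univ, iff_true, Set.mem_insert_iff, Set.mem_singleton_iff]
    rcases c.eq_one_or_t x.2 (congrArg Subtype.val hx) with e | e
    · exact Or.inl (Subtype.ext (Subtype.ext e))
    · exact Or.inr (Subtype.ext (Subtype.ext e))

/-- There are exactly two real linear characters of `K`. -/
theorem card_real : Nat.card {lam : IrrCharacter c.K // conjIrr lam = lam} = 2 := by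
  classical
  have h1 : ∀ lam : IrrCharacter c.K, classInner lam.1 (conjIrr lam).1 =
      if conjIrr lam = lam then 1 else 0 := by
    intro lam
    rw [classInner_irr lam (conjIrr lam)]
    simp [eq_comm]
  have h2 : ∑ lam : IrrCharacter c.K, classInner lam.1 (conjIrr lam).1 = 2 := by
    simp only [classInner, conjIrr_apply, Complex.conj_conj]
    rw [← Finset.mul_sum, Finset.sum_comm]
    simp only [← c.lam_mul, c.sum_lam, Finset.sum_ite, Finset.sum_const_zero, add_zero, Finset.sum_const,
      nsmul_eq_mul]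
    rw [show (Finset.univ.filter fun x : c.K => x * x = 1).card = 2 from by
      rw [← c.card_sq_eq_one, Nat.card_eq_fintype_card, Fintype.card_subtype]]
    have : (Nat.card c.K : ℂ) ≠ 0 := card_ne_zero
    field_simp
    norm_num
  simp only [h1, Finset.sum_boole] at h2
  rw [Nat.card_eq_fintype_card, Fintype.card_subtype]
  exact_mod_cast h2

theorem conjIrr_triv : conjIrr (trivialChar c.K) = trivialChar c.K :=
  Subtype.ext (funext fun x => by simp)

/-- The real nontrivial linear character of `K`. -/
noncomputable def mu : IrrCharacter c.K :=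
  Classical.choose (show ∃ m : IrrCharacter c.K, m ≠ trivialChar c.K ∧ conjIrr m = m from by
    obtain ⟨a, b, hab, hu⟩ := Nat.card_eq_two_iff.mp c.card_real
    by_cases ha : a.1 = trivialChar c.K
    · exact ⟨b.1, fun hb => hab (Subtype.ext (ha.trans hb.symm)), b.2⟩
    · exact ⟨a.1, ha, a.2⟩)

theorem mu_spec : c.mu ≠ trivialChar c.K ∧ conjIrr c.mu = c.mu := by
  rw [mu]
  exact Classical.choose_spec (p := fun m : IrrCharacter c.K => m ≠ trivialChar c.K ∧ conjIrr m = m) _

theorem real_iff (lam : IrrCharacter c.K) : conjIrr lam = lam ↔ lam = trivialChar c.K ∨ lam = c.mu := by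
  refine ⟨fun h => ?_, ?_⟩
  · obtain ⟨a, b, hab, hu⟩ := Nat.card_eq_two_iff.mp c.card_real
    have hall : ∀ w : {lam : IrrCharacter c.K // conjIrr lam = lam}, w = a ∨ w = b := fun w => by
      have : w ∈ ({a, b} : Set _) := by rw [hu]; trivial
      simpa using this
    have hn := c.mu_spec
    rcases hall ⟨lam, h⟩ with e | e <;> rcases hall ⟨trivialChar c.K, c.conjIrr_triv⟩ with e1 | e1 <;>
      rcases hall ⟨c.mu, hn.2⟩ with e2 | e2
    all_goals first
      | exact Or.inl (congrArg Subtype.val (e.trans e1.symm))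
      | exact Or.inr (congrArg Subtype.val (e.trans e2.symm))
      | exact absurd (congrArg Subtype.val (e2.trans e1.symm)) hn.1
  · rintro (rfl | rfl)
    · exact c.conjIrr_triv
    · exact c.mu_spec.2

/-- A linear character which is not real. -/
def NR (lam : IrrCharacter c.K) : Prop := conjIrr lam ≠ lam

theorem NR.conj {lam : IrrCharacter c.K} (h : c.NR lam) : c.NR (conjIrr lam) := by
  rw [NR, conjIrr_conjIrr]; exact Ne.symm h

theorem NR.ne_triv {lam : IrrCharacter c.K} (h : c.NR lam) : lam ≠ trivialChar c.K :=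
  fun e => h ((c.real_iff lam).mpr (Or.inl e))

theorem NR.ne_mu {lam : IrrCharacter c.K} (h : c.NR lam) : lam ≠ c.mu :=
  fun e => h ((c.real_iff lam).mpr (Or.inr e))

theorem cases_lam (lam : IrrCharacter c.K) : lam = trivialChar c.K ∨ lam = c.mu ∨ c.NR lam := by
  by_cases h : conjIrr lam = lam
  · rcases (c.real_iff lam).mp h with e | e
    · exact Or.inl e
    · exact Or.inr (Or.inl e)
  · exact Or.inr (Or.inr h)

theorem lam_t (lam : IrrCharacter c.K) : lam.1 ⟨c.t, c.htK⟩ = 1 ∨ lam.1 ⟨c.t, c.htK⟩ = -1 := by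
  have h : lam.1 ⟨c.t, c.htK⟩ * lam.1 ⟨c.t, c.htK⟩ = 1 := by
    rw [← c.lam_mul, show (⟨c.t, c.htK⟩ : c.K) * ⟨c.t, c.htK⟩ = 1 from Subtype.ext c.tt, c.lam_one]
  exact mul_self_eq_one_iff.mp h

/-- `1 - λ` on `K`. -/
noncomputable def phi (lam : IrrCharacter c.K) : c.K → ℂ := fun x => 1 - lam.1 x

/-- `Ind_K^G (1 - λ)`. -/
noncomputable def alpha (lam : IrrCharacter c.K) : G → ℂ := indFun c.K (c.phi lam)

theorem phi_one (lam : IrrCharacter c.K) : c.phi lam 1 = 0 := by simp [phi, c.lam_one]

theorem alpha_one (lam : IrrCharacter c.K) : c.alpha lam 1 = 0 := by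
  rw [alpha, indFun_apply_one, phi_one, mul_zero]

theorem alpha_outer {g : G} (hg : c.Outer g) (lam : IrrCharacter c.K) : c.alpha lam g = 0 := by
  refine indFun_eq_zero_of_forall_notMem c.K _ fun v hv => hg.2 ?_
  have := c.KType_conj (c.KType_of_mem hv (fun e => hg.1 (by
    have := congrArg (fun w => v * w * v⁻¹) e
    simpa [mul_assoc] using this))) v
  rwa [show v * (v⁻¹ * g * v) * v⁻¹ = g by group] at this

theorem alpha_of_mem {x : G} (hx : x ∈ c.K) (lam : IrrCharacter c.K) :
    c.alpha lam x = 2 - lam.1 ⟨x, hx⟩ - conj (lam.1 ⟨x, hx⟩) := by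
  classical
  by_cases h1 : x = 1
  · subst h1
    rw [c.alpha_one, show (⟨1, hx⟩ : c.K) = 1 from rfl, c.lam_one]
    norm_num
  set A : ℂ := c.phi lam ⟨x, hx⟩
  set B : ℂ := c.phi lam ⟨x⁻¹, inv_mem hx⟩
  have key : ∀ v : G, extendByZero c.K (c.phi lam) (v⁻¹ * x * v) =
      (if v ∈ c.K then A else 0) + (if v ∈ c.H ∧ v ∉ c.K then B else 0) := by
    intro v
    by_cases hv : v⁻¹ * x * v ∈ c.K
    · have hvH : v ∈ c.H := by
        have := c.conj_mem_imp_H (g := v⁻¹) hx h1 (by rwa [inv_inv])
        simpa using inv_mem this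
      rw [extendByZero_of_mem _ _ hv]
      rcases c.conj_cases (inv_mem hvH) hx with ⟨e, hk⟩ | ⟨e, hk⟩ <;> rw [inv_inv] at e
      · rw [if_pos (by simpa using hk), if_neg (fun h => h.2 (by simpa using hk)), add_zero]
        exact congrArg (c.phi lam) (Subtype.ext e)
      · rw [if_neg (fun h => hk (inv_mem h)), if_pos ⟨hvH, fun h => hk (inv_mem h)⟩, zero_add]
        exact congrArg (c.phi lam) (Subtype.ext e)
    · have hvH : v ∉ c.H := fun h => hv (by simpa using c.conj_mem_K (inv_mem h) hx)
      rw [extendByZero_of_notMem _ _ hv, if_neg (fun h => hvH (c.hKH h)), if_neg (fun h => hvH h.1), add_zero]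
  rw [alpha, indFun]
  simp only [key, Finset.sum_add_distrib, Finset.sum_ite, Finset.sum_const_zero, add_zero, Finset.sum_const,
    nsmul_eq_mul]
  have hK : (Finset.univ.filter fun v : G => v ∈ c.K).card = Nat.card c.K := by
    rw [Nat.card_eq_fintype_card, Fintype.card_subtype]
  have hHK : (Finset.univ.filter fun v : G => v ∈ c.H ∧ v ∉ c.K).card = Nat.card c.K := by
    rw [← c.card_pairs_of_mem_K hx h1, c.pairs_of_mem_K hx h1, ← Fintype.card_subtype, ← Nat.card_eq_fintype_card]
    rfl
  have hk : (Nat.card c.K : ℂ) ≠ 0 := card_ne_zero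
  rw [hK, hHK]
  have hB : B = 1 - conj (lam.1 ⟨x, hx⟩) := by
    show 1 - lam.1 ⟨x⁻¹, inv_mem hx⟩ = _
    rw [← c.lam_inv]
    rfl
  rw [hB, show A = 1 - lam.1 ⟨x, hx⟩ from rfl]
  field_simp
  ring

theorem isClassFunction_alpha (lam : IrrCharacter c.K) : IsClassFunction G (c.alpha lam) :=
  isClassFunction_indFun _ _

theorem cases_g (g : G) : g = 1 ∨ c.KType g ∨ c.Outer g := by
  by_cases h : g = 1
  · exact Or.inl h
  · by_cases h' : c.KType g
    · exact Or.inr (Or.inl h')
    · exact Or.inr (Or.inr ⟨h, h'⟩)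

theorem alpha_conj (lam : IrrCharacter c.K) : c.alpha (conjIrr lam) = c.alpha lam := by
  funext g
  rcases c.cases_g g with rfl | ⟨v, x, hx, -, rfl⟩ | hg
  · rw [c.alpha_one, c.alpha_one]
  · rw [c.isClassFunction_alpha _ x v, c.isClassFunction_alpha _ x v, c.alpha_of_mem hx, c.alpha_of_mem hx,
      conjIrr_apply, Complex.conj_conj]
    ring
  · rw [c.alpha_outer hg, c.alpha_outer hg]

theorem alpha_triv : c.alpha (trivialChar c.K) = 0 := by
  rw [alpha, show c.phi (trivialChar c.K) = 0 from funext fun x => by simp [phi], indFun_zero]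

theorem isGeneralized_alpha (lam : IrrCharacter c.K) : IsGeneralizedCharacter G (c.alpha lam) :=
  isGeneralizedCharacter_indFun _
    (IsGeneralizedCharacter.sub (IsCharacter.isGeneralized isCharacter_one) (irr_isGeneralized lam))

/-- The multiplicity of `χ` in `Ind_K^G (1 - λ)`. -/
noncomputable def cz (chi : IrrCharacter G) (lam : IrrCharacter c.K) : ℤ :=
  Classical.choose ((isGeneralizedCharacter_iff.1 (c.isGeneralized_alpha lam)).2 chi)

theorem cz_spec (chi : IrrCharacter G) (lam : IrrCharacter c.K) :
    classInner (c.alpha lam) chi.1 = (c.cz chi lam : ℂ) :=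
  Classical.choose_spec ((isGeneralizedCharacter_iff.1 (c.isGeneralized_alpha lam)).2 chi)

theorem cz_spec' (chi : IrrCharacter G) (lam : IrrCharacter c.K) :
    classInner chi.1 (c.alpha lam) = (c.cz chi lam : ℂ) := by
  rw [← conj_classInner, c.cz_spec, map_intCast]

theorem cz_conj (chi : IrrCharacter G) (lam : IrrCharacter c.K) : c.cz chi (conjIrr lam) = c.cz chi lam := by
  have h := c.cz_spec chi (conjIrr lam)
  rw [c.alpha_conj, c.cz_spec] at h
  exact_mod_cast h.symm

theorem cz_triv_right (chi : IrrCharacter G) : c.cz chi (trivialChar c.K) = 0 := by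
  have h := c.cz_spec chi (trivialChar c.K)
  rw [c.alpha_triv, classInner_zero_left] at h
  exact_mod_cast h.symm

theorem inner_alpha (lam nu : IrrCharacter c.K) (hl : lam ≠ trivialChar c.K) (hn : nu ≠ trivialChar c.K) :
    classInner (c.alpha lam) (c.alpha nu) =
      2 + (if lam = nu then 1 else 0) + (if lam = conjIrr nu then 1 else 0) := by
  rw [alpha, classInner_indFun _ _ (c.isClassFunction_alpha nu)]
  have hres : (fun x : c.K => c.alpha nu x) =
      (2 : ℂ) • (trivialChar c.K).1 - nu.1 - (conjIrr nu).1 := by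
    funext x; simp [c.alpha_of_mem x.2]
  have hphi : c.phi lam = (trivialChar c.K).1 - lam.1 := by funext x; simp [phi]
  rw [hres, hphi]
  simp only [classInner_sub_left, classInner_sub_right, classInner_smul_right, classInner_irr]
  have e1 : (trivialChar c.K = nu) = False := eq_false (Ne.symm hn)
  have e2 : (trivialChar c.K = conjIrr nu) = False := eq_false fun e => hn (by
    rw [← conjIrr_conjIrr nu, ← e, c.conjIrr_triv])
  have e3 : (lam = trivialChar c.K) = False := eq_false hl
  simp only [e1, e2, e3, if_true, if_false, mul_zero, mul_one, map_ofNat]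
  ring

theorem sum_cz_mul (lam nu : IrrCharacter c.K) (hl : lam ≠ trivialChar c.K) (hn : nu ≠ trivialChar c.K) :
    ∑ chi : IrrCharacter G, c.cz chi lam * c.cz chi nu =
      2 + (if lam = nu then 1 else 0) + (if lam = conjIrr nu then 1 else 0) := by
  have h := c.inner_alpha lam nu hl hn
  rw [classInner_eq_sum (c.isClassFunction_alpha lam)] at h
  simp only [c.cz_spec, c.cz_spec'] at h
  have : ((∑ chi : IrrCharacter G, c.cz chi lam * c.cz chi nu : ℤ) : ℂ) =
      ((2 + (if lam = nu then 1 else 0) + (if lam = conjIrr nu then 1 else 0) : ℤ) : ℂ) := by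
    push_cast
    exact h
  exact_mod_cast this

theorem cz_triv (lam : IrrCharacter c.K) (hl : lam ≠ trivialChar c.K) : c.cz (trivialChar G) lam = 1 := by
  have h := c.cz_spec (trivialChar G) lam
  rw [alpha, classInner_indFun _ _ (IsCharacter.isClassFunction (irr_isCharacter (trivialChar G)))] at h
  have hphi : c.phi lam = (trivialChar c.K).1 - lam.1 := by funext x; simp [phi]
  rw [hphi, show (fun x : c.K => (trivialChar G).1 x) = (trivialChar c.K).1 from rfl, classInner_sub_left,
    classInner_irr, classInner_irr, if_pos rfl, if_neg hl, sub_zero] at h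
  exact_mod_cast h.symm

theorem sum_cz_apply (lam : IrrCharacter c.K) (g : G) :
    ∑ chi : IrrCharacter G, (c.cz chi lam : ℂ) * chi.1 g = c.alpha lam g := by
  conv_rhs => rw [eq_sum_classInner_smul (c.isClassFunction_alpha lam)]
  rw [Finset.sum_apply]
  simp [c.cz_spec]

/-- The restriction of an irreducible character to `K`, away from the identity. -/
theorem apply_of_mem (chi : IrrCharacter G) {x : G} (hx : x ∈ c.K) (h1 : x ≠ 1) :
    chi.1 x = -∑ lam : IrrCharacter c.K, (c.cz chi lam : ℂ) * lam.1 ⟨x, hx⟩ := by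
  set f : c.K → ℂ := fun y => chi.1 y
  have hf : IsClassFunction c.K f := fun g h => by
    rw [c.K_comm h g, mul_inv_cancel_right]
  have hdec := congrFun (eq_sum_classInner_smul hf) ⟨x, hx⟩
  rw [Finset.sum_apply] at hdec
  simp only [Pi.smul_apply, smul_eq_mul] at hdec
  obtain ⟨m, hm⟩ : ∃ m, classInner f (trivialChar c.K).1 = m := ⟨_, rfl⟩
  have hco : ∀ lam : IrrCharacter c.K, classInner f lam.1 = m - (c.cz chi lam : ℂ) := by
    intro lam
    have h := c.cz_spec' chi lam
    rw [alpha, classInner_indFun_right _ _ (IsCharacter.isClassFunction (irr_isCharacter chi)),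
      show c.phi lam = (trivialChar c.K).1 - lam.1 from by funext y; simp [phi], classInner_sub_right] at h
    rw [← h, ← hm]; ring
  simp only [hco, sub_mul, Finset.sum_sub_distrib] at hdec
  rw [← Finset.mul_sum, c.sum_lam, if_neg (fun e => h1 (congrArg Subtype.val e)), mul_zero, zero_sub] at hdec
  exact hdec

theorem degree_congr (chi : IrrCharacter G) :
    ∃ a : ℤ, (degree chi : ℤ) = a * Nat.card c.K - ∑ lam : IrrCharacter c.K, c.cz chi lam := by
  set f : c.K → ℂ := fun y => chi.1 y
  have hf : IsClassFunction c.K f := fun g h => by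
    rw [c.K_comm h g, mul_inv_cancel_right]
  obtain ⟨a, ha⟩ := IsCharacter.exists_nat_classInner
    (IsCharacter.restrict (irr_isCharacter chi) c.K) (irr_isCharacter (trivialChar c.K))
  refine ⟨a, ?_⟩
  have hdec := congrFun (eq_sum_classInner_smul hf) 1
  rw [Finset.sum_apply] at hdec
  simp only [Pi.smul_apply, smul_eq_mul] at hdec
  have hco : ∀ lam : IrrCharacter c.K, classInner f lam.1 = (a : ℂ) - (c.cz chi lam : ℂ) := by
    intro lam
    have h := c.cz_spec' chi lam
    rw [alpha, classInner_indFun_right _ _ (IsCharacter.isClassFunction (irr_isCharacter chi)),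
      show c.phi lam = (trivialChar c.K).1 - lam.1 from by funext y; simp [phi], classInner_sub_right] at h
    rw [← h, ← ha]; ring
  simp only [hco, c.lam_one, mul_one] at hdec
  rw [Finset.sum_sub_distrib, Finset.sum_const, nsmul_eq_mul, Finset.card_univ, c.card_lam] at hdec
  have h1 : ((degree chi : ℤ) : ℂ) = ((a * Nat.card c.K - ∑ lam : IrrCharacter c.K, c.cz chi lam : ℤ) : ℂ) := by
    push_cast
    rw [← apply_one_eq_degree]
    exact hdec.trans (by ring)
  exact_mod_cast h1

/-- Indicator of the involutions. -/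
noncomputable def invInd (g : G) : ℂ :=
  haveI := Classical.propDecidable (orderOf g = 2)
  if orderOf g = 2 then 1 else 0

theorem isClassFunction_invInd : IsClassFunction G (invInd (G := G)) := by
  intro g h
  have : orderOf (h * g * h⁻¹) = orderOf g := (MulAut.conj h).orderOf_eq g
  simp [invInd, this]

theorem conv_invInd (g : G) : conv invInd g = (Nat.card (pairs g) : ℂ) := by
  classical
  rw [conv, Nat.card_eq_fintype_card, Fintype.card_of_finset' (Finset.univ.filter fun y => y ∈ pairs g)
    (by intro y; simp)]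
  rw [← Finset.sum_boole]
  refine Finset.sum_congr rfl fun y _ => ?_
  simp only [invInd, pairs, Set.mem_setOf_eq]
  by_cases hy : orderOf y = 2
  · rw [inv_of_order hy]; simp [hy]
  · simp [hy]

theorem classInner_invInd (chi : IrrCharacter G) :
    classInner invInd chi.1 = (c.numInv : ℂ) * chi.1 c.t / Nat.card G := by
  classical
  have hreal : conj (chi.1 c.t) = chi.1 c.t := by
    rw [IsCharacter.conj_apply (irr_isCharacter chi), c.t_inv]
  have hsum : ∑ g : G, invInd g * conj (chi.1 g) = (c.numInv : ℂ) * chi.1 c.t := by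
    have h1 : ∀ g : G, invInd g * conj (chi.1 g) = if orderOf g = 2 then chi.1 c.t else 0 := by
      intro g
      by_cases hg : orderOf g = 2
      · rw [invInd, if_pos hg, if_pos hg, one_mul,
          ← IsClassFunction.apply_of_isConj (IsCharacter.isClassFunction (irr_isCharacter chi))
            (c.hconj c.t g c.ht hg), hreal]
      · simp [invInd, hg]
    simp only [h1, Finset.sum_ite, Finset.sum_const_zero, add_zero, Finset.sum_const, nsmul_eq_mul]
    rw [numInv, Nat.card_eq_fintype_card, Fintype.card_subtype]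
  rw [classInner, hsum]
  field_simp

theorem pairs_formula (g : G) : (Nat.card (pairs g) : ℂ) =
    (c.numInv : ℂ) ^ 2 / Nat.card G * ∑ chi : IrrCharacter G, chi.1 c.t ^ 2 * chi.1 g / chi.1 1 := by
  rw [← conv_invInd, conv_eq_sum isClassFunction_invInd, Finset.mul_sum]
  refine Finset.sum_congr rfl fun chi _ => ?_
  rw [c.classInner_invInd]
  have : (Nat.card G : ℂ) ≠ 0 := card_ne_zero
  have := IsIrrCharacter.apply_one_ne_zero chi.2
  field_simp

/-- Counting the pairs of involutions with product in `K` gives one equation for each linear character. -/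
theorem star (lam : IrrCharacter c.K) (hl : lam ≠ trivialChar c.K) :
    (c.numInv : ℂ) ^ 2 / Nat.card G * ∑ chi : IrrCharacter G, (c.cz chi lam : ℂ) * chi.1 c.t ^ 2 / chi.1 1 =
      (Nat.card c.K : ℂ) := by
  classical
  have hF := isClassFunction_conv (G := G) (b := invInd) isClassFunction_invInd
  have hL : classInner (conv invInd) (c.alpha lam) = (Nat.card c.K : ℂ) := by
    rw [alpha, classInner_indFun_right _ _ hF]
    have hres : ∀ x : c.K, conv invInd (x : G) * conj (c.phi lam x) = (Nat.card c.K : ℂ) * conj (c.phi lam x) := by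
      intro x
      by_cases h1 : x = 1
      · subst h1; simp [c.phi_one]
      · rw [conv_invInd, c.card_pairs_of_mem_K x.2 (fun e => h1 (Subtype.ext e))]
    rw [classInner]
    simp only [hres, ← Finset.mul_sum]
    have hsum : ∑ x : c.K, conj (c.phi lam x) = (Nat.card c.K : ℂ) := by
      simp only [phi, map_sub, map_one, Finset.sum_sub_distrib, Finset.sum_const, Finset.card_univ,
        nsmul_eq_mul, mul_one]
      have : ∑ x : c.K, conj (lam.1 x) = 0 := by
        have := classInner_irr_of_ne (trivialChar c.K).2 lam.2 (fun e => hl (Subtype.ext e).symm)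
        simp only [classInner, trivialChar_apply, one_mul] at this
        exact (mul_eq_zero.mp this).resolve_left (inv_ne_zero card_ne_zero)
      rw [this, sub_zero, Nat.card_eq_fintype_card]
    rw [hsum]
    have : (Nat.card c.K : ℂ) ≠ 0 := card_ne_zero
    field_simp
  rw [← hL, classInner_eq_sum hF, Finset.mul_sum]
  refine Finset.sum_congr rfl fun chi _ => ?_
  rw [classInner_conv isClassFunction_invInd, c.cz_spec', c.classInner_invInd]
  have : (Nat.card G : ℂ) ≠ 0 := card_ne_zero
  have := IsIrrCharacter.apply_one_ne_zero chi.2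
  field_simp

end Config

end Cfsg.Agent.BSW
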