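import Cfsg.Agent.Lib.BSW.Table
import Cfsg.Agent.Lib.Transfer.Thompson
import Mathlib.GroupTheory.SpecificGroups.Dihedral

/-!
Groups with an involution whose centralizer is dihedral of order 8 and no subgroup of index 2:
they have order 168 or 360 and are simple.
-/

set_option autoImplicit false
set_option linter.style.haveILetI false

namespace Cfsg.Agent.BSW

open Subgroup

universe u

variable {G : Type u} [Group G]

theorem d8_center (d : DihedralGroup 4) (h1 : d ≠ 1) (hc : ∀ a, a * d = d * a) : d = DihedralGroup.r 2 := by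
  revert d; decide

theorem d8_cases (a : DihedralGroup 4) :
    (∃ i : ZMod 4, a = DihedralGroup.r i) ∨ ∃ i : ZMod 4, a = DihedralGroup.r i * DihedralGroup.sr 0 := by
  revert a; decide

theorem d8_commute (i : ZMod 4) (h : DihedralGroup.r i * DihedralGroup.sr 0 = DihedralGroup.sr 0 * DihedralGroup.r i) :
    DihedralGroup.r i = 1 ∨ DihedralGroup.r i = DihedralGroup.r 2 := by
  revert i; decide

theorem d8_sq (i : ZMod 4) :
    DihedralGroup.r i = 1 ∨ DihedralGroup.r i = DihedralGroup.r 2 ∨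
      DihedralGroup.r i * DihedralGroup.r i = DihedralGroup.r 2 := by
  revert i; decide

theorem d8_inverts (i : ZMod 4) :
    DihedralGroup.sr 0 * DihedralGroup.r i * (DihedralGroup.sr 0)⁻¹ = (DihedralGroup.r i)⁻¹ := by
  revert i; decide

/-- An involution `t` with an isomorphism from its centralizer to the dihedral group of order 8. -/
structure DihedralCent (G : Type u) [Group G] where
  t : G
  ht : orderOf t = 2
  e : Subgroup.centralizer ({t} : Set G) ≃* DihedralGroup 4

namespace DihedralCent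

variable (D : DihedralCent G)

/-- The centralizer. -/
abbrev C : Subgroup G := Subgroup.centralizer ({D.t} : Set G)

/-- The element of `G` belonging to an element of the dihedral group. -/
def el (a : DihedralGroup 4) : G := (D.e.symm a : G)

theorem el_mem (a : DihedralGroup 4) : D.el a ∈ D.C := (D.e.symm a).2

theorem el_mul (a b : DihedralGroup 4) : D.el (a * b) = D.el a * D.el b := by simp [el]

theorem el_inv (a : DihedralGroup 4) : D.el a⁻¹ = (D.el a)⁻¹ := by simp [el]

theorem el_one : D.el 1 = 1 := by simp [el]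

theorem el_inj {a b : DihedralGroup 4} (h : D.el a = D.el b) : a = b :=
  D.e.symm.injective (Subtype.ext h)

theorem exists_el {g : G} (hg : g ∈ D.C) : ∃ a, D.el a = g := ⟨D.e ⟨g, hg⟩, by simp [el]⟩

theorem order_el (a : DihedralGroup 4) : orderOf (D.el a) = orderOf a := by
  rw [el, Subgroup.orderOf_coe, MulEquiv.orderOf_eq]

theorem central_eq_t {g : G} (hg : g ∈ D.C) (h1 : g ≠ 1) (hc : ∀ a ∈ D.C, a * g = g * a) : g = D.el (.r 2) := by
  obtain ⟨a, rfl⟩ := D.exists_el hg
  rw [d8_center a (fun e => h1 (by rw [e, el_one])) fun b => D.el_inj (by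
    rw [el_mul, el_mul]; exact hc _ (D.el_mem b))]

theorem el_r_two : D.el (.r 2) = D.t :=
  (D.central_eq_t (mem_cent_self' D.t) (ne_one_of_order D.ht) fun _ ha => mem_cent.mp ha).symm
where
  mem_cent_self' (g : G) : g ∈ Subgroup.centralizer ({g} : Set G) := mem_cent.mpr rfl

/-- The cyclic subgroup of order 4. -/
def K : Subgroup G := Subgroup.zpowers (D.el (.r 1))

theorem r_mem (i : ZMod 4) : D.el (.r i) ∈ D.K := by
  refine Subgroup.mem_zpowers_iff.mpr ⟨(i.val : ℤ), ?_⟩
  rw [zpow_natCast, el, el, ← Subgroup.coe_pow, ← map_pow, DihedralGroup.r_one_pow, ZMod.natCast_zmod_val]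

theorem exists_r {g : G} (hg : g ∈ D.K) : ∃ i : ZMod 4, D.el (.r i) = g := by
  obtain ⟨k, rfl⟩ := Subgroup.mem_zpowers_iff.mp hg
  refine ⟨(k : ZMod 4), ?_⟩
  rw [el, el, ← Subgroup.coe_zpow, ← map_zpow, DihedralGroup.r_one_zpow]

theorem card_C [Finite G] : Nat.card D.C = 8 := by
  rw [Nat.card_congr D.e.toEquiv, DihedralGroup.nat_card]

theorem card_K : Nat.card D.K = 4 := by
  rw [K, Nat.card_zpowers, order_el, DihedralGroup.orderOf_r_one]

theorem K_le : D.K ≤ D.C := Subgroup.zpowers_le.mpr (D.el_mem _)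

theorem eq_t_of_sq {g : G} (hg : g ∈ D.K) (h2 : g * g = 1) (h1 : g ≠ 1) : g = D.t := by
  obtain ⟨i, rfl⟩ := D.exists_r hg
  rcases d8_sq i with e | e | e
  · exact absurd (by rw [e, el_one]) h1
  · rw [e, el_r_two]
  · rw [← el_mul, e, el_r_two] at h2
    exact absurd h2 (ne_one_of_order D.ht)

theorem sq_eq_t {g : G} (hg : g ∈ D.K) (h2 : g * g ≠ 1) : g * g = D.t := by
  obtain ⟨i, rfl⟩ := D.exists_r hg
  rcases d8_sq i with e | e | e
  · exact absurd (by rw [e, el_one, one_mul]) h2
  · exact absurd (by rw [e, el_r_two, sq_of_order D.ht]) h2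
  · rw [← el_mul, e, el_r_two]

theorem C_le_sylow [Finite G] : ∃ P : Sylow 2 G, (P : Subgroup G) = D.C := by
  haveI := Fact.mk Nat.prime_two
  obtain ⟨P, hP⟩ := (IsPGroup.of_card (n := 3) (by rw [D.card_C]; norm_num) : IsPGroup 2 D.C).exists_le_sylow
  refine ⟨P, le_antisymm (fun a ha => ?_) hP⟩
  have hPp : IsPGroup 2 P := P.2
  haveI : Nontrivial P := Finite.one_lt_card_iff_nontrivial.mp
    (lt_of_lt_of_le (by rw [D.card_C]; norm_num) (Subgroup.card_le_of_le hP))
  haveI := hPp.center_nontrivial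
  obtain ⟨z, hz⟩ := exists_ne (1 : Subgroup.center P)
  have hcomm : ∀ b (hb : b ∈ (P : Subgroup G)), b * ((z : P) : G) = ((z : P) : G) * b := fun b hb =>
    congrArg Subtype.val (Subgroup.mem_center_iff.mp z.2 ⟨b, hb⟩)
  have hzC : ((z : P) : G) ∈ D.C :=
    mem_cent.mpr (hcomm D.t (hP (mem_cent.mpr rfl))).symm
  have hz1 : ((z : P) : G) ≠ 1 := fun e => hz (Subtype.ext (Subtype.ext e))
  have hzt : ((z : P) : G) = D.t :=
    (D.central_eq_t hzC hz1 fun b hb => hcomm b (hP hb)).trans D.el_r_two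
  exact mem_cent.mpr (hzt ▸ hcomm a ha)

theorem isConj_t [Finite G] (hno : ∀ M : Subgroup G, M.Normal → M.index ≠ 2) {u : G} (hu : orderOf u = 2) :
    IsConj D.t u := by
  haveI := Fact.mk Nat.prime_two
  obtain ⟨P, hP⟩ := D.C_le_sylow
  obtain ⟨T, hT⟩ := (IsPGroup.of_card (n := 1) (by rw [Nat.card_zpowers, hu, pow_one])
    : IsPGroup 2 (Subgroup.zpowers u)).exists_le_sylow
  obtain ⟨v, hv⟩ := MulAction.exists_smul_eq G T P
  have huC : v * u * v⁻¹ ∈ (P : Subgroup G) := by
    rw [← hv, Sylow.coe_subgroup_smul]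
    exact ⟨u, hT (Subgroup.mem_zpowers u), rfl⟩
  have hu' : orderOf (v * u * v⁻¹) = 2 := ((MulAut.conj v).orderOf_eq u).trans hu
  refine IsConj.trans ?_ (isConj_iff.mpr ⟨v, rfl⟩ : IsConj u (v * u * v⁻¹)).symm
  by_contra hne
  have hconj : ∀ g : G, g * (v * u * v⁻¹) * g⁻¹ ∉ D.K := by
    intro g hg
    have ho : orderOf (g * (v * u * v⁻¹) * g⁻¹) = 2 := ((MulAut.conj g).orderOf_eq _).trans hu'
    exact hne ((isConj_iff.mpr ⟨g, D.eq_t_of_sq hg (sq_of_order ho) (ne_one_of_order ho)⟩).symm)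
  have hrel : D.K.relIndex (P : Subgroup G) = 2 := by
    rw [hP]
    have := Subgroup.relIndex_mul_relIndex (⊥ : Subgroup G) D.K D.C bot_le D.K_le
    rw [Subgroup.relIndex_bot_left, Subgroup.relIndex_bot_left, D.card_C, D.card_K] at this
    omega
  obtain ⟨M, hM, hidx, -⟩ := Transfer.exists_index_two_of_involution P D.K (hP ▸ D.K_le) hrel (v * u * v⁻¹)
    (by rw [sq]; exact sq_of_order hu') huC (fun h => hconj 1 (by simpa using h)) hconj
  exact hno M hM hidx

/-- The Brauer–Suzuki–Wall configuration. -/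
noncomputable def config [Finite G] (hno : ∀ M : Subgroup G, M.Normal → M.index ≠ 2) : Config G where
  t := D.t
  K := D.K
  s := D.el (.sr 0)
  ht := D.ht
  comm := fun x hx y hy => by
    obtain ⟨i, rfl⟩ := D.exists_r hx
    obtain ⟨j, rfl⟩ := D.exists_r hy
    rw [← el_mul, ← el_mul, DihedralGroup.r_mul_r, DihedralGroup.r_mul_r, add_comm]
  hKH := D.K_le
  htK := D.el_r_two ▸ D.r_mem 2
  hs := by rw [order_el, DihedralGroup.orderOf_sr]
  hsH := D.el_mem _
  hsK := fun h => by
    obtain ⟨i, hi⟩ := D.exists_r h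
    exact absurd (D.el_inj hi) (by simp)
  hH := by
    refine le_antisymm (sup_le D.K_le (Subgroup.zpowers_le.mpr (D.el_mem _))) fun g hg => ?_
    obtain ⟨a, rfl⟩ := D.exists_el hg
    rcases d8_cases a with ⟨i, rfl⟩ | ⟨i, rfl⟩
    · exact Subgroup.mem_sup_left (D.r_mem i)
    · rw [el_mul]
      exact mul_mem (Subgroup.mem_sup_left (D.r_mem i)) (Subgroup.mem_sup_right (Subgroup.mem_zpowers _))
  hCK := by
    refine le_antisymm (fun g hg => ?_) (Subgroup.zpowers_le.mpr ⟨D.el_r_two ▸ D.r_mem 2, ?_⟩)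
    · obtain ⟨i, rfl⟩ := D.exists_r hg.1
      have := mem_cent.mp hg.2
      rw [← el_mul, ← el_mul] at this
      rcases d8_commute i (D.el_inj this) with e | e <;> rw [e]
      · rw [el_one]; exact one_mem _
      · rw [el_r_two]; exact Subgroup.mem_zpowers _
    · exact mem_cent.mpr (mem_cent.mp (D.el_mem (.sr 0))).symm
  hinv := fun x hx => by
    obtain ⟨i, rfl⟩ := D.exists_r hx
    rw [← el_inv, ← el_mul, ← el_mul, d8_inverts, el_inv]
  hTI := fun g hg => by
    refine (Subgroup.eq_bot_iff_forall _).mpr fun y ⟨hy, x, hx, hxy⟩ => by_contra fun h1 => hg ?_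
    have hxy' : g * x * g⁻¹ = y := hxy
    have hyy : y * y = g * (x * x) * g⁻¹ := by rw [← hxy']; group
    refine mem_cent.mpr (mul_inv_eq_iff_eq_mul.mp ?_)
    by_cases h2 : x * x = 1
    · have hy2 : y * y = 1 := by rw [hyy, h2]; group
      have hx1 : x ≠ 1 := fun e => h1 (by rw [← hxy', e]; group)
      rw [D.eq_t_of_sq hy hy2 h1, D.eq_t_of_sq hx h2 hx1] at hxy'
      exact hxy'
    · have hy2 : y * y ≠ 1 := by rw [hyy]; exact fun e => h2 (conj_eq_one_iff.mp e)
      rw [D.sq_eq_t hy hy2, D.sq_eq_t hx h2] at hyy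
      exact hyy.symm
  hconj := fun x y hx hy => (D.isConj_t hno hx).symm.trans (D.isConj_t hno hy)

include D in
theorem card_eq [Finite G] (hno : ∀ M : Subgroup G, M.Normal → M.index ≠ 2) :
    Nat.card G = 168 ∨ Nat.card G = 360 := by
  haveI := Fintype.ofFinite G
  set c := D.config hno
  have hk : Nat.card c.K = 4 := D.card_K
  obtain ⟨T⟩ := c.exists_table (by omega)
  obtain ⟨ε, hε, hN, -, -⟩ := T.exists_eps (by omega)
  have hG := c.card_G
  rw [hk] at hG hN
  rcases hε with rfl | rfl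
  · right; norm_num at hN; omega
  · left; norm_num at hN; omega

include D in
theorem isSimple [Finite G] (hno : ∀ M : Subgroup G, M.Normal → M.index ≠ 2) : IsSimpleGroup G := by
  haveI := Fact.mk Nat.prime_two
  haveI := Fintype.ofFinite G
  set c := D.config hno
  haveI : Nontrivial G := ⟨⟨D.t, 1, ne_one_of_order D.ht⟩⟩
  refine ⟨fun N hN => ?_⟩
  by_cases hodd : 2 ∣ Nat.card N
  · right
    obtain ⟨z, hz⟩ := exists_prime_orderOf_dvd_card' 2 hodd
    rw [← Subgroup.orderOf_coe] at hz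
    have hall : ∀ u : G, orderOf u = 2 → u ∈ N := fun u hu => by
      obtain ⟨v, hv⟩ := isConj_iff.mp ((D.isConj_t hno hz).symm.trans (D.isConj_t hno hu))
      rw [← hv]; exact hN.conj_mem _ z.2 v
    have hsr : ∀ i, D.el (.sr i) ∈ N := fun i => hall _ (by rw [order_el, DihedralGroup.orderOf_sr])
    have hr : ∀ i, D.el (.r i) ∈ N := fun i => by
      have := mul_mem (hsr 0) (hsr i)
      rwa [← el_mul, DihedralGroup.sr_mul_sr, sub_zero] at this
    have hCN : D.C ≤ N := fun g hg => by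
      obtain ⟨a, rfl⟩ := D.exists_el hg
      cases a with
      | r i => exact hr i
      | sr i => exact hsr i
    obtain ⟨P, hP⟩ := D.C_le_sylow
    haveI := hN
    have htop := Sylow.normalizer_sup_eq_top' P (hP ▸ hCN)
    refine top_le_iff.mp (htop ▸ sup_le (fun g hg => hCN ?_) le_rfl)
    replace hg : g ∈ Subgroup.normalizer (D.C : Set G) := hP ▸ hg
    have hmem : g * D.t * g⁻¹ ∈ D.C := (Subgroup.mem_normalizer_iff.mp hg _).mp (mem_cent.mpr rfl)
    have e := D.central_eq_t hmem (fun e => ne_one_of_order D.ht (conj_eq_one_iff.mp e)) fun a ha => by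
      have ha' : g⁻¹ * a * g ∈ D.C := by
        rw [Subgroup.mem_normalizer_iff.mp hg, show g * (g⁻¹ * a * g) * g⁻¹ = a by group]; exact ha
      calc a * (g * D.t * g⁻¹) = g * (g⁻¹ * a * g * D.t) * g⁻¹ := by group
        _ = g * (D.t * (g⁻¹ * a * g)) * g⁻¹ := by rw [mem_cent.mp ha']
        _ = g * D.t * g⁻¹ * a := by group
    rw [el_r_two] at e
    exact mem_cent.mpr (mul_inv_eq_iff_eq_mul.mp e)
  · left
    refine (Subgroup.eq_bot_iff_forall _).mpr fun n hn => ?_
    haveI := hN
    have hinv : ∀ u : G, orderOf u = 2 → u * n * u⁻¹ = n⁻¹ := by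
      intro u hu
      let φ : N →* N :=
        { toFun := fun a => ⟨u * (a : G) * u⁻¹, hN.conj_mem _ a.2 u⟩
          map_one' := Subtype.ext (by simp)
          map_mul' := fun a b => Subtype.ext (by simp [mul_assoc]) }
      have hfix : MonoidHom.FixedPointFree φ := fun a ha => by
        have e : u * (a : G) * u⁻¹ = a := congrArg Subtype.val ha
        obtain ⟨v, hv⟩ := isConj_iff.mp (D.isConj_t hno hu)
        have hm : v⁻¹ * (a : G) * v ∈ D.C := by
          rw [DihedralCent.C, ← cent_conj, hv]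
          exact mem_cent.mpr (mul_inv_eq_iff_eq_mul.mp e).symm
        have h8 : orderOf (v⁻¹ * (a : G) * v) ∣ 8 := by
          rw [← D.card_C, ← Subgroup.orderOf_mk _ hm]
          exact orderOf_dvd_natCard _
        rw [show v⁻¹ * (a : G) * v = MulAut.conj v⁻¹ (a : G) by simp, MulEquiv.orderOf_eq,
          Subgroup.orderOf_coe] at h8
        refine orderOf_eq_one_iff.mp (Nat.eq_one_of_dvd_coprimes ?_ h8 (orderOf_dvd_natCard a))
        exact ((Nat.prime_two.coprime_iff_not_dvd).mpr hodd).pow_left 3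
      have hinvol : Function.Involutive φ := fun a => Subtype.ext (by
        show u * (u * (a : G) * u⁻¹) * u⁻¹ = a
        rw [show u * (u * (a : G) * u⁻¹) * u⁻¹ = (u * u) * (a : G) * (u * u)⁻¹ by group, sq_of_order hu]
        simp)
      exact congrArg Subtype.val (congrFun (hfix.coe_eq_inv_of_involutive hinvol) ⟨n, hn⟩)
    have hs := hinv _ c.hs
    have ht := hinv _ D.ht
    have hts : D.t * c.s * n * (D.t * c.s)⁻¹ = n⁻¹ :=
      hinv _ (c.coset_sq (c.xs_mem_H c.htK) (c.xs_notMem c.htK))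
    rw [show D.t * c.s * n * (D.t * c.s)⁻¹ = D.t * (c.s * n * c.s⁻¹) * D.t⁻¹ by group, hs, ← conj_inv, ht,
      inv_inv] at hts
    have h2 : n * n = 1 := by nth_rw 2 [hts]; exact mul_inv_cancel n
    have hd : orderOf n ∣ Nat.card N := by
      rw [← Subgroup.orderOf_mk n hn]; exact orderOf_dvd_natCard _
    exact orderOf_eq_one_iff.mp (Nat.eq_one_of_dvd_coprimes ((Nat.prime_two.coprime_iff_not_dvd).mpr hodd)
      (orderOf_dvd_of_pow_eq_one (by rw [sq]; exact h2)) hd)

end DihedralCent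

end Cfsg.Agent.BSW
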