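import Cfsg.Agent.Lib.BSW.Small
import Cfsg.Agent.Lib.DihedralBlock.Setting
import Cfsg.Agent.Lib.DihedralSylow.Sylow
import Cfsg.Agent.Lib.PCore.Basic
import Cfsg.Agent.Lib.Coprime.Basic
import Cfsg.Agent.Lib.PSL2.SylowAction
import Cfsg.Prelude.Def_CaseTheorems

/-!
# Simple groups with dihedral Sylow 2-subgroups and a TI centraliser core

`O = O(C(t))` inverted by the reflections and TI gives a configuration of Brauer, Suzuki and Wall,
whose conclusion leads to `PSL_2 (q)`.
-/

set_option autoImplicit false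
set_option linter.style.haveILetI false

namespace Cfsg.Agent.BSW.DihedralTI

open Subgroup
open scoped MatrixGroups

universe u

variable {G : Type u} [Group G] [Finite G]

/-- A dihedral presentation of the Sylow subgroup `S` with `t` among the rotations. -/
structure Gens (S : Sylow 2 G) (t : G) where
  σ : G
  τ : G
  n : ℕ
  k : ℕ
  hn : n = 2 ^ (k + 1)
  hσ : σ ∈ (S : Subgroup G)
  hτ : τ ∈ (S : Subgroup G)
  hord : orderOf σ = n
  hτo : orderOf τ = 2
  hrel : τ * σ * τ⁻¹ = σ⁻¹
  hform : ∀ x ∈ (S : Subgroup G), ∃ i : ℤ, x = σ ^ i ∨ x = σ ^ i * τ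
  htσ : t ∈ zpowers σ
  hcard : Nat.card (S : Subgroup G) = 2 * n

theorem exists_gens (S : Sylow 2 G) {n : ℕ} (hn : 2 ≤ n)
    (e : (S : Subgroup G) ≃* DihedralGroup n) {t : G} (ht : orderOf t = 2)
    (htS : t ∈ (S : Subgroup G)) (htZ : ∀ s ∈ (S : Subgroup G), s * t = t * s) :
    Nonempty (Gens S t) := by
  haveI : NeZero n := ⟨by omega⟩
  obtain ⟨k', hk'⟩ := DihedralSylow.exists_two_pow e
  obtain ⟨k, rfl⟩ : ∃ k, k' = k + 1 := ⟨k' - 1, by
    have : k' ≠ 0 := by rintro rfl; rw [pow_zero] at hk'; omega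
    omega⟩
  obtain ⟨φ, hφ⟩ := DihedralSylow.exists_embeds e
  obtain ⟨d, rfl⟩ := hφ.exists_preimage htS
  have hd1 : d ≠ 1 := fun h => by rw [h, map_one, orderOf_one] at ht; omega
  have hdc : ∀ a, a * d = d * a := fun a => hφ.inj (by
    rw [map_mul, map_mul]; exact htZ _ (hφ.mem a))
  have hcardS : Nat.card (S : Subgroup G) = 2 * n := by
    rw [Nat.card_congr e.toEquiv, DihedralGroup.nat_card]
  have hsr0 : ∀ j : ZMod n, orderOf (φ (.sr j)) = 2 := fun j => by
    rw [orderOf_injective φ hφ.inj, DihedralGroup.orderOf_sr]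
  have hr1 : orderOf (φ (.r 1)) = n := by
    rw [orderOf_injective φ hφ.inj, DihedralGroup.orderOf_r_one]
  rcases d with i | j
  · refine ⟨⟨φ (.r 1), φ (.sr 0), n, k, hk', hφ.mem _, hφ.mem _, hr1, hsr0 0, ?_, ?_, ?_, hcardS⟩⟩
    · rw [← map_inv, ← map_inv, ← map_mul, ← map_mul]
      simp
    · intro x hx
      obtain ⟨a, rfl⟩ := hφ.exists_preimage hx
      rcases a with a | a
      · refine ⟨(a.val : ℤ), Or.inl ?_⟩
        rw [zpow_natCast, ← map_pow, DihedralGroup.r_one_pow, ZMod.natCast_zmod_val]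
      · refine ⟨((-a).val : ℤ), Or.inr ?_⟩
        rw [zpow_natCast, ← map_pow, DihedralGroup.r_one_pow, ZMod.natCast_zmod_val, ← map_mul,
          DihedralGroup.r_mul_sr]
        simp
    · refine mem_zpowers_iff.2 ⟨(i.val : ℤ), ?_⟩
      rw [zpow_natCast, ← map_pow, DihedralGroup.r_one_pow, ZMod.natCast_zmod_val]
  · -- a central reflection: the four-group
    have h1 : (1 : ZMod n) + 1 = 0 := by
      have h : DihedralGroup.sr (j - 1) = DihedralGroup.sr (j + 1) := by
        simpa using hdc (DihedralGroup.r 1)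
      rw [DihedralGroup.sr.injEq] at h
      calc (1 : ZMod n) + 1 = (j + 1) - (j - 1) := by ring
        _ = 0 := by rw [h, sub_self]
    have hn2 : n = 2 := by
      refine Nat.le_antisymm (Nat.le_of_dvd two_pos ?_) hn
      rw [← ZMod.natCast_eq_zero_iff]
      push_cast
      rw [← h1]; ring
    subst hn2
    refine ⟨⟨φ (.sr j), φ (.r 1), 2, k, hk', hφ.mem _, hφ.mem _, hsr0 j, hr1, ?_, ?_,
      mem_zpowers _, hcardS⟩⟩
    · rw [← map_inv, ← map_inv, ← map_mul, ← map_mul]
      congr 1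
      exact (by decide : ∀ j : ZMod 2, DihedralGroup.r 1 * DihedralGroup.sr j * (DihedralGroup.r 1)⁻¹ = (DihedralGroup.sr j)⁻¹) j
    · intro x hx
      obtain ⟨a, rfl⟩ := hφ.exists_preimage hx
      have : a = 1 ∨ a = .r 1 ∨ a = .sr j ∨ a = .sr j * .r 1 :=
        (by decide : ∀ (j : ZMod 2) (a : DihedralGroup 2), a = 1 ∨ a = .r 1 ∨ a = .sr j ∨ a = .sr j * .r 1) j a
      rcases this with rfl | rfl | rfl | rfl
      · exact ⟨0, Or.inl (by simp)⟩
      · exact ⟨0, Or.inr (by simp)⟩
      · exact ⟨1, Or.inl (by simp)⟩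
      · exact ⟨1, Or.inr (by rw [zpow_one, map_mul])⟩

variable {S : Sylow 2 G} {t : G}

/-- The centraliser of `t` is an odd normal subgroup times `S`. -/
theorem exists_decomp (g : Gens S t) (htS : t ∈ (S : Subgroup G))
    (htZ : ∀ s ∈ (S : Subgroup G), s * t = t * s) (ht : orderOf t = 2) :
    ∃ V : Subgroup G, V ≤ centralizer ({t} : Set G) ∧ Odd (Nat.card V) ∧
      (∀ c ∈ centralizer ({t} : Set G), ∀ v ∈ V, c * v * c⁻¹ ∈ V) ∧
      ∀ c ∈ centralizer ({t} : Set G), ∃ v ∈ V, ∃ x ∈ (S : Subgroup G), c = v * x := by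
  haveI : Fact (Nat.Prime 2) := ⟨Nat.prime_two⟩
  have hσord := g.hord
  rw [g.hn] at hσord
  by_cases hk : g.k = 0
  · -- the four-group case
    rw [hk, zero_add, pow_one] at hσord
    set C := centralizer ({t} : Set G) with hC
    have hSC : (S : Subgroup G) ≤ C := fun x hx => mem_cent.2 (htZ x hx)
    have hts : t = g.σ := by
      obtain ⟨i, hi⟩ := mem_zpowers_iff.1 g.htσ
      rw [← zpow_mod_orderOf, hσord] at hi
      rcases Int.emod_two_eq_zero_or_one i with e | e <;>
        rw [show ((2 : ℕ) : ℤ) = 2 from rfl, e] at hi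
      · rw [← hi, zpow_zero, orderOf_one] at ht; omega
      · exact hi.symm.trans (zpow_one _)
    have hST : ∀ x ∈ (S : Subgroup G), x = 1 ∨ x = t ∨ x = g.τ ∨ x = t * g.τ := by
      intro x hx
      obtain ⟨i, hi⟩ := g.hform x hx
      rw [← zpow_mod_orderOf, hσord, ← hts] at hi
      rcases Int.emod_two_eq_zero_or_one i with e | e <;>
        rw [show ((2 : ℕ) : ℤ) = 2 from rfl, e] at hi <;> rcases hi with hi | hi <;>
        simp at hi <;> simp [hi]
    have hcm : ∀ x ∈ (S : Subgroup G), ∀ y ∈ (S : Subgroup G), x * y = y * x := by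
      intro x hx y hy
      have := htZ g.τ g.hτ
      rcases hST x hx with rfl | rfl | rfl | rfl <;> rcases hST y hy with rfl | rfl | rfl | rfl <;>
        (try simp only [one_mul, mul_one]) <;>
        first
          | exact this | exact this.symm
          | (rw [mul_assoc, this, ← mul_assoc]) | (rw [← mul_assoc, this, mul_assoc])
    let P : Sylow 2 C := S.subtype hSC
    have hPmem : ∀ y : C, y ∈ (P : Subgroup C) ↔ (y : G) ∈ (S : Subgroup G) := fun y => by
      simp [P, Sylow.coe_subtype, mem_subgroupOf]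
    have hP : normalizer ((P : Subgroup C) : Set C) ≤ centralizer ((P : Subgroup C) : Set C) := by
      intro y hy
      rw [mem_centralizer_iff]
      intro x hx
      have hxS := (hPmem x).1 hx
      suffices h : (y : G) * (x : G) = (x : G) * y from Subtype.ext h.symm
      by_contra hne
      -- `y` has no odd part moving `S`
      have hsq : ∀ z : C, z ∈ normalizer ((P : Subgroup C) : Set C) →
          (z : G) * g.τ * (z : G)⁻¹ = g.τ ∨ (z : G) * g.τ * (z : G)⁻¹ = t * g.τ := by
        intro z hz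
        have hm : (z : G) * g.τ * (z : G)⁻¹ ∈ (S : Subgroup G) :=
          (hPmem _).1 ((Subgroup.mem_normalizer_iff.1 hz ⟨g.τ, hSC g.hτ⟩).1 ((hPmem _).2 g.hτ))
        have hzt : (z : G) * t = t * z := mem_cent.1 z.2
        rcases hST _ hm with h | h | h | h
        · exact absurd (conj_eq_one_iff.1 h) (ne_one_of_order g.hτo)
        · exfalso
          have h' : g.τ = t := mul_left_cancel (mul_inv_eq_iff_eq_mul.1 h ▸ hzt.symm : (z : G) * g.τ = z * t)
          have h4 := g.hcard
          rw [g.hn, hk] at h4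
          have hle : (S : Subgroup G) ≤ zpowers t := fun w hw => by
            rcases hST w hw with rfl | rfl | rfl | rfl
            · exact one_mem _
            · exact mem_zpowers _
            · rw [h']; exact mem_zpowers _
            · rw [h']; exact mul_mem (mem_zpowers _) (mem_zpowers _)
          have := Subgroup.card_le_of_le hle
          rw [Nat.card_zpowers, ht] at this
          norm_num at h4; omega
        · exact Or.inl h
        · exact Or.inr h
      have hy2 : ∀ w ∈ (S : Subgroup G), ((y ^ 2 : C) : G) * w = w * ((y ^ 2 : C) : G) := by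
        have hyt : (y : G) * t = t * y := mem_cent.1 y.2
        have key : ((y ^ 2 : C) : G) * g.τ = g.τ * ((y ^ 2 : C) : G) := by
          rw [← mul_inv_eq_iff_eq_mul]
          rcases hsq y hy with h | h
          · calc ((y ^ 2 : C) : G) * g.τ * ((y ^ 2 : C) : G)⁻¹
                = (y : G) * ((y : G) * g.τ * (y : G)⁻¹) * (y : G)⁻¹ := by
                  rw [SubgroupClass.coe_pow, pow_two]; group
              _ = g.τ := by rw [h, h]
          · calc ((y ^ 2 : C) : G) * g.τ * ((y ^ 2 : C) : G)⁻¹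
                = (y : G) * ((y : G) * g.τ * (y : G)⁻¹) * (y : G)⁻¹ := by
                  rw [SubgroupClass.coe_pow, pow_two]; group
              _ = ((y : G) * t * (y : G)⁻¹) * ((y : G) * g.τ * (y : G)⁻¹) := by
                  conv_lhs => rw [h]
                  group
              _ = t * (t * g.τ) := by rw [h, hyt, mul_inv_cancel_right]
              _ = g.τ := by rw [← mul_assoc, sq_of_order ht, one_mul]
        have ht2 : ((y ^ 2 : C) : G) * t = t * ((y ^ 2 : C) : G) := mem_cent.1 (y ^ 2 : C).2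
        intro w hw
        rcases hST w hw with rfl | rfl | rfl | rfl
        · simp
        · exact ht2
        · exact key
        · exact (Commute.mul_right ht2 key : Commute _ _)
      -- the image of `y` in the automiser has order two, but the index is odd
      set N := normalizer ((P : Subgroup C) : Set C)
      set Z := (centralizer ((P : Subgroup C) : Set C)).subgroupOf N with hZ
      have hyZ : (⟨y, hy⟩ : N) ∉ Z := fun h => hne
        (congrArg Subtype.val (mem_centralizer_iff.1 (mem_subgroupOf.1 h) x hx)).symm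
      haveI : Z.Normal := ⟨fun a ha b => by
        rw [hZ, mem_subgroupOf, mem_centralizer_iff] at ha ⊢
        intro p hp
        have hp' : (b : C)⁻¹ * p * (b : C) ∈ (P : Subgroup C) :=
          (Subgroup.mem_normalizer_iff''.1 b.2 p).1 hp
        have := ha _ hp'
        calc p * (((b * a * b⁻¹ : N) : C)) = (b : C) * (((b : C)⁻¹ * p * (b : C)) * (a : C)) * (b : C)⁻¹ := by
              push_cast; group
          _ = (b : C) * ((a : C) * ((b : C)⁻¹ * p * (b : C))) * (b : C)⁻¹ := by rw [this]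
          _ = (((b * a * b⁻¹ : N) : C)) * p := by push_cast; group⟩
      have h2 : orderOf (QuotientGroup.mk (s := Z) (⟨y, hy⟩ : N)) = 2 := by
        refine orderOf_eq_prime ?_ (fun h => hyZ ((QuotientGroup.eq_one_iff _).1 h))
        rw [← QuotientGroup.mk_pow, QuotientGroup.eq_one_iff, hZ, mem_subgroupOf, mem_centralizer_iff]
        intro p hp
        exact Subtype.ext (by simpa using (hy2 _ ((hPmem p).1 hp)).symm)
      have hPZ : (P : Subgroup C).subgroupOf N ≤ Z := fun a ha => by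
        rw [hZ, mem_subgroupOf, mem_centralizer_iff]
        intro p hp
        exact Subtype.ext (hcm _ ((hPmem p).1 hp) _ ((hPmem _).1 ha))
      have hd : 2 ∣ ((P : Subgroup C).subgroupOf N).index :=
        (h2 ▸ orderOf_dvd_natCard _ : 2 ∣ Nat.card (N ⧸ Z)).trans (Subgroup.index_dvd_of_le hPZ)
      exact (P.subtype le_normalizer).not_dvd_index hd
    have hc := MonoidHom.ker_transferSylow_isComplement' P hP
    set V := (MonoidHom.transferSylow P hP).ker
    refine ⟨V.map C.subtype, map_subtype_le _, ?_, ?_, ?_⟩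
    · rw [card_map_of_injective C.subtype_injective, ← Nat.not_even_iff_odd, even_iff_two_dvd]
      exact MonoidHom.not_dvd_card_ker_transferSylow P hP
    · rintro c hc' _ ⟨v, hv, rfl⟩
      exact ⟨_, (MonoidHom.normal_ker _).conj_mem v hv ⟨c, hc'⟩, rfl⟩
    · intro c hc'
      obtain ⟨⟨v, x⟩, hvx⟩ := hc.2 ⟨c, hc'⟩
      exact ⟨_, ⟨v, v.2, rfl⟩, _, (hPmem x).1 x.2, (congrArg Subtype.val hvx).symm⟩
  · have hgen : closure ({g.σ, g.τ} : Set G) = (S : Subgroup G) := by
      refine le_antisymm ((closure_le _).2 ?_) fun x hx => ?_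
      · rintro x (rfl | rfl)
        · exact g.hσ
        · exact g.hτ
      · obtain ⟨i, rfl | rfl⟩ := g.hform x hx
        · exact zpow_mem (Subgroup.subset_closure (show g.σ ∈ ({g.σ, g.τ} : Set G) from Or.inl rfl)) i
        · exact mul_mem (zpow_mem (Subgroup.subset_closure (show g.σ ∈ ({g.σ, g.τ} : Set G) from Or.inl rfl)) i) (Subgroup.subset_closure (show g.τ ∈ ({g.σ, g.τ} : Set G) from Or.inr rfl))
    obtain ⟨d, hform⟩ := DihedralBlock.exists_core (n := g.k + 2) (by omega) S g.hσ g.hτ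
      (by rw [show g.k + 2 - 1 = g.k + 1 by omega, hσord]) g.hτo g.hrel hgen
    have hJ : g.σ ^ 2 ^ g.k = t := by
      obtain ⟨i, hi⟩ := mem_zpowers_iff.1 g.htσ
      have h2 : g.σ ^ (2 * i) = 1 := by
        rw [mul_comm, zpow_mul, hi, zpow_two, sq_of_order ht]
      rw [← orderOf_dvd_iff_zpow_eq_one, hσord] at h2
      obtain ⟨j, hj⟩ : ((2 : ℤ) ^ g.k) ∣ i := by
        rw [pow_succ'] at h2
        push_cast at h2
        exact (mul_dvd_mul_iff_left (by norm_num)).1 h2
      rcases Int.even_or_odd j with ⟨m, rfl⟩ | ⟨m, rfl⟩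
      · exfalso
        refine ne_one_of_order ht ?_
        rw [← hi, ← orderOf_dvd_iff_zpow_eq_one, hσord, hj]
        exact ⟨m, by push_cast; ring⟩
      · refine Eq.trans ?_ hi
        rw [hj, mul_add, mul_one, zpow_add, show (2 : ℤ) ^ g.k * (2 * m) = ((2 ^ (g.k + 1) : ℕ) : ℤ) * m by
          push_cast; ring, zpow_mul, zpow_natCast, ← hσord, pow_orderOf_eq_one, one_zpow, one_mul]
        rw [← zpow_natCast]; norm_num
    have hJ' : g.σ ^ 2 ^ (g.k + 2 - 2) = t := by rw [Nat.add_sub_cancel, hJ]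
    refine ⟨d.V, fun v hv => ?_, d.oddV, fun c hc v hv => ?_, fun c hc => ?_⟩
    · exact mem_cent.2 ((d.commute_J hv).symm.eq |> (hJ' ▸ ·))
    · exact d.normV c (hJ'.symm ▸ (mem_cent.1 hc).symm) v hv
    · obtain ⟨v, hv, i, h | h⟩ := d.decomp c (hJ'.symm ▸ (mem_cent.1 hc).symm)
      · exact ⟨v, hv, _, pow_mem g.hσ i, h⟩
      · exact ⟨v, hv, _, mul_mem (pow_mem g.hσ i) g.hτ, h⟩

/-- The configuration of Brauer, Suzuki and Wall. -/
theorem exists_config (g : Gens S t) (htS : t ∈ (S : Subgroup G))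
    (htZ : ∀ s ∈ (S : Subgroup G), s * t = t * s) (ht : orderOf t = 2)
    (hM : ∀ M : Subgroup G, M.Normal → M.index ≠ 2) (O : Subgroup G)
    (hO : O = (Cfsg.oddCore (centralizer ({t} : Set G))).map (centralizer ({t} : Set G)).subtype)
    (ha : O ≠ ⊥ → IsCyclic ((S : Subgroup G) ⊓ centralizer (O : Set G) : Subgroup G) ∧
      ((S : Subgroup G) ⊓ centralizer (O : Set G)).relIndex (S : Subgroup G) = 2)
    (hb : ∀ s ∈ (S : Subgroup G), s ∉ centralizer (O : Set G) → ∀ y ∈ O, s * y * s⁻¹ = y⁻¹)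
    (hc : ∀ Y : Subgroup G, Y ≤ O → Y ≠ ⊥ → normalizer (Y : Set G) ≤ centralizer ({t} : Set G)) :
    ∃ c : Config G, c.t = t ∧ (S : Subgroup G) ≤ centralizer ({t} : Set G) := by
  haveI : Fact (Nat.Prime 2) := ⟨Nat.prime_two⟩
  set C := centralizer ({t} : Set G) with hC
  have hSC : (S : Subgroup G) ≤ C := fun x hx => mem_cent.2 (htZ x hx)
  obtain ⟨V, hVC, hVodd, hVn, hdec⟩ := exists_decomp g htS htZ ht
  have hOC : O ≤ C := hO ▸ map_subtype_le _
  have hOodd : Odd (Nat.card O) := by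
    rw [hO, card_map_of_injective C.subtype_injective]
    exact Nat.coprime_two_right.1 PCore.coprime_card_pPrimeCore
  have hVO : V ≤ O := by
    haveI : (V.subgroupOf C).Normal := ⟨fun v hv c => hVn _ c.2 _ hv⟩
    intro v hv
    rw [hO]
    refine ⟨⟨v, hVC hv⟩, PCore.le_pPrimeCore (N := V.subgroupOf C) ?_ hv, rfl⟩
    rw [Nat.card_congr (subgroupOfEquivOfLe hVC).toEquiv]
    exact Nat.coprime_two_right.2 hVodd
  have hOn : ∀ c ∈ C, ∀ y ∈ O, c * y * c⁻¹ ∈ O := by
    rw [hO]
    rintro c hc' _ ⟨y, hy, rfl⟩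
    haveI : (Cfsg.oddCore ↥C).Normal := PCore.pPrimeCore_normal
    exact ⟨_, Normal.conj_mem inferInstance y hy ⟨c, hc'⟩, rfl⟩
  have hOS : ∀ x ∈ O, x ∈ (S : Subgroup G) → x = 1 := by
    intro x hxO hxS
    have h1 : O ⊓ (S : Subgroup G) = ⊥ := by
      refine (disjoint_of_coprime_natCard ?_).eq_bot
      rw [g.hcard, g.hn, ← pow_succ']
      exact (Nat.coprime_two_right.2 hOodd).pow_right _
    rw [← mem_bot, ← h1]
    exact ⟨hxO, hxS⟩
  have hn2 : 2 ≤ g.n := by rw [g.hn, pow_succ']; exact Nat.le_mul_of_pos_right 2 (by positivity)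
  have hσcard : Nat.card (zpowers g.σ) = g.n := by rw [Nat.card_zpowers, g.hord]
  have hτσ : g.τ ∉ zpowers g.σ := fun h => by
    have hle : (S : Subgroup G) ≤ zpowers g.σ := fun x hx => by
      obtain ⟨i, rfl | rfl⟩ := g.hform x hx
      · exact zpow_mem (mem_zpowers _) i
      · exact mul_mem (zpow_mem (mem_zpowers _) i) h
    have := card_le_of_le hle
    rw [g.hcard, hσcard] at this
    omega
  -- the rotations centralise the core and the reflections invert it
  have hσO : ∀ y ∈ O, g.σ * y = y * g.σ := by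
    intro y hy
    by_cases hO1 : O = ⊥
    · rw [hO1, mem_bot] at hy; simp [hy]
    obtain ⟨hcyc, hidx⟩ := ha hO1
    set X := (S : Subgroup G) ⊓ centralizer (O : Set G) with hX
    have htX : t ∈ X := ⟨htS, mem_centralizer_iff.2 fun z hz => mem_cent.1 (hOC hz)⟩
    have hXc : Nat.card X = g.n := by
      have h1 := (X.subgroupOf (S : Subgroup G)).index_mul_card
      rw [show (X.subgroupOf (S : Subgroup G)).index = 2 from hidx,
        Nat.card_congr (subgroupOfEquivOfLe (show X ≤ (S : Subgroup G) from inf_le_left)).toEquiv,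
        g.hcard] at h1
      omega
    obtain ⟨⟨x, hx⟩, hgen⟩ := hcyc.exists_generator
    have hXx : X ≤ zpowers x := fun z hz => by
      obtain ⟨i, hi⟩ := mem_zpowers_iff.1 (hgen ⟨z, hz⟩)
      exact ⟨i, congrArg Subtype.val hi⟩
    have hxo : orderOf x = g.n := by
      rw [← hXc, ← Nat.card_zpowers]
      exact congrArg (fun H : Subgroup G => Nat.card H) (le_antisymm (zpowers_le.2 hx) hXx)
    have hxσ : x ∈ zpowers g.σ := by
      obtain ⟨i, h | h⟩ := g.hform x hx.1
      · exact h ▸ zpow_mem (mem_zpowers _) i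
      · exfalso
        have hx2 : x * x = 1 := by
          have hconj : g.τ * g.σ ^ i * g.τ⁻¹ = (g.σ ^ i)⁻¹ := by
            rw [← conj_zpow, g.hrel, inv_zpow]
          rw [h, show g.σ ^ i * g.τ * (g.σ ^ i * g.τ) = g.σ ^ i * (g.τ * g.σ ^ i * g.τ⁻¹) * (g.τ * g.τ) by
            group, hconj, sq_of_order g.hτo]
          group
        obtain ⟨j, hj⟩ := mem_zpowers_iff.1 (hXx htX)
        have htx : x = t := by
          have hxo2 : orderOf x = 2 := order_of_sq hx2 fun h1 => by
            rw [h1, one_zpow] at hj; exact ne_one_of_order ht hj.symm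
          rw [← zpow_mod_orderOf, hxo2] at hj
          rcases Int.emod_two_eq_zero_or_one j with e | e <;>
            rw [show ((2 : ℕ) : ℤ) = 2 from rfl, e] at hj
          · exact absurd (zpow_zero x ▸ hj).symm (ne_one_of_order ht)
          · exact zpow_one x ▸ hj
        refine hτσ ?_
        have hm : x ∈ zpowers g.σ := by rw [htx]; exact g.htσ
        have := mul_mem (inv_mem (zpow_mem (mem_zpowers g.σ) i)) (h ▸ hm)
        rwa [inv_mul_cancel_left] at this
    have heq : zpowers x = zpowers g.σ :=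
      eq_of_le_of_card_ge (zpowers_le.2 hxσ) (by rw [Nat.card_zpowers, Nat.card_zpowers, hxo, g.hord])
    have hσX : g.σ ∈ zpowers x := heq ▸ mem_zpowers _
    have : g.σ ∈ centralizer (O : Set G) := (zpowers_le.2 hx.2) hσX
    exact (mem_centralizer_iff.1 this y hy).symm
  have hτO : ∀ y ∈ O, g.τ * y * g.τ⁻¹ = y⁻¹ := by
    intro y hy
    by_cases hO1 : O = ⊥
    · rw [hO1, mem_bot] at hy; simp [hy]
    refine hb _ g.hτ (fun h => ?_) y hy
    have hle : (S : Subgroup G) ≤ centralizer (O : Set G) := fun x hx => by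
      have hσc : g.σ ∈ centralizer (O : Set G) := mem_centralizer_iff.2 fun z hz => (hσO z hz).symm
      obtain ⟨i, rfl | rfl⟩ := g.hform x hx
      · exact zpow_mem hσc i
      · exact mul_mem (zpow_mem hσc i) h
    have h2 := (ha hO1).2
    rw [inf_of_le_left hle, relIndex_self] at h2
    omega
  have hOcomm : ∀ x ∈ O, ∀ y ∈ O, x * y = y * x := by
    intro x hx y hy
    have h1 : g.τ * (x * y) * g.τ⁻¹ = y⁻¹ * x⁻¹ := by rw [hτO _ (mul_mem hx hy), mul_inv_rev]
    rw [show g.τ * (x * y) * g.τ⁻¹ = (g.τ * x * g.τ⁻¹) * (g.τ * y * g.τ⁻¹) by group, hτO x hx,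
      hτO y hy] at h1
    have h2 := congrArg (·⁻¹) h1
    simpa using h2.symm
  -- the abelian subgroup
  have hσn : zpowers g.σ ≤ normalizer (O : Set G) := by
    refine zpowers_le.2 (Subgroup.mem_normalizer_iff.2 fun z => ⟨fun hz => ?_, fun hz => ?_⟩)
    · rw [hσO z hz]; simpa using hz
    · have := hOn _ (inv_mem (hSC g.hσ)) _ hz
      simpa [mul_assoc] using this
  set K := O ⊔ zpowers g.σ with hK
  have hKmem : ∀ x, x ∈ K ↔ ∃ y ∈ O, ∃ i : ℤ, x = y * g.σ ^ i := by
    intro x
    rw [← SetLike.mem_coe, hK, coe_mul_of_right_le_normalizer_left O _ hσn, Set.mem_mul]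
    constructor
    · rintro ⟨y, hy, w, hw, rfl⟩
      obtain ⟨i, rfl⟩ := mem_zpowers_iff.1 hw
      exact ⟨y, hy, i, rfl⟩
    · rintro ⟨y, hy, i, rfl⟩
      exact ⟨y, hy, _, zpow_mem (mem_zpowers _) i, rfl⟩
  have hOσ : ∀ y ∈ O, ∀ i : ℤ, Commute y (g.σ ^ i) := fun y hy i =>
    ((show Commute g.σ y from hσO y hy).symm).zpow_right i
  have hKcomm : ∀ x ∈ K, ∀ y ∈ K, x * y = y * x := by
    intro x hx y hy
    obtain ⟨a, ha', i, rfl⟩ := (hKmem x).1 hx
    obtain ⟨b, hb', j, rfl⟩ := (hKmem y).1 hy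
    exact (((show Commute a b from hOcomm a ha' b hb').mul_right (hOσ a ha' j)).mul_left
      ((hOσ b hb' i).symm.mul_right ((Commute.refl g.σ).zpow_zpow i j))).eq
  have htK : t ∈ K := le_sup_right (a := O) g.htσ
  have hKC : K ≤ C := sup_le hOC (zpowers_le.2 (hSC g.hσ))
  have hτK : g.τ ∉ K := by
    intro h
    obtain ⟨y, hy, i, hyi⟩ := (hKmem _).1 h
    have hyS : y ∈ (S : Subgroup G) := by
      rw [show y = g.τ * (g.σ ^ i)⁻¹ by rw [hyi, mul_inv_cancel_right]]
      exact mul_mem g.hτ (inv_mem (zpow_mem g.hσ i))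
    rw [hOS y hy hyS, one_mul] at hyi
    exact hτσ (hyi ▸ zpow_mem (mem_zpowers _) i)
  have hKinv : ∀ x ∈ K, g.τ * x * g.τ⁻¹ = x⁻¹ := by
    intro x hx
    obtain ⟨y, hy, i, rfl⟩ := (hKmem x).1 hx
    rw [show g.τ * (y * g.σ ^ i) * g.τ⁻¹ = (g.τ * y * g.τ⁻¹) * (g.τ * g.σ ^ i * g.τ⁻¹) by group,
      hτO y hy, ← conj_zpow, g.hrel, inv_zpow, mul_inv_rev]
    exact ((hOσ y hy i).inv_inv).eq
  have hKC' : K ⊔ zpowers g.τ = C := by
    refine le_antisymm (sup_le hKC (zpowers_le.2 (hSC g.hτ))) fun c hc' => ?_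
    obtain ⟨v, hv, x, hx, rfl⟩ := hdec c hc'
    refine mul_mem (le_sup_left (a := K) (show v ∈ K from le_sup_left (a := O) (hVO hv))) ?_
    obtain ⟨i, rfl | rfl⟩ := g.hform x hx
    · exact le_sup_left (a := K) (le_sup_right (a := O) (zpow_mem (mem_zpowers _) i))
    · exact mul_mem (le_sup_left (a := K) (le_sup_right (a := O) (zpow_mem (mem_zpowers _) i)))
        (le_sup_right (a := K) (mem_zpowers _))
  -- the involutions of the abelian subgroup
  have hKinvol : ∀ x ∈ K, x * x = 1 → x = 1 ∨ x = t := by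
    intro x hx h2
    obtain ⟨y, hy, i, rfl⟩ := (hKmem x).1 hx
    rw [(hOσ y hy i).symm.mul_mul_mul_comm] at h2
    have hyS : y * y ∈ (S : Subgroup G) := by
      rw [eq_inv_of_mul_eq_one_left h2]
      exact inv_mem (mul_mem (zpow_mem g.hσ i) (zpow_mem g.hσ i))
    have hy2 := hOS _ (mul_mem hy hy) hyS
    have hy1 : y = 1 := by
      refine orderOf_eq_one_iff.1 (Nat.eq_one_of_dvd_coprimes (k := orderOf y)
        (Nat.coprime_two_right.2 hOodd) ?_ (orderOf_dvd_of_pow_eq_one (by rw [pow_two]; exact hy2)))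
      rw [← orderOf_mk y hy]
      exact orderOf_dvd_natCard _
    subst hy1
    rw [one_mul, one_mul] at h2
    rw [one_mul]
    by_cases h1 : g.σ ^ i = 1
    · exact Or.inl h1
    refine Or.inr ?_
    obtain ⟨j, hj⟩ := mem_zpowers_iff.1 g.htσ
    have key : ∀ l : ℤ, g.σ ^ l * g.σ ^ l = 1 → g.σ ^ l ≠ 1 → ∃ e : ℤ, l = 2 ^ g.k * (2 * e + 1) := by
      intro l hl hl1
      rw [← zpow_add, ← orderOf_dvd_iff_zpow_eq_one, g.hord, g.hn, ← two_mul, pow_succ'] at hl
      push_cast at hl
      obtain ⟨c, rfl⟩ := (mul_dvd_mul_iff_left (by norm_num : (2 : ℤ) ≠ 0)).1 hl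
      rcases Int.even_or_odd c with ⟨e, rfl⟩ | ⟨e, rfl⟩
      · exfalso
        refine hl1 ?_
        rw [← orderOf_dvd_iff_zpow_eq_one, g.hord, g.hn]
        exact ⟨e, by push_cast; ring⟩
      · exact ⟨e, rfl⟩
    obtain ⟨e, he⟩ := key i h2 h1
    obtain ⟨f, hf⟩ := key j (hj.symm ▸ sq_of_order ht) (hj.symm ▸ ne_one_of_order ht)
    refine Eq.trans ?_ hj
    rw [← mul_inv_eq_one, ← zpow_neg, ← zpow_add, ← orderOf_dvd_iff_zpow_eq_one, g.hord, g.hn, he, hf]
    exact ⟨e - f, by push_cast; ring⟩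
  have hCK : K ⊓ centralizer ({g.τ} : Set G) = zpowers t := by
    refine le_antisymm (fun x hx => ?_) (zpowers_le.2 ⟨htK, mem_cent.2 (htZ _ g.hτ).symm⟩)
    have h1 := hKinv x hx.1
    rw [← mem_cent.1 hx.2, mul_inv_cancel_right] at h1
    rcases hKinvol x hx.1 (mul_eq_one_iff_eq_inv.2 h1) with rfl | rfl
    · exact one_mem _
    · exact mem_zpowers _
  -- one class of involutions
  have hone : ∀ u : G, orderOf u = 2 → IsConj u t := by
    intro u hu
    obtain ⟨R, hR⟩ := (IsPGroup.of_card (n := 1) (by rw [Nat.card_zpowers, hu, pow_one]) :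
      IsPGroup 2 (zpowers u)).exists_le_sylow
    obtain ⟨a, ha'⟩ := MulAction.exists_smul_eq G R S
    have huS : a * u * a⁻¹ ∈ (S : Subgroup G) := by
      rw [← ha']
      exact Subgroup.smul_mem_pointwise_smul u (MulAut.conj a) (R : Subgroup G) (hR (mem_zpowers u))
    have hQi : (zpowers g.σ).relIndex (S : Subgroup G) = 2 := by
      have h1 := ((zpowers g.σ).subgroupOf (S : Subgroup G)).index_mul_card
      rw [Nat.card_congr (subgroupOfEquivOfLe (zpowers_le.2 g.hσ)).toEquiv, hσcard, g.hcard] at h1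
      exact Nat.eq_of_mul_eq_mul_right (by omega) h1
    have hw2 : (a * u * a⁻¹) ^ 2 = 1 := by
      rw [conj_pow, ← hu, pow_orderOf_eq_one, mul_one, mul_inv_cancel]
    by_cases hex : ∃ k : G, k * (a * u * a⁻¹) * k⁻¹ ∈ zpowers g.σ
    · obtain ⟨k, hk⟩ := hex
      refine isConj_iff.2 ⟨k * a, ?_⟩
      rw [show k * a * u * (k * a)⁻¹ = k * (a * u * a⁻¹) * k⁻¹ by group]
      have h2 : k * (a * u * a⁻¹) * k⁻¹ * (k * (a * u * a⁻¹) * k⁻¹) = 1 := by
        rw [← pow_two, conj_pow, hw2, mul_one, mul_inv_cancel]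
      refine (hKinvol _ (le_sup_right (a := O) hk) h2).resolve_left fun h1 => ?_
      rw [conj_eq_one_iff, conj_eq_one_iff] at h1
      exact ne_one_of_order hu h1
    · push Not at hex
      obtain ⟨M, hMn, hMi, -⟩ := Transfer.exists_index_two_of_involution S (zpowers g.σ)
        (zpowers_le.2 g.hσ) hQi (a * u * a⁻¹) hw2 huS (fun h => hex 1 (by simpa using h)) hex
      exact absurd hMi (hM M hMn)
  -- TI
  have hTI : ∀ a : G, a ∉ C → K ⊓ K.map (MulAut.conj a).toMonoidHom = ⊥ := by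
    intro a haC
    rw [eq_bot_iff]
    rintro x ⟨hxK, hxK'⟩
    obtain ⟨y, hy, rfl⟩ := hxK'
    rw [mem_bot]
    simp only [MulEquiv.coe_toMonoidHom, MulAut.conj_apply] at hxK ⊢
    by_contra hx1
    set x := a * y * a⁻¹ with hx
    have hox : orderOf y = orderOf x := ((MulAut.conj a).orderOf_eq y).symm
    have hxodd : Odd (orderOf x) := by
      rw [← Nat.not_even_iff_odd, even_iff_two_dvd]
      rintro ⟨m, hm⟩
      refine haC (mem_cent.2 ?_)
      have hxm : (x ^ m) * (x ^ m) = 1 := by rw [← pow_add, ← two_mul, ← hm, pow_orderOf_eq_one]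
      have hxm1 : x ^ m ≠ 1 := fun h => by
        have h1 := Nat.le_of_dvd (Nat.pos_of_ne_zero fun h0 => by
          rw [h0, mul_zero] at hm; exact (orderOf_pos x).ne' hm) (orderOf_dvd_of_pow_eq_one h)
        have h0 := orderOf_pos x
        omega
      have hxmy : x ^ m = a * y ^ m * a⁻¹ := conj_pow
      have e1 := (hKinvol _ (pow_mem hxK m) hxm).resolve_left hxm1
      have e2 : y ^ m = t := by
        refine (hKinvol _ (pow_mem hy m) ?_).resolve_left ?_
        · rw [← pow_add, ← two_mul, ← hm, ← hox, pow_orderOf_eq_one]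
        · intro h; exact hxm1 (by rw [hxmy, h, mul_one, mul_inv_cancel])
      rw [hxmy, e2] at e1
      exact mul_inv_eq_iff_eq_mul.1 e1
    have hxO : x ∈ O := by
      obtain ⟨z, hz, i, hzi⟩ := (hKmem x).1 hxK
      have hpow : x ^ g.n = z ^ g.n := by
        rw [hzi, (hOσ z hz i).mul_pow, ← zpow_natCast (g.σ ^ i), zpow_comm, zpow_natCast,
          ← g.hord, pow_orderOf_eq_one, one_zpow, mul_one]
      have hcop : (g.n).Coprime (orderOf x) := by
        rw [g.hn]; exact (Nat.coprime_two_left.2 hxodd).pow_left _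
      obtain ⟨j, hj⟩ := exists_pow_eq_self_of_coprime hcop
      rw [← hj, hpow]
      exact pow_mem (pow_mem hz _) j
    have hCx : centralizer ({x} : Set G) ≤ C := by
      refine le_trans (fun c hc' => ?_) (hc (zpowers x) (zpowers_le.2 hxO) (by
        rwa [Ne, zpowers_eq_bot]))
      rw [Subgroup.mem_normalizer_iff]
      intro w
      have hcx : Commute c x := mem_cent.1 hc'
      constructor
      · intro hw
        obtain ⟨j, rfl⟩ := mem_zpowers_iff.1 hw
        rw [(hcx.zpow_right j).eq, mul_inv_cancel_right]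
        exact zpow_mem (mem_zpowers _) j
      · intro hw
        obtain ⟨j, hj⟩ := mem_zpowers_iff.1 hw
        have : w = c⁻¹ * x ^ j * c := by rw [hj]; group
        rw [this, mul_assoc, ← (hcx.zpow_right j).eq, inv_mul_cancel_left]
        exact zpow_mem (mem_zpowers _) j
    have hxt : a * t * a⁻¹ ∈ centralizer ({x} : Set G) := by
      rw [mem_cent, hx]
      calc a * t * a⁻¹ * (a * y * a⁻¹) = a * (t * y) * a⁻¹ := by group
        _ = a * (y * t) * a⁻¹ := by rw [hKcomm t htK y hy]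
        _ = _ := by group
    have hatC : a * t * a⁻¹ ∈ C := hCx hxt
    have hatK : a * t * a⁻¹ ∈ K := by
      by_contra hnK
      have hmem : a * t * a⁻¹ ∈ ((K ⊔ zpowers g.τ : Subgroup G) : Set G) := by rw [hKC']; exact hatC
      rw [coe_mul_of_right_le_normalizer_left K _ (zpowers_le.2 (Subgroup.mem_normalizer_iff.2
        fun w => ⟨fun hw => hKinv w hw ▸ inv_mem hw, fun hw => by
          have h2 := inv_mem hw
          rw [← hKinv _ hw, show g.τ * (g.τ * w * g.τ⁻¹) * g.τ⁻¹ = (g.τ * g.τ) * w * (g.τ * g.τ)⁻¹ by group,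
            sq_of_order g.hτo] at h2
          simpa using h2⟩))] at hmem
      obtain ⟨w, hw, z, hz, hwz⟩ := Set.mem_mul.1 hmem
      obtain ⟨j, rfl⟩ := mem_zpowers_iff.1 hz
      rw [← zpow_mod_orderOf, g.hτo] at hwz
      rcases Int.emod_two_eq_zero_or_one j with e | e <;>
        rw [show ((2 : ℕ) : ℤ) = 2 from rfl, e] at hwz
      · rw [zpow_zero, mul_one] at hwz
        exact hnK (hwz ▸ hw)
      rw [zpow_one] at hwz
      have h1 : a * t * a⁻¹ * x * (a * t * a⁻¹)⁻¹ = x :=
        mul_inv_eq_iff_eq_mul.2 (mem_cent.1 hxt)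
      rw [← hwz, show w * g.τ * x * (w * g.τ)⁻¹ = w * (g.τ * x * g.τ⁻¹) * w⁻¹ by group, hKinv x hxK,
        hKcomm w hw _ (inv_mem hxK), mul_inv_cancel_right] at h1
      have h2 : x * x = 1 := by nth_rw 2 [← h1]; exact mul_inv_cancel x
      refine hx1 (orderOf_eq_one_iff.1 (Nat.eq_one_of_dvd_coprimes (k := orderOf x)
        (Nat.coprime_two_right.2 hxodd) dvd_rfl (orderOf_dvd_of_pow_eq_one (by rw [pow_two]; exact h2))))
    have h2 : a * t * a⁻¹ * (a * t * a⁻¹) = 1 := by
      rw [← pow_two, conj_pow, pow_two, sq_of_order ht, mul_one, mul_inv_cancel]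
    have e := (hKinvol _ hatK h2).resolve_left fun h => ne_one_of_order ht (conj_eq_one_iff.1 h)
    exact haC (mem_cent.2 (mul_inv_eq_iff_eq_mul.1 e))
  exact ⟨{
    t := t, K := K, s := g.τ, ht := ht, comm := hKcomm, hKH := hKC, htK := htK, hs := g.hτo,
    hsH := hSC g.hτ, hsK := hτK, hH := hKC', hCK := hCK, hinv := hKinv, hTI := hTI,
    hconj := fun x y hx hy => (hone x hx).trans (hone y hy).symm }, rfl, hSC⟩

/-- The conclusion of the theorem of Brauer, Suzuki and Wall makes a simple group `PSL_2 (q)`. -/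
theorem exists_psl [IsSimpleGroup G] {Q D : Subgroup G}
    (hG : 2 * Nat.card G = Nat.card Q * (Nat.card Q + 1) * (Nat.card Q - 1))
    (hQC : ∀ x ∈ Q, x ≠ 1 → centralizer ({x} : Set G) = Q)
    (hD : 2 * Nat.card D + 1 = Nat.card Q) (hQD : Q ⊓ D = ⊥)
    (hN : normalizer (Q : Set G) = Q ⊔ D) (h5 : 5 ≤ Nat.card Q) :
    ∃ (F : Type) (_ : Field F) (_ : Fintype F), Odd (Fintype.card F) ∧ Nonempty (G ≃* PSL(2, F)) := by
  classical
  obtain ⟨q, hq⟩ : ∃ q, q = Nat.card Q := ⟨_, rfl⟩
  obtain ⟨d, hd⟩ : ∃ d, d = Nat.card D := ⟨_, rfl⟩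
  rw [← hq, ← hd] at hD
  rw [← hq] at hG h5
  have hqodd : Odd q := ⟨d, hD.symm⟩
  have hcomm : ∀ a ∈ Q, ∀ b ∈ Q, a * b = b * a := by
    intro a ha b hb
    by_cases ha1 : a = 1
    · simp [ha1]
    rw [← hQC a ha ha1] at hb
    exact (mem_cent.1 hb).symm
  have hDN : D ≤ normalizer (Q : Set G) := hN ▸ le_sup_right
  have hconj : ∀ c ∈ D, ∀ x ∈ Q, c * x * c⁻¹ ∈ Q := fun c hc x hx =>
    (Subgroup.mem_normalizer_iff.1 (hDN hc) x).1 hx
  -- `Q` is a `p`-group: there are at most two orbits of `D` on the nontrivial elements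
  obtain ⟨p, hp, hdiv⟩ := Nat.exists_prime_and_dvd (show q ≠ 1 by omega)
  haveI : Fact p.Prime := ⟨hp⟩
  have hp2 : p ≠ 2 := by
    rintro rfl
    exact (Nat.not_even_iff_odd.2 hqodd) (even_iff_two_dvd.2 hdiv)
  have hQp : IsPGroup p Q := by
    by_contra hnot
    obtain ⟨r, hr, hrd, hrp⟩ : ∃ r, r.Prime ∧ r ∣ q ∧ r ≠ p := by
      by_contra hall
      push Not at hall
      refine hnot (IsPGroup.of_card (n := q.primeFactorsList.length) ?_)
      rw [← hq]
      exact (Nat.eq_prime_pow_of_unique_prime_dvd (by omega) fun {r} hr hrd => hall r hr hrd)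
    haveI : Fact r.Prime := ⟨hr⟩
    obtain ⟨⟨x, hx⟩, hxo⟩ := exists_prime_orderOf_dvd_card' p (hq ▸ hdiv : p ∣ Nat.card Q)
    obtain ⟨⟨y, hy⟩, hyo⟩ := exists_prime_orderOf_dvd_card' r (hq ▸ hrd : r ∣ Nat.card Q)
    rw [orderOf_mk] at hxo hyo
    have hxy : orderOf (x * y) = p * r := by
      rw [(show Commute x y from hcomm x hx y hy).orderOf_mul_eq_mul_orderOf_of_coprime ?_, hxo, hyo]
      rw [hxo, hyo]
      exact (Nat.coprime_primes hp hr).2 (Ne.symm hrp)
    have horb : ∀ z ∈ Q, z ≠ 1 → ∀ m : ℕ, orderOf z = m →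
        d ≤ (Set.toFinite {w : G | w ∈ Q ∧ orderOf w = m}).toFinset.card := by
      intro z hz hz1 m hm
      letI := Fintype.ofFinite D
      rw [hd, Nat.card_eq_fintype_card, ← Finset.card_univ]
      refine Finset.card_le_card_of_injOn (fun c : D => (c : G) * z * (c : G)⁻¹) ?_ ?_
      · intro c _
        simp only [Finset.mem_coe, Set.Finite.mem_toFinset, Set.mem_ofPred_eq]
        exact ⟨hconj c c.2 z hz, by rw [← hm]; exact (MulAut.conj (c : G)).orderOf_eq z⟩
      · intro c _ c' _ h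
        have h' : ((c' : G)⁻¹ * c) * z = z * ((c' : G)⁻¹ * c) :=
          calc ((c' : G)⁻¹ * c) * z = (c' : G)⁻¹ * ((c : G) * z * (c : G)⁻¹) * c := by group
            _ = (c' : G)⁻¹ * ((c' : G) * z * (c' : G)⁻¹) * c := by rw [show (c : G) * z * (c : G)⁻¹ = _ from h]
            _ = z * ((c' : G)⁻¹ * c) := by group
        have hmQ : (c' : G)⁻¹ * c ∈ Q := hQC z hz hz1 ▸ mem_cent.2 h'
        have : (c' : G)⁻¹ * c = 1 := by
          rw [← Subgroup.mem_bot, ← hQD]
          exact ⟨hmQ, mul_mem (s := D) (inv_mem c'.2) c.2⟩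
        exact Subtype.ext (inv_mul_eq_one.1 this).symm
    have hne : ∀ {z : G} {m : ℕ}, orderOf z = m → 1 < m → z ≠ 1 := fun h hm h1 => by
      rw [h1, orderOf_one] at h; omega
    have hpr : p < p * r ∧ r < p * r :=
      ⟨lt_mul_right hp.pos hr.one_lt, lt_mul_left hr.pos hp.one_lt⟩
    have h1 := horb x hx (hne hxo hp.one_lt) p hxo
    have h2 := horb y hy (hne hyo hr.one_lt) r hyo
    have h3 := horb (x * y) (mul_mem hx hy) (hne hxy (hp.one_lt.trans hpr.1)) (p * r) hxy
    set A := (Set.toFinite {w : G | w ∈ Q ∧ orderOf w = p}).toFinset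
    set B := (Set.toFinite {w : G | w ∈ Q ∧ orderOf w = r}).toFinset
    set E := (Set.toFinite {w : G | w ∈ Q ∧ orderOf w = p * r}).toFinset
    have hAB : Disjoint A B := Finset.disjoint_left.2 fun w hA hB => by
      simp only [A, B, Set.Finite.mem_toFinset, Set.mem_ofPred_eq] at hA hB
      omega
    have hE : Disjoint (A ∪ B) E := Finset.disjoint_left.2 fun w hAB hw => by
      simp only [A, B, E, Finset.mem_union, Set.Finite.mem_toFinset, Set.mem_ofPred_eq] at hAB hw
      omega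
    have hsub : A ∪ B ∪ E ⊆ ((Set.toFinite (Q : Set G)).toFinset).erase 1 := fun w hw => by
      simp only [A, B, E, Finset.mem_union, Set.Finite.mem_toFinset, Set.mem_ofPred_eq] at hw
      rw [Finset.mem_erase, Set.Finite.mem_toFinset]
      rcases hw with (⟨h, ho⟩ | ⟨h, ho⟩) | ⟨h, ho⟩
      · exact ⟨hne ho hp.one_lt, h⟩
      · exact ⟨hne ho hr.one_lt, h⟩
      · exact ⟨hne ho (hp.one_lt.trans hpr.1), h⟩
    have hle := Finset.card_le_card hsub
    rw [Finset.card_union_of_disjoint hE, Finset.card_union_of_disjoint hAB,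
      Finset.card_erase_of_mem (by simp)] at hle
    have hQc : ((Set.toFinite (Q : Set G)).toFinset).card = q := by
      rw [← Set.ncard_eq_toFinset_card, ← Nat.card_coe_set_eq]; exact hq.symm
    omega
  -- `Q` is a Sylow subgroup
  obtain ⟨a, ha⟩ := IsPGroup.iff_card.1 hQp
  rw [← hq] at ha
  have hG2 : 2 * Nat.card G = q * ((q + 1) * (q - 1)) := by rw [hG]; ring
  have hidx : 2 * Q.index = (q + 1) * (q - 1) := by
    refine Nat.eq_of_mul_eq_mul_left (show 0 < q by omega) ?_
    rw [← hG2, ← Q.index_mul_card, ← hq]; ring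
  have hndvd : ¬ p ∣ Q.index := by
    intro h
    have h1 : p ∣ (q + 1) * (q - 1) := hidx ▸ h.mul_left 2
    rcases hp.dvd_mul.1 h1 with h2 | h2
    · have := Nat.dvd_sub h2 hdiv
      rw [Nat.add_sub_cancel_left] at this
      exact hp.not_dvd_one this
    · have := Nat.dvd_sub hdiv h2
      rw [show q - (q - 1) = 1 by omega] at this
      exact hp.not_dvd_one this
  set P := hQp.toSylow hndvd with hP
  have hPQ : (P : Subgroup G) = Q := IsPGroup.toSylow_coe ..
  have hPc : Nat.card P = q := by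
    show Nat.card (P : Subgroup G) = q
    rw [hPQ, hq]
  have hNcard : Nat.card (normalizer (Q : Set G)) = q * d := by
    rw [hN, sup_comm, Coprime.card_sup_of_le_normalizer hDN (by rwa [inf_comm]), hq, hd, mul_comm]
  have hn : Nat.card (Sylow p G) = Nat.card P + 1 := by
    rw [P.card_eq_index_normalizer, hPc]
    show (normalizer ((P : Subgroup G) : Set G)).index = q + 1
    rw [hPQ]
    have h1 := (normalizer (Q : Set G)).index_mul_card
    rw [hNcard] at h1
    refine Nat.eq_of_mul_eq_mul_right (show 0 < q * (2 * d) by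
      have : 0 < d := hd ▸ Nat.card_pos
      positivity) ?_
    calc (normalizer (Q : Set G)).index * (q * (2 * d)) = 2 * Nat.card G := by rw [← h1]; ring
      _ = q * ((q + 1) * (q - 1)) := hG2
      _ = (q + 1) * (q * (2 * d)) := by rw [show q - 1 = 2 * d by omega]; ring
  have ha0 : a ≠ 0 := by rintro rfl; rw [pow_zero] at ha; omega
  letI : Fintype (GaloisField p a) := Fintype.ofFinite _
  have hF : Fintype.card (GaloisField p a) = q := by
    rw [← Nat.card_eq_fintype_card, GaloisField.card p a ha0, ha]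
  refine ⟨GaloisField p a, inferInstance, inferInstance, hF ▸ hqodd, ?_⟩
  refine PSL2.Recog.psl_of_sylow P (by omega) hn ?_ ?_ (by rw [hF, hPc])
  · rw [if_neg hp2, hPc, hG2, show (q + 1) * (q - 1) = q ^ 2 - 1 by
      rw [← Nat.sq_sub_sq, one_pow]]
  · intro u hu hu1 b hb v hv
    rw [hPQ] at hu hv
    exact hcomm b (hQC u hu hu1 ▸ mem_cent.2 hb) v hv

end Cfsg.Agent.BSW.DihedralTI
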