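import Cfsg.Agent.Lib.BSW.KleinCore
import Cfsg.Agent.Lib.Involution.Dihedral
import Cfsg.Agent.S0947

/-!
A simple group with an involution whose centralizer has a normal Klein four Sylow 2-subgroup is `A₅`, from the
values of the principal block at `x`.
-/

set_option autoImplicit false
set_option linter.style.haveILetI false

namespace Cfsg.Agent.BSW

open Char

attribute [local instance] Classical.propDecidable

universe u

variable {G : Type u} [Group G]

theorem exists_kleinSylow [Finite G] [IsSimpleGroup G] (x : G) (hx : orderOf x = 2)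
    (S₀ : Subgroup G) (hle : S₀ ≤ Subgroup.centralizer ({x} : Set G)) (hK : IsKleinFour ↥S₀)
    (hodd : ¬ 2 ∣ S₀.relIndex (Subgroup.centralizer ({x} : Set G)))
    (hn : (S₀.subgroupOf (Subgroup.centralizer ({x} : Set G))).Normal) :
    ∃ F : KleinSylow G, F.x = x := by
  haveI := Fact.mk Nat.prime_two
  haveI := hn
  set C := Subgroup.centralizer ({x} : Set G) with hC
  have hcard : Nat.card S₀ = 4 := hK.card_four
  have hsq : ∀ v ∈ S₀, v * v = 1 := fun v hv =>
    congrArg Subtype.val (hK.mul_self (⟨v, hv⟩ : S₀))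
  obtain ⟨m, hm⟩ := Nat.odd_iff.mpr (Nat.two_dvd_ne_zero.mp hodd)
  have hpow : ∀ c ∈ C, c ^ (2 * m + 1) ∈ S₀ := fun c hc => by
    have := Subgroup.pow_index_mem (S₀.subgroupOf C) (⟨c, hc⟩ : C)
    rw [show (S₀.subgroupOf C).index = 2 * m + 1 from hm, Subgroup.mem_subgroupOf, Subgroup.coe_pow] at this
    exact this
  have hinv : ∀ c ∈ C, c * c = 1 → c ∈ S₀ := fun c hc h => by
    have := hpow c hc
    rwa [pow_succ, pow_mul, pow_two, h, one_pow, one_mul] at this
  have hxC : x ∈ C := mem_cent.mpr rfl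
  have hxS : x ∈ S₀ := hinv x hxC (sq_of_order hx)
  -- the centralizer of `x` centralizes `S₀`
  have hcomm : ∀ v ∈ S₀, ∀ c ∈ C, c * v = v * c := by
    intro v hv c hc
    by_contra hne
    have hmem : c * v * c⁻¹ ∈ S₀ := hn.conj_mem ⟨v, hle hv⟩ hv ⟨c, hc⟩
    have hv1 : v ≠ 1 := fun e => hne (by rw [e]; simp)
    have hvx : v ≠ x := fun e => hne (by rw [e]; exact mem_cent.mp hc)
    have hw1 : c * v * c⁻¹ ≠ 1 := fun e => hv1 (conj_eq_one_iff.mp e)
    have hwv : c * v * c⁻¹ ≠ v := fun e => hne (mul_inv_eq_iff_eq_mul.mp e)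
    have hwx : c * v * c⁻¹ ≠ x := fun e => hvx (by
      have h' : c * v * c⁻¹ = c * x * c⁻¹ := by rw [e, mem_cent.mp hc, mul_inv_cancel_right]
      exact mul_left_cancel (mul_right_cancel h'))
    have hfour : ∀ b ∈ S₀, b = 1 ∨ b = x ∨ b = v ∨ b = x * v := by
      intro b hb
      classical
      haveI := Fintype.ofFinite S₀
      by_contra h
      push Not at h
      obtain ⟨h1, h2, h3, h4⟩ := h
      have hx1 := ne_one_of_order hx
      have h6 : x * v ≠ 1 := fun e => hvx (by rw [eq_inv_of_mul_eq_one_right e, inv_of_order hx])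
      have h7 : x * v ≠ x := fun e => hv1 (by simpa using e)
      have h8 : x * v ≠ v := fun e => hx1 (by simpa using e)
      have hle := Finset.card_le_univ
        ({⟨b, hb⟩, 1, ⟨x, hxS⟩, ⟨v, hv⟩, ⟨x * v, mul_mem hxS hv⟩} : Finset S₀)
      rw [← Nat.card_eq_fintype_card, hcard,
        Finset.card_insert_of_notMem (by simp [Subtype.ext_iff, h1, h2, h3, h4]),
        Finset.card_insert_of_notMem (by simp [Subtype.ext_iff, hx1.symm, hv1.symm, h6.symm]),
        Finset.card_insert_of_notMem (by simp [Subtype.ext_iff, hvx.symm, h7.symm]),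
        Finset.card_pair (fun e => h8 (congrArg Subtype.val e).symm)] at hle
      omega
    have hw : c * v * c⁻¹ = x * v := by
      rcases hfour _ hmem with e | e | e | e
      · exact absurd e hw1
      · exact absurd e hwx
      · exact absurd e hwv
      · exact e
    have hc2 : c * c * v = v * (c * c) := by
      have h : c * (c * v * c⁻¹) * c⁻¹ = v := by
        rw [hw, show c * (x * v) * c⁻¹ = c * x * c⁻¹ * (c * v * c⁻¹) by group, hw, mem_cent.mp hc,
          mul_inv_cancel_right, ← mul_assoc, sq_of_order hx, one_mul]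
      exact mul_inv_eq_iff_eq_mul.mp ((show c * c * v * (c * c)⁻¹ = c * (c * v * c⁻¹) * c⁻¹ by group).trans h)
    have hodd' : Commute (c ^ (2 * m + 1)) v := by
      have hs := hpow c hc
      exact congrArg Subtype.val ((mul_comm_of_exponent_two hK.exponent_two
        (⟨_, hs⟩ : S₀) ⟨v, hv⟩ : _) : (⟨_, hs⟩ : S₀) * ⟨v, hv⟩ = ⟨v, hv⟩ * ⟨_, hs⟩)
    rw [pow_succ, pow_mul, pow_two] at hodd'
    have h2 : Commute ((c * c) ^ m)⁻¹ v := ((show Commute (c * c) v from hc2).pow_left m).inv_left
    have := h2.mul_left hodd'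
    rw [inv_mul_cancel_left] at this
    exact hne this.eq
  have hthree : Nat.card {u : ↥C // orderOf u = 2} ≤ 3 := by
    have e : Nat.card {v : S₀ // v ≠ 1} = 3 := by
      haveI := Fintype.ofFinite S₀
      rw [Nat.card_eq_fintype_card, Fintype.card_subtype_compl, Fintype.card_subtype_eq,
        ← Nat.card_eq_fintype_card, hcard]
    rw [← e]
    refine Nat.card_le_card_of_injective (fun u => ⟨⟨((u.1 : C) : G), hinv _ u.1.2 ?_⟩, fun h => ?_⟩) ?_
    · exact sq_of_order ((Subgroup.orderOf_coe _).trans u.2)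
    · have h1 : ((u.1 : C) : G) = 1 := congrArg Subtype.val h
      have h2 := (Subgroup.orderOf_coe u.1).trans u.2
      rw [h1, orderOf_one] at h2
      omega
    · intro a b h
      exact Subtype.ext (Subtype.ext (congrArg (fun q : {v : S₀ // v ≠ 1} => ((q.1 : S₀) : G)) h :))
  obtain ⟨⟨S, hS⟩, hone⟩ := Cfsg.Agent.S3279.result x hx hthree
  have hpS : IsPGroup 2 S₀ := IsPGroup.of_card (n := 2) (by rw [hcard]; norm_num)
  have hSeq : (S : Subgroup G) ≤ S₀ := fun s hs => by
    obtain ⟨k, hk⟩ := S.2 ⟨s, hs⟩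
    have hord : orderOf s ∣ 2 ^ k := orderOf_dvd_of_pow_eq_one (congrArg Subtype.val hk)
    have hcop : (orderOf s).Coprime (2 * m + 1) :=
      Nat.Coprime.coprime_dvd_left hord ((Nat.coprime_two_left.mpr ⟨m, rfl⟩).pow_left k)
    obtain ⟨n, hn'⟩ := exists_pow_eq_self_of_coprime hcop.symm
    rw [← hn']
    exact pow_mem (hpow s (hS hs)) n
  have hSV : (S : Subgroup G) = S₀ := (S.3 hpS hSeq).symm
  refine ⟨{ x := x, hx := hx, V := S₀, xV := hxS, card_V := hcard, sq := hsq, cent := fun v hv hv1 => ?_,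
            le_C := hle, invol := hinv, isSylow := ⟨S, hSV⟩, one_class := hone }, rfl⟩
  obtain ⟨g, hg⟩ := isConj_iff.mp (hone x v hx (order_of_sq (hsq v hv) hv1))
  refine (Subgroup.eq_of_le_of_card_ge (fun c hc => mem_cent.mpr (hcomm v hv c hc)) ?_).symm
  rw [← hg, card_cent_conj]

namespace KleinSylow

variable [Finite G] [IsSimpleGroup G] (F : KleinSylow G)

include F in
theorem not_comm : ¬ IsMulCommutative G := fun h => by
  obtain ⟨s, hs, hs1, hsx⟩ : ∃ s ∈ F.V, s ≠ 1 ∧ s ≠ F.x := by
    by_contra hc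
    push Not at hc
    have hsub : F.V ≤ Subgroup.zpowers F.x := fun a ha => by
      by_cases ha1 : a = 1
      · rw [ha1]; exact one_mem _
      · rw [hc a ha ha1]; exact Subgroup.mem_zpowers _
    have := Subgroup.card_le_of_le hsub
    rw [F.card_V, Nat.card_zpowers, F.hx] at this
    omega
  obtain ⟨g, hg⟩ := isConj_iff.mp (F.one_class F.x s F.hx (order_of_sq (F.sq s hs) hs1))
  exact hsx (by rw [← hg, h.is_comm.comm g F.x, mul_inv_cancel_right])

include F in
theorem three_lt_numI : F.numI ≠ 3 := fun h3 => by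
  -- otherwise `V` would be normal
  have hinvol : ∀ u : G, orderOf u = 2 → u ∈ F.V := by
    let f : {v : F.V // v ≠ 1} → {u : G // orderOf u = 2} := fun v =>
      ⟨(v.1 : G), order_of_sq (F.sq _ v.1.2) fun e => v.2 (Subtype.ext e)⟩
    have hc : Nat.card {v : F.V // v ≠ 1} = 3 := by
      haveI := Fintype.ofFinite F.V
      rw [Nat.card_eq_fintype_card, Fintype.card_subtype_compl, Fintype.card_subtype_eq,
        ← Nat.card_eq_fintype_card, F.card_V]
    have hf : Function.Bijective f := (Nat.bijective_iff_injective_and_card f).mpr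
      ⟨fun a b e => Subtype.ext (Subtype.ext (congrArg Subtype.val e :)), hc.trans h3.symm⟩
    intro u hu
    obtain ⟨v, hv⟩ := hf.2 ⟨u, hu⟩
    have e : ((v.1 : F.V) : G) = u := congrArg Subtype.val hv
    exact e ▸ v.1.2
  have hn : F.V.Normal := ⟨fun a ha g => by
    by_cases ha1 : a = 1
    · subst ha1; simp
    · exact hinvol _ (((MulAut.conj g).orderOf_eq a).trans (order_of_sq (F.sq a ha) ha1))⟩
  rcases hn.eq_bot_or_eq_top with e | e
  · have := F.card_V
    rw [e, Subgroup.card_bot] at this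
    omega
  · refine F.not_comm ⟨⟨fun a b => ?_⟩⟩
    have hC : ∀ g : G, g ∈ F.C := fun g => F.le_C (e ▸ Subgroup.mem_top g)
    exact F.V_comm_C (e ▸ Subgroup.mem_top a) (hC b)

include F in
theorem index_normalizer (h15 : F.numI = 15) : (Subgroup.normalizer (F.V : Set G)).index = 5 := by
  have hex : ∀ v : {v : F.V // v ≠ 1}, ∃ g : G, g * F.x * g⁻¹ = (v.1 : G) := fun v =>
    isConj_iff.mp (F.one_class F.x _ F.hx (order_of_sq (F.sq _ v.1.2) fun e => v.2 (Subtype.ext e)))
  choose g hg using hex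
  set N := Subgroup.normalizer (F.V : Set G) with hN
  have hnorm : ∀ g : G, g * F.x * g⁻¹ ∈ F.V → g ∈ N := by
    intro g hgV
    have hg1 : g * F.x * g⁻¹ ≠ 1 := fun e => ne_one_of_order F.hx (conj_eq_one_iff.mp e)
    have key : ∀ a, a ∈ F.C ↔ g * a * g⁻¹ ∈ F.C := fun a => by
      conv_rhs => rw [KleinSylow.C, ← F.cent _ hgV hg1, cent_conj,
        show g⁻¹ * (g * a * g⁻¹) * g = a by group]
    refine Subgroup.mem_normalizer_iff.mpr fun a => ⟨fun ha => F.invol _ ((key a).mp (F.le_C ha)) ?_,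
      fun ha => F.invol _ ((key a).mpr (F.le_C ha)) ?_⟩
    · rw [show g * a * g⁻¹ * (g * a * g⁻¹) = g * (a * a) * g⁻¹ by group, F.sq a ha]; group
    · have := F.sq _ ha
      rw [show g * a * g⁻¹ * (g * a * g⁻¹) = g * (a * a) * g⁻¹ by group, conj_eq_one_iff] at this
      exact this
  have hCN : F.C ≤ N := fun c hc => hnorm c (by rw [mem_cent.mp hc, mul_inv_cancel_right]; exact F.xV)
  let f : {v : F.V // v ≠ 1} × F.C → N := fun p =>
    ⟨g p.1 * p.2, mul_mem (hnorm _ (by rw [hg]; exact p.1.1.2)) (hCN p.2.2)⟩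
  have hf : Function.Bijective f := by
    refine ⟨?_, fun n => ?_⟩
    · rintro ⟨v, c⟩ ⟨v', c'⟩ e
      have e' : g v * c = g v' * c' := congrArg Subtype.val e
      have h1 : ∀ (v : {v : F.V // v ≠ 1}) (c : F.C), g v * c * F.x * (g v * c)⁻¹ = (v.1 : G) := fun v c => by
        rw [show g v * c * F.x * (g v * c)⁻¹ = g v * ((c : G) * F.x * (c : G)⁻¹) * (g v)⁻¹ by group,
          mem_cent.mp c.2, mul_inv_cancel_right, hg]
      obtain rfl : v = v' := Subtype.ext (Subtype.ext (by rw [← h1 v c, e', h1 v' c']))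
      exact Prod.ext rfl (Subtype.ext (mul_left_cancel e'))
    · have hm : (n : G) * F.x * (n : G)⁻¹ ∈ F.V := (Subgroup.mem_normalizer_iff.mp n.2 _).mp F.xV
      let v : {v : F.V // v ≠ 1} :=
        ⟨⟨_, hm⟩, fun e => ne_one_of_order F.hx (conj_eq_one_iff.mp (congrArg Subtype.val e))⟩
      have hv : g v * F.x * (g v)⁻¹ = (n : G) * F.x * (n : G)⁻¹ := hg v
      refine ⟨(v, ⟨(g v)⁻¹ * n, mem_cent.mpr (mul_inv_eq_iff_eq_mul.mp ?_)⟩), Subtype.ext ?_⟩
      · rw [show (g v)⁻¹ * (n : G) * F.x * ((g v)⁻¹ * n)⁻¹ = (g v)⁻¹ * ((n : G) * F.x * (n : G)⁻¹) * g v by group,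
          ← hv]
        group
      · show g v * ((g v)⁻¹ * n) = n
        group
  have hcard : Nat.card N = 3 * (4 * Nat.card F.O) := by
    haveI := Fintype.ofFinite F.V
    rw [← Nat.card_eq_of_bijective f hf, Nat.card_prod, F.card_C, Nat.card_eq_fintype_card (α := {v : F.V // v ≠ 1}),
      Fintype.card_subtype_compl, Fintype.card_subtype_eq, ← Nat.card_eq_fintype_card, F.card_V]
  have hG := Subgroup.index_mul_card N
  rw [hcard, ← F.card_G, h15] at hG
  apply Nat.eq_of_mul_eq_mul_right (show 0 < 3 * (4 * Nat.card F.O) from Nat.mul_pos (by norm_num)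
    (Nat.mul_pos (by norm_num) Nat.card_pos))
  rw [hG]; ring

/-- The conclusion from four characters of the principal block. -/
theorem iso_alternating (M : Ideal Cfsg.AlgInt) (hM : Cfsg.IsPModular 2 M) (χ : Fin 4 → IrrCharacter G)
    (hinj : Function.Injective χ) (hB : ∀ i, χ i ∈ Cfsg.principalBlock M G) (e : Fin 4 → ℤ)
    (he : ∀ i, (χ i).1 F.x = (e i : ℂ)) (he1 : ∀ i, e i = 1 ∨ e i = -1) (h0 : (χ 0).1 = fun _ => 1)
    (hodd : ∀ i, Odd (degree (χ i))) : Nonempty (G ≃* ↥(alternatingGroup (Fin 5))) := by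
  haveI := Fintype.ofFinite G
  obtain ⟨h1, h2⟩ := F.order_formula M hM χ hinj hB e he he1
  have he0 : e 0 = 1 := by
    have := he 0
    rw [h0] at this
    simp only at this
    exact_mod_cast this.symm
  set a : ℤ := e 1 * degree (χ 1) with ha
  set b : ℤ := e 2 * degree (χ 2) with hb
  set d : ℤ := e 3 * degree (χ 3) with hd
  have hE : ∀ i, Odd (e i) := fun i => by rcases he1 i with h | h <;> rw [h] <;> decide
  have hao : Odd a := (hE 1).mul ((Int.odd_coe_nat _).mpr (hodd 1))
  have hbo : Odd b := (hE 2).mul ((Int.odd_coe_nat _).mpr (hodd 2))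
  have hdo : Odd d := (hE 3).mul ((Int.odd_coe_nat _).mpr (hodd 3))
  rw [Fin.sum_univ_four, h0, he0, apply_one_eq_degree, apply_one_eq_degree, apply_one_eq_degree] at h1
  rw [Fin.sum_univ_four, h0, he0, apply_one_eq_degree, apply_one_eq_degree, apply_one_eq_degree] at h2
  have hinv : ∀ i, (e i : ℂ) / (degree (χ i) : ℂ) = 1 / (((e i) * (degree (χ i) : ℤ) : ℤ) : ℂ) := fun i => by
    rcases he1 i with h | h <;> rw [h] <;> push_cast <;> simp [neg_div, div_neg]
  simp only at h1 h2
  rw [hinv 1, hinv 2, hinv 3, ← ha, ← hb, ← hd] at h2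
  have hsum : 1 + a + b + d = 0 := by
    have : ((1 + a + b + d : ℤ) : ℂ) = 0 := by
      rw [ha, hb, hd]; push_cast; push_cast at h1; linear_combination h1
    exact_mod_cast this
  have hne : ∀ z : ℤ, Odd z → (z : ℂ) ≠ 0 := fun z hz h => by
    rw [Int.cast_eq_zero] at h; subst h; simp at hz
  have h3 : (F.numI : ℤ) * (a * b * d + b * d + a * d + a * b) = 8 * (a * b * d) := by
    have := hne a hao
    have := hne b hbo
    have := hne d hdo
    push_cast at h2
    field_simp at h2
    have : (((F.numI : ℤ) * (a * b * d + b * d + a * d + a * b) : ℤ) : ℂ) = ((8 * (a * b * d) : ℤ) : ℂ) := by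
      push_cast
      linear_combination h2
    exact_mod_cast this
  have hpos : 0 < F.numI := Nat.pos_of_ne_zero fun h => by
    have := F.card_G
    rw [h, mul_zero] at this
    exact Nat.card_pos.ne' this.symm
  rcases small_arith (by exact_mod_cast hpos) ((Int.odd_coe_nat _).mpr F.numI_odd) hao hbo hdo hsum h3 with h | h
  · exact absurd (by exact_mod_cast h) F.three_lt_numI
  have h15 : F.numI = 15 := by exact_mod_cast h
  have hidx := F.index_normalizer h15
  have hne' : Subgroup.normalizer (F.V : Set G) ≠ ⊤ := fun e => by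
    rw [e, Subgroup.index_top] at hidx; omega
  have hdvd := SmallSimple.card_dvd_factorial hne'
  rw [hidx, ← F.card_G, h15] at hdvd
  have ho : Nat.card F.O = 1 := by
    obtain ⟨m, hm⟩ := F.odd_card_O
    have h' : Nat.card F.O ∣ 2 := by
      refine Nat.dvd_of_mul_dvd_mul_right (show 0 < 60 by norm_num) ?_
      rw [show (2 * 60 : ℕ) = Nat.factorial 5 from rfl]
      rwa [show 4 * Nat.card F.O * 15 = Nat.card F.O * 60 by ring] at hdvd
    rcases (Nat.dvd_prime Nat.prime_two).mp h' with h' | h' <;> omega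
  refine SmallSimple.iso_alternating_five F.not_comm ?_
  rw [← F.card_G, ho, h15]

include F in
/-- A simple group with a Klein Sylow subgroup as above is `A₅`. -/
theorem iso_alternating_five : Nonempty (G ≃* ↥(alternatingGroup (Fin 5))) := by
  haveI := Fintype.ofFinite G
  haveI := Fact.mk Nat.prime_two
  obtain ⟨M, hM⟩ := CharInt.exists_isPModular_of_prime (q := 2) Nat.prime_two
  -- the values at `x` are integers congruent to the degrees
  have hval : ∀ ξ : IrrCharacter G, ∃ z : ℤ, ξ.1 F.x = (z : ℂ) ∧ (2 : ℤ) ∣ (degree ξ : ℤ) + z := by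
    intro ξ
    set Z := Subgroup.zpowers F.x
    obtain ⟨a, ha⟩ := IsCharacter.exists_nat_classInner
      (IsCharacter.restrict (irr_isCharacter ξ) Z) (irr_isCharacter (trivialChar Z))
    have hu : (Finset.univ : Finset Z) = {1, ⟨F.x, Subgroup.mem_zpowers _⟩} :=
      (Finset.eq_of_subset_of_card_le (Finset.subset_univ _) (by
        rw [Finset.card_univ, ← Nat.card_eq_fintype_card, Nat.card_zpowers, F.hx,
          Finset.card_pair (fun e => ne_one_of_order F.hx (congrArg Subtype.val e).symm)])).symm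
    have hne : (1 : Z) ≠ ⟨F.x, Subgroup.mem_zpowers _⟩ :=
      fun e => ne_one_of_order F.hx (congrArg Subtype.val e).symm
    rw [classInner, hu, Finset.sum_pair hne, Nat.card_zpowers, F.hx] at ha
    simp only [trivialChar_apply, map_one, mul_one, Subgroup.coe_one] at ha
    refine ⟨2 * (a : ℤ) - degree ξ, ?_, ⟨a, by ring⟩⟩
    push_cast at ha ⊢
    rw [apply_one_eq_degree] at ha
    linear_combination 2 * ha
  choose e he hpar using hval
  set B : Finset (IrrCharacter G) := Finset.univ.filter fun ξ => ξ ∈ Cfsg.principalBlock M G with hBdef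
  -- the norm of the column of `x` in the principal block
  have hnorm : ∑ ξ ∈ B, e ξ ^ 2 = 4 := by
    have hidx : (Cfsg.pPrimeCore 2 (Subgroup.centralizer ({F.x} : Set G))).index = 2 ^ 2 := by
      have h := Subgroup.index_mul_card (Cfsg.pPrimeCore 2 (Subgroup.centralizer ({F.x} : Set G)))
      have hO : Nat.card F.O = Nat.card (Cfsg.pPrimeCore 2 (Subgroup.centralizer ({F.x} : Set G))) :=
        Subgroup.card_map_of_injective (Subgroup.subtype_injective _)
      rw [show Nat.card (Subgroup.centralizer ({F.x} : Set G)) = 4 * Nat.card F.O from F.card_C, ← hO] at h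
      exact Nat.eq_of_mul_eq_mul_right Nat.card_pos h
    have h := (Cfsg.Agent.S0947.result 2 M hM F.x ⟨1, by rw [F.hx, pow_one]⟩ (ne_one_of_order F.hx) 1
      (by simp)).2 ⟨2, hidx⟩
    rw [show (Nat.card (Subgroup.centralizer ({F.x} : Set G))).factorization 2 = 2 by
      rw [show Nat.card (Subgroup.centralizer ({F.x} : Set G)) = 2 ^ 2 * Nat.card F.O from F.card_C,
        Nat.factorization_mul (by norm_num) Nat.card_pos.ne', Finsupp.add_apply,
        Nat.Prime.factorization_pow Nat.prime_two, Finsupp.single_eq_same,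
        Nat.factorization_eq_zero_of_not_dvd fun h => Nat.not_even_iff_odd.mpr F.odd_card_O
          (even_iff_two_dvd.mpr h)]] at h
    rw [finsum_mem_eq_finite_toFinset_sum _ (Set.toFinite _),
      show (Set.toFinite (Cfsg.principalBlock M G)).toFinset = B by ext ξ; simp [hBdef]] at h
    simp only [OneMemClass.coe_one, mul_one, he, Complex.norm_intCast, sq_abs] at h
    exact_mod_cast h
  have htrivB : trivialChar G ∈ Cfsg.principalBlock M G := by
    haveI := hM.2.1.isPrime
    exact Blocks.sameBlock_refl _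
  have htriv : trivialChar G ∈ B := by
    rw [hBdef, Finset.mem_filter]
    exact ⟨Finset.mem_univ _, htrivB⟩
  have he0 : e (trivialChar G) = 1 := by
    have := he (trivialChar G)
    rw [trivialChar_apply] at this
    exact_mod_cast this.symm
  have hrest : ∑ ξ ∈ B.erase (trivialChar G), e ξ ^ 2 = 3 := by
    rw [← Finset.add_sum_erase _ _ htriv, he0] at hnorm
    linarith
  set S := (B.erase (trivialChar G)).filter fun ξ => e ξ ≠ 0 with hS
  have hpm : ∀ ξ ∈ S, e ξ = 1 ∨ e ξ = -1 := by
    intro ξ hξ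
    obtain ⟨h1, h2⟩ := Finset.mem_filter.mp hξ
    have h3 := Finset.single_le_sum (f := fun η => e η ^ 2) (fun η _ => sq_nonneg _) h1
    rw [hrest] at h3
    have : -1 ≤ e ξ ∧ e ξ ≤ 1 := by constructor <;> nlinarith
    omega
  have hcard : S.card = 3 := by
    have h : ∑ ξ ∈ S, e ξ ^ 2 = 3 := by
      rw [hS, ← hrest]
      exact Finset.sum_subset (Finset.filter_subset _ _) fun ξ h1 h2 => by
        by_contra h
        exact h2 (Finset.mem_filter.mpr ⟨h1, fun h0 => h (by rw [h0]; norm_num)⟩)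
    have h' : ∑ ξ ∈ S, (1 : ℤ) = 3 := by
      rw [← h]
      exact Finset.sum_congr rfl fun ξ hξ => by rcases hpm ξ hξ with e | e <;> rw [e] <;> norm_num
    simp only [Finset.sum_const, nsmul_eq_mul, mul_one] at h'
    exact_mod_cast h'
  obtain ⟨A, A', A'', h1, h2, h3, hSA⟩ := Finset.card_eq_three.mp hcard
  have hmem : ∀ ξ ∈ S, ξ ≠ trivialChar G ∧ ξ ∈ Cfsg.principalBlock M G := fun ξ hξ => by
    obtain ⟨ha, hb⟩ := Finset.mem_erase.mp (Finset.mem_filter.mp hξ).1
    exact ⟨ha, (Finset.mem_filter.mp hb).2⟩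
  have hA : A ∈ S := by rw [hSA]; simp
  have hA' : A' ∈ S := by rw [hSA]; simp
  have hA'' : A'' ∈ S := by rw [hSA]; simp
  set χ : Fin 4 → IrrCharacter G := ![trivialChar G, A, A', A''] with hχ
  have hpm' : ∀ i, e (χ i) = 1 ∨ e (χ i) = -1 := by
    intro i
    fin_cases i
    · exact Or.inl he0
    · exact hpm A hA
    · exact hpm A' hA'
    · exact hpm A'' hA''
  refine F.iso_alternating M hM χ ?_ ?_ (fun i => e (χ i)) (fun i => he _) hpm' rfl ?_
  · intro i j h
    have n1 := (hmem A hA).1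
    have n2 := (hmem A' hA').1
    have n3 := (hmem A'' hA'').1
    fin_cases i <;> fin_cases j <;>
      simp [χ, h1, h2, h3, Ne.symm h1, Ne.symm h2, Ne.symm h3, n1, n2, n3, Ne.symm n1, Ne.symm n2, Ne.symm n3] at h ⊢
  · intro i
    fin_cases i
    · exact htrivB
    · exact (hmem A hA).2
    · exact (hmem A' hA').2
    · exact (hmem A'' hA'').2
  · intro i
    obtain ⟨k, hk⟩ := hpar (χ i)
    rcases hpm' i with h | h <;> rw [h] at hk
    · refine ⟨(k - 1).toNat, ?_⟩
      omega
    · refine ⟨k.toNat, ?_⟩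
      omega

end KleinSylow

end Cfsg.Agent.BSW
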