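import Cfsg.Prelude
import Cfsg.Agent.S0942
import Cfsg.Agent.S3279
import Cfsg.Agent.Lib.BSW.Coef
import Cfsg.Agent.Lib.BSW.SmallArith
import Cfsg.Agent.Lib.SmallSimple.Low
import Cfsg.Agent.Lib.Transfer.AbelianSylow
import Cfsg.Agent.Lib.PCore.Basic
import Cfsg.Agent.Lib.Char.KernelSum
import Cfsg.Agent.Lib.CharInt.Kazarin

/-!
A simple group with an involution whose centralizer has a normal Klein four Sylow 2-subgroup: the values of
the principal block determine the order of the group.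
-/

set_option autoImplicit false
set_option linter.style.haveILetI false

namespace Cfsg.Agent.BSW

open Char
open scoped ComplexConjugate Pointwise

attribute [local instance] Classical.propDecidable

universe u

variable {G : Type u} [Group G]

/-- What the hypotheses give: a Klein four Sylow subgroup `V` with `C(v) = C(x)` for `v ∈ V`, `v ≠ 1`. -/
structure KleinSylow (G : Type u) [Group G] where
  x : G
  hx : orderOf x = 2
  V : Subgroup G
  xV : x ∈ V
  card_V : Nat.card V = 4
  sq : ∀ v ∈ V, v * v = 1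
  cent : ∀ v ∈ V, v ≠ 1 → Subgroup.centralizer ({v} : Set G) = Subgroup.centralizer ({x} : Set G)
  le_C : V ≤ Subgroup.centralizer ({x} : Set G)
  invol : ∀ c ∈ Subgroup.centralizer ({x} : Set G), c * c = 1 → c ∈ V
  isSylow : ∃ P : Sylow 2 G, (P : Subgroup G) = V
  one_class : ∀ u v : G, orderOf u = 2 → orderOf v = 2 → IsConj u v

namespace KleinSylow

variable (F : KleinSylow G)

/-- The centralizer of `x`. -/
abbrev C : Subgroup G := Subgroup.centralizer ({F.x} : Set G)

/-- The core of the centralizer. -/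
abbrev O : Subgroup G := Cfsg.centralizerPPrimeCore 2 F.x

theorem O_le : F.O ≤ F.C := Subgroup.map_subtype_le _

theorem V_comm_C {v c : G} (hv : v ∈ F.V) (hc : c ∈ F.C) : v * c = c * v := by
  by_cases h1 : v = 1
  · rw [h1]; simp
  · have hc' : c ∈ Subgroup.centralizer ({v} : Set G) := by rw [F.cent v hv h1]; exact hc
    exact (mem_cent.mp hc').symm

variable [Finite G]

theorem odd_card_O : Odd (Nat.card F.O) := by
  show Odd (Nat.card ((Cfsg.pPrimeCore 2 F.C).map F.C.subtype : Subgroup G))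
  rw [Subgroup.card_map_of_injective (Subgroup.subtype_injective _)]
  exact PCore.odd_card_oddCore

theorem O_normal {c d : G} (hc : c ∈ F.C) (hd : d ∈ F.O) : c * d * c⁻¹ ∈ F.O := by
  obtain ⟨d', hd', rfl⟩ := Subgroup.mem_map.mp hd
  exact ⟨⟨c, hc⟩ * d' * ⟨c, hc⟩⁻¹, (Cfsg.pPrimeCore_normal 2 _).conj_mem d' hd' _, rfl⟩

theorem V_inf_O {v : G} (hv : v ∈ F.V) (hvO : v ∈ F.O) : v = 1 := by
  have hd : orderOf v ∣ Nat.card F.O := by
    rw [← Subgroup.orderOf_mk v hvO]; exact orderOf_dvd_natCard _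
  exact orderOf_eq_one_iff.mp (Nat.eq_one_of_dvd_coprimes (Nat.coprime_two_left.mpr F.odd_card_O)
    (orderOf_dvd_of_pow_eq_one (by rw [pow_two]; exact F.sq v hv)) hd)

/-- `C(x) = V × O`. -/
theorem exists_decomp {c : G} (hc : c ∈ F.C) : ∃ v ∈ F.V, ∃ d ∈ F.O, c = v * d := by
  haveI := Fact.mk Nat.prime_two
  obtain ⟨P, hP⟩ := F.isSylow
  have hle : (P : Subgroup G) ≤ F.C := hP ▸ F.le_C
  set PC := P.subtype hle with hPC
  have hcent : Subgroup.normalizer ((PC : Subgroup F.C) : Set F.C) ≤ Subgroup.centralizer (PC : Set F.C) :=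
    fun a _ => Subgroup.mem_centralizer_iff.mpr fun b hb => Subtype.ext
      (F.V_comm_C (hP ▸ (hb : (b : G) ∈ (P : Subgroup G))) a.2)
  have hcompl := MonoidHom.ker_transferSylow_isComplement' PC hcent
  set N := (MonoidHom.transferSylow PC hcent).ker
  have hN : N ≤ Cfsg.pPrimeCore 2 F.C := by
    refine PCore.le_pPrimeCore ?_
    have h := hcompl.index_eq_card
    rw [Nat.coprime_comm, Nat.prime_two.coprime_iff_not_dvd]
    exact fun hd => PC.not_dvd_index (h.symm ▸ hd)
  have hmem : (⟨c, hc⟩ : F.C) ∈ ((N : Subgroup F.C) : Set F.C) * ((PC : Subgroup F.C) : Set F.C) := by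
    rw [hcompl.mul_eq]; trivial
  obtain ⟨d, hd, v, hv, he⟩ := Set.mem_mul.mp hmem
  have hvV : (v : G) ∈ F.V := hP ▸ (hv : (v : G) ∈ (P : Subgroup G))
  refine ⟨v, hvV, d, ⟨d, hN hd, rfl⟩, ?_⟩
  have e : (d : G) * v = c := congrArg Subtype.val he
  rw [← e, F.V_comm_C hvV d.2]

theorem card_C : Nat.card F.C = 4 * Nat.card F.O := by
  let f : F.V × F.O → F.C := fun p => ⟨(p.1 : G) * p.2, mul_mem (F.le_C p.1.2) (F.O_le p.2.2)⟩
  have hf : Function.Bijective f := by
    refine ⟨?_, fun c => ?_⟩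
    · rintro ⟨v, d⟩ ⟨v', d'⟩ e
      have e' : (v : G) * d = (v' : G) * d' := congrArg Subtype.val e
      have hm : (v' : G)⁻¹ * v = (d' : G) * (d : G)⁻¹ := by
        rw [eq_mul_inv_iff_mul_eq, mul_assoc, e', inv_mul_cancel_left]
      have h1 := F.V_inf_O (mul_mem (inv_mem v'.2) v.2) (hm ▸ mul_mem d'.2 (inv_mem d.2))
      rw [h1] at hm
      exact Prod.ext (Subtype.ext (inv_mul_eq_one.mp h1).symm) (Subtype.ext (mul_inv_eq_one.mp hm.symm).symm)
    · obtain ⟨v, hv, d, hd, e⟩ := F.exists_decomp c.2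
      exact ⟨(⟨v, hv⟩, ⟨d, hd⟩), Subtype.ext e.symm⟩
  rw [← Nat.card_eq_of_bijective f hf, Nat.card_prod, F.card_V]

/-- The number of involutions. -/
noncomputable def numI (_F : KleinSylow G) : ℕ := Nat.card {u : G // orderOf u = 2}

theorem card_G : 4 * Nat.card F.O * F.numI = Nat.card G := by
  rw [← F.card_C, ← Char.card_centralizer_mul_card_conj F.x, numI]
  congr 1
  exact Nat.card_congr (Equiv.subtypeEquivRight fun u => ⟨fun hu => F.one_class F.x u F.hx hu, fun h => by
    obtain ⟨v, hv⟩ := isConj_iff.mp h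
    rw [← hv]
    exact ((MulAut.conj v).orderOf_eq F.x).trans F.hx⟩)

theorem numI_odd : Odd F.numI := by
  haveI := Fact.mk Nat.prime_two
  rw [← Nat.not_even_iff_odd, even_iff_two_dvd]
  intro h
  obtain ⟨P, hP⟩ := F.isSylow
  refine P.not_dvd_index ?_
  have hidx := Subgroup.index_mul_card (P : Subgroup G)
  rw [hP, F.card_V, ← F.card_G, mul_comm 4, mul_assoc, mul_comm 4 F.numI, ← mul_assoc] at hidx
  rw [hP, Nat.eq_of_mul_eq_mul_right (by norm_num) hidx]
  exact dvd_mul_of_dvd_right h _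

/-- The 2-part of an element of `u O`. -/
theorem pow_eq_x {d : G} (hd : d ∈ F.O) : (F.x * d) ^ Nat.card F.O = F.x := by
  have hc : Commute F.x d := F.V_comm_C F.xV (F.O_le hd)
  have hd1 : d ^ Nat.card F.O = 1 := congrArg Subtype.val (pow_card_eq_one' (x := (⟨d, hd⟩ : F.O)))
  obtain ⟨m, hm⟩ := F.odd_card_O
  rw [hc.mul_pow, hd1, mul_one, hm, pow_succ, pow_mul, pow_two, sq_of_order F.hx, one_pow, one_mul]

variable [Fintype G]

/-- Indicator of the elements conjugate into `x O`. -/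
noncomputable def ind (g : G) : ℂ := if ∃ h : G, ∃ d ∈ F.O, g = h * (F.x * d) * h⁻¹ then 1 else 0

theorem isClassFunction_ind : IsClassFunction G F.ind := by
  intro g k
  have : (∃ h : G, ∃ d ∈ F.O, k * g * k⁻¹ = h * (F.x * d) * h⁻¹) ↔
      ∃ h : G, ∃ d ∈ F.O, g = h * (F.x * d) * h⁻¹ := by
    constructor
    · rintro ⟨h, d, hd, e⟩
      refine ⟨k⁻¹ * h, d, hd, ?_⟩
      rw [show k⁻¹ * h * (F.x * d) * (k⁻¹ * h)⁻¹ = k⁻¹ * (h * (F.x * d) * h⁻¹) * k by group, ← e]; group
    · rintro ⟨h, d, hd, rfl⟩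
      exact ⟨k * h, d, hd, by group⟩
  simp only [ind, this]

theorem sum_ind_mul {f : G → ℂ} (hf : IsClassFunction G f) :
    ∑ g : G, F.ind g * f g = (F.numI : ℂ) * ∑ d : F.O, f (F.x * d) := by
  have hex : ∀ u : {u : G // orderOf u = 2}, ∃ h : G, h * F.x * h⁻¹ = u := fun u =>
    isConj_iff.mp (F.one_class F.x u F.hx u.2)
  choose hu hu' using hex
  let φ : {u : G // orderOf u = 2} × F.O → G := fun p => hu p.1 * (F.x * p.2) * (hu p.1)⁻¹
  have hpow : ∀ p, φ p ^ Nat.card F.O = (p.1 : G) := fun p => by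
    simp only [φ]
    rw [conj_pow, F.pow_eq_x p.2.2, hu']
  have hinj : Function.Injective φ := by
    rintro ⟨u, d⟩ ⟨u', d'⟩ e
    have e1 := congrArg (fun g => g ^ Nat.card F.O) e
    simp only [hpow] at e1
    obtain rfl := Subtype.ext e1
    exact Prod.ext rfl (Subtype.ext (mul_left_cancel (mul_left_cancel (mul_right_cancel e))))
  have himg : ∀ g, F.ind g = if g ∈ Finset.univ.image φ then 1 else 0 := by
    intro g
    simp only [ind, Finset.mem_image, Finset.mem_univ, true_and]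
    refine if_congr ⟨?_, fun ⟨p, hp⟩ => ⟨hu p.1, p.2, p.2.2, hp.symm⟩⟩ rfl rfl
    rintro ⟨h, d, hd, rfl⟩
    have ho : orderOf (h * F.x * h⁻¹) = 2 := ((MulAut.conj h).orderOf_eq F.x).trans F.hx
    set k := (hu ⟨_, ho⟩)⁻¹ * h with hk
    have hkC : k ∈ F.C := by
      refine mem_cent.mpr (mul_inv_eq_iff_eq_mul.mp ?_)
      have h' : hu ⟨_, ho⟩ * F.x * (hu ⟨_, ho⟩)⁻¹ = h * F.x * h⁻¹ := hu' ⟨_, ho⟩
      calc k * F.x * k⁻¹ = (hu ⟨_, ho⟩)⁻¹ * (h * F.x * h⁻¹) * hu ⟨_, ho⟩ := by rw [hk]; group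
        _ = (hu ⟨_, ho⟩)⁻¹ * (hu ⟨_, ho⟩ * F.x * (hu ⟨_, ho⟩)⁻¹) * hu ⟨_, ho⟩ := by rw [h']
        _ = F.x := by group
    refine ⟨(⟨_, ho⟩, ⟨k * d * k⁻¹, F.O_normal hkC hd⟩), ?_⟩
    show hu ⟨_, ho⟩ * (F.x * (k * d * k⁻¹)) * (hu ⟨_, ho⟩)⁻¹ = h * (F.x * d) * h⁻¹
    rw [← mul_assoc F.x, ← mul_assoc F.x, ← mem_cent.mp hkC, hk]
    group
  simp only [himg, ite_mul, one_mul, zero_mul, Finset.sum_ite_mem, Finset.univ_inter]
  rw [Finset.sum_image fun a _ b _ h => hinj h, Fintype.sum_prod_type]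
  simp only [φ, hf _]
  rw [Finset.sum_const, Finset.card_univ, nsmul_eq_mul, numI, Nat.card_eq_fintype_card]

theorem inner_ind (M : Ideal Cfsg.AlgInt) (hM : Cfsg.IsPModular 2 M) (χ : IrrCharacter G)
    (hχ : χ ∈ Cfsg.principalBlock M G) {e : ℤ} (he : χ.1 F.x = (e : ℂ)) :
    classInner F.ind χ.1 = (e : ℂ) / 4 := by
  haveI := Fact.mk Nat.prime_two
  have hconst : ∀ d : F.O, χ.1 (F.x * d) = (e : ℂ) := fun d => by
    rw [← he]
    exact Cfsg.Agent.S0942.result 2 M hM F.x ⟨1, by rw [F.hx, pow_one]⟩ d d.2 χ hχ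
  rw [classInner, F.sum_ind_mul (f := fun g => conj (χ.1 g)) (fun g h =>
    congrArg conj (IsCharacter.isClassFunction (irr_isCharacter χ) g h))]
  simp only [hconst, map_intCast, Finset.sum_const, Finset.card_univ, nsmul_eq_mul]
  rw [← Nat.card_eq_fintype_card (α := F.O), ← F.card_G]
  have h1 : (F.numI : ℂ) ≠ 0 := by exact_mod_cast (Nat.pos_of_ne_zero fun h => by
    have := F.card_G; rw [h, mul_zero] at this; exact Nat.card_pos.ne' this.symm).ne'
  have h2 : (Nat.card F.O : ℂ) ≠ 0 := card_ne_zero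
  push_cast
  field_simp

theorem inner_ind_self : classInner F.ind F.ind = 1 / 4 := by
  rw [classInner, F.sum_ind_mul (f := fun g => conj (F.ind g)) (fun g h => congrArg conj (F.isClassFunction_ind g h))]
  have hone : ∀ d : F.O, F.ind (F.x * d) = 1 := fun d => by
    rw [ind, if_pos ⟨1, d, d.2, by simp⟩]
  simp only [hone, map_one, Finset.sum_const, Finset.card_univ, nsmul_eq_mul]
  rw [← Nat.card_eq_fintype_card (α := F.O), ← F.card_G]
  have h1 : (F.numI : ℂ) ≠ 0 := by exact_mod_cast (Nat.pos_of_ne_zero fun h => by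
    have := F.card_G; rw [h, mul_zero] at this; exact Nat.card_pos.ne' this.symm).ne'
  have h2 : (Nat.card F.O : ℂ) ≠ 0 := card_ne_zero
  push_cast
  field_simp

theorem inner_invInd (χ : IrrCharacter G) {e : ℤ} (he : χ.1 F.x = (e : ℂ)) :
    classInner Config.invInd χ.1 = (F.numI : ℂ) * e / Nat.card G := by
  have h1 : ∀ g : G, Config.invInd g * conj (χ.1 g) = if orderOf g = 2 then (e : ℂ) else 0 := by
    intro g
    by_cases hg : orderOf g = 2
    · rw [Config.invInd, if_pos hg, if_pos hg, one_mul,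
        ← IsClassFunction.apply_of_isConj (IsCharacter.isClassFunction (irr_isCharacter χ))
          (F.one_class F.x g F.hx hg), he, map_intCast]
    · simp [Config.invInd, hg]
  rw [classInner]
  simp only [h1, Finset.sum_ite, Finset.sum_const_zero, add_zero, Finset.sum_const, nsmul_eq_mul]
  rw [numI, Nat.card_eq_fintype_card (α := {u : G // orderOf u = 2}), Fintype.card_subtype]
  field_simp

theorem pairs_xd {d : G} (hd : d ∈ F.O) :
    (Nat.card (Config.pairs (F.x * d)) : ℂ) = if d = 1 then 2 else 0 := by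
  have hx1 := ne_one_of_order F.hx
  have hmem : ∀ y, y ∈ Config.pairs (F.x * d) → d = 1 ∧ y ∈ F.V ∧ y ≠ 1 ∧ y ≠ F.x := by
    rintro y ⟨hy, hy2⟩
    have hinv : y * (F.x * d) * y⁻¹ = (F.x * d)⁻¹ := by
      have := sq_of_order hy2
      rw [inv_of_order hy]
      exact eq_inv_of_mul_eq_one_left (by rw [← this]; group)
    have hyx : y * F.x * y⁻¹ = F.x := by
      have := congrArg (fun g => g ^ Nat.card F.O) hinv
      simp only [conj_pow, inv_pow, F.pow_eq_x hd, inv_of_order F.hx] at this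
      exact this
    have hyV : y ∈ F.V := F.invol y (mem_cent.mpr (mul_inv_eq_iff_eq_mul.mp hyx)) (sq_of_order hy)
    have hyd : y * d = d * y := F.V_comm_C hyV (F.O_le hd)
    have hd1 : d = 1 := by
      rw [show y * (F.x * d) * y⁻¹ = y * F.x * y⁻¹ * (y * d * y⁻¹) by group, hyx, hyd, mul_inv_cancel_right,
        mul_inv_rev, inv_of_order F.hx] at hinv
      have hxd : F.x * d = d * F.x := F.V_comm_C F.xV (F.O_le hd)
      rw [hxd] at hinv
      have hdi := mul_right_cancel hinv
      have h2 : d * d = 1 := by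
        calc d * d = d⁻¹ * d := by rw [← hdi]
          _ = 1 := inv_mul_cancel d
      have hdd : orderOf d ∣ Nat.card F.O := by
        rw [← Subgroup.orderOf_mk d hd]; exact orderOf_dvd_natCard _
      exact orderOf_eq_one_iff.mp (Nat.eq_one_of_dvd_coprimes (Nat.coprime_two_left.mpr F.odd_card_O)
        (orderOf_dvd_of_pow_eq_one (by rw [pow_two]; exact h2)) hdd)
    refine ⟨hd1, hyV, ne_one_of_order hy, fun e => ?_⟩
    rw [hd1, mul_one, e, sq_of_order F.hx, orderOf_one] at hy2
    omega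
  split_ifs with h1
  · subst h1
    have heq : Config.pairs (F.x * 1) = {y | y ∈ F.V ∧ y ≠ 1 ∧ y ≠ F.x} := by
      ext y
      refine ⟨fun hy => (hmem y hy).2, fun ⟨hy, hy1, hyx⟩ => ?_⟩
      refine ⟨order_of_sq (F.sq y hy) hy1, order_of_sq (F.sq _ ?_) ?_⟩
      · rw [mul_one]; exact mul_mem hy F.xV
      · rw [mul_one]
        exact fun e => hyx (by rw [eq_inv_of_mul_eq_one_left e, inv_of_order F.hx])
    rw [heq]
    have hc : Nat.card {y : G | y ∈ F.V ∧ y ≠ 1 ∧ y ≠ F.x} = 2 := by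
      haveI := Fintype.ofFinite F.V
      let e : {y : G | y ∈ F.V ∧ y ≠ 1 ∧ y ≠ F.x} ≃
          (({1, ⟨F.x, F.xV⟩} : Finset F.V)ᶜ : Finset F.V) :=
        { toFun := fun y => ⟨⟨y.1, y.2.1⟩, by simpa [Subtype.ext_iff] using y.2.2⟩
          invFun := fun y => ⟨(y.1 : G), y.1.2, by
            have := y.2
            rw [Finset.mem_compl, Finset.mem_insert, Finset.mem_singleton, not_or] at this
            exact ⟨fun e => this.1 (Subtype.ext e), fun e => this.2 (Subtype.ext e)⟩⟩
          left_inv := fun y => rfl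
          right_inv := fun y => rfl }
      rw [Nat.card_congr e, Nat.card_eq_fintype_card, Fintype.card_coe, Finset.card_compl,
        Finset.card_pair (fun e => hx1 (congrArg Subtype.val e).symm), ← Nat.card_eq_fintype_card, F.card_V]
    rw [hc]; norm_num
  · have : Config.pairs (F.x * d) = ∅ := Set.eq_empty_iff_forall_notMem.mpr fun y hy => h1 (hmem y hy).1
    rw [this]; simp

/-- The order formula from four characters of the principal block with values `±1` at `x`. -/
theorem order_formula (M : Ideal Cfsg.AlgInt) (hM : Cfsg.IsPModular 2 M) (χ : Fin 4 → IrrCharacter G)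
    (hinj : Function.Injective χ) (hB : ∀ i, χ i ∈ Cfsg.principalBlock M G) (e : Fin 4 → ℤ)
    (he : ∀ i, (χ i).1 F.x = (e i : ℂ)) (he1 : ∀ i, e i = 1 ∨ e i = -1) :
    (∑ i, (e i : ℂ) * (χ i).1 1 = 0) ∧ (F.numI : ℂ) * ∑ i, (e i : ℂ) / (χ i).1 1 = 8 := by
  set S : Finset (IrrCharacter G) := Finset.univ.image χ with hS
  have hin : ∀ i, classInner F.ind (χ i).1 = (e i : ℂ) / 4 := fun i => F.inner_ind M hM _ (hB i) (he i)
  have hin' : ∀ i, classInner (χ i).1 F.ind = (e i : ℂ) / 4 := fun i => by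
    rw [← conj_classInner, hin, map_div₀, map_intCast, map_ofNat]
  have hzero : ∀ ξ, ξ ∉ S → classInner F.ind ξ.1 = 0 := by
    have htot := classInner_eq_sum (f' := F.ind) F.isClassFunction_ind
    rw [F.inner_ind_self, ← Finset.sum_add_sum_compl S] at htot
    have hSsum : ∑ ξ ∈ S, classInner F.ind ξ.1 * classInner ξ.1 F.ind = 1 / 4 := by
      rw [hS, Finset.sum_image fun a _ b _ h => hinj h]
      simp only [hin, hin', div_mul_div_comm]
      have : ∀ i, (e i : ℂ) * e i = 1 := fun i => by rcases he1 i with h | h <;> simp [h]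
      simp only [this]
      simp
    rw [hSsum, left_eq_add] at htot
    intro ξ hξ
    have hre : ∑ η ∈ Sᶜ, Complex.normSq (classInner F.ind η.1) = 0 := by
      have : ((∑ η ∈ Sᶜ, Complex.normSq (classInner F.ind η.1) : ℝ) : ℂ) = 0 := by
        rw [← htot]
        push_cast
        refine Finset.sum_congr rfl fun η _ => ?_
        rw [← conj_classInner F.ind η.1, Complex.normSq_eq_conj_mul_self, mul_comm]
      exact_mod_cast this
    exact Complex.normSq_eq_zero.mp
      ((Finset.sum_eq_zero_iff_of_nonneg fun η _ => Complex.normSq_nonneg _).mp hre ξ (Finset.mem_compl.mpr hξ))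
  constructor
  · have h1 : F.ind 1 = 0 := by
      rw [ind, if_neg]
      rintro ⟨h, d, hd, e'⟩
      have := congrArg (fun g => g ^ Nat.card F.O) e'
      simp only [one_pow, conj_pow, F.pow_eq_x hd] at this
      exact ne_one_of_order F.hx (conj_eq_one_iff.mp this.symm)
    have hdec := congrFun (eq_sum_classInner_smul F.isClassFunction_ind) 1
    rw [Finset.sum_apply, ← Finset.sum_add_sum_compl S, Finset.sum_eq_zero (s := Sᶜ) (fun ξ hξ => by
      rw [Pi.smul_apply, hzero ξ (Finset.mem_compl.mp hξ), zero_smul]), add_zero, hS,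
      Finset.sum_image fun a _ b _ h => hinj h, h1] at hdec
    simp only [Pi.smul_apply, smul_eq_mul, hin] at hdec
    have : ∑ i, (e i : ℂ) * (χ i).1 1 = 4 * ∑ i, (e i : ℂ) / 4 * (χ i).1 1 := by
      rw [Finset.mul_sum]; exact Finset.sum_congr rfl fun i _ => by ring
    rw [this, ← hdec, mul_zero]
  · have hb := Config.isClassFunction_invInd (G := G)
    have hL : classInner (conv Config.invInd) F.ind =
        (F.numI : ℂ) * 2 / Nat.card G := by
      rw [classInner]
      have : ∀ g, conv Config.invInd g * conj (F.ind g) = F.ind g * conv Config.invInd g := fun g => by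
        rw [ind]; split_ifs <;> simp
      simp only [this]
      rw [F.sum_ind_mul (isClassFunction_conv hb)]
      simp only [Config.conv_invInd, F.pairs_xd (Subtype.mem _)]
      simp only [OneMemClass.coe_eq_one, Finset.sum_ite_eq', Finset.mem_univ, if_true]
      ring
    rw [classInner_eq_sum (isClassFunction_conv hb), ← Finset.sum_add_sum_compl S,
      Finset.sum_eq_zero (s := Sᶜ) (fun ξ hξ => by
        rw [← conj_classInner F.ind, hzero ξ (Finset.mem_compl.mp hξ), map_zero, mul_zero]), add_zero, hS,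
      Finset.sum_image fun a _ b _ h => hinj h] at hL
    simp only [classInner_conv hb, hin', fun i => F.inner_invInd (χ i) (he i)] at hL
    have hG : (Nat.card G : ℂ) ≠ 0 := card_ne_zero
    have hN : (F.numI : ℂ) ≠ 0 := by exact_mod_cast (Nat.pos_of_ne_zero fun h => by
      have := F.card_G; rw [h, mul_zero] at this; exact Nat.card_pos.ne' this.symm).ne'
    have key : ∀ i, (Nat.card G : ℂ) * ((F.numI : ℂ) * e i / Nat.card G) ^ 2 / (χ i).1 1 * ((e i : ℂ) / 4) =
        (F.numI : ℂ) / (Nat.card G) / 4 * ((F.numI : ℂ) * ((e i : ℂ) / (χ i).1 1)) := fun i => by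
      have h3 : (e i : ℂ) ^ 3 = e i := by rcases he1 i with h | h <;> simp [h]; norm_num
      have := IsIrrCharacter.apply_one_ne_zero (χ i).2
      field_simp
      linear_combination h3
    simp only [key, ← Finset.mul_sum] at hL
    field_simp at hL
    linear_combination hL

end KleinSylow

end Cfsg.Agent.BSW
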