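import Cfsg.Agent.Lib.BSW.Values
import Cfsg.Agent.Lib.CharInt.Basic

/-!
Brauer–Suzuki–Wall, `|K| > 2`: the two kinds of elements not conjugate into `K`.
-/

set_option autoImplicit false
set_option linter.style.haveILetI false

namespace Cfsg.Agent.BSW

open scoped ComplexConjugate
open Char

attribute [local instance] Classical.propDecidable

universe u

theorem int_of_integral {S : ℂ} {a b : ℤ} (hS : IsIntegral ℤ S) (ha : a ≠ 0)
    (h : (a : ℂ) * S = (b : ℂ)) : ∃ z : ℤ, S = (z : ℂ) := by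
  have h1 : S = algebraMap ℚ ℂ ((b : ℚ) / (a : ℚ)) := by
    rw [map_div₀, map_intCast, map_intCast, eq_div_iff (Int.cast_ne_zero.mpr ha), mul_comm, h]
  rw [h1, isIntegral_algebraMap_iff (algebraMap ℚ ℂ).injective, IsIntegrallyClosed.isIntegral_iff] at hS
  obtain ⟨z, hz⟩ := hS
  refine ⟨z, ?_⟩
  rw [h1, ← hz]
  simp

variable {G : Type u} [Group G] [Fintype G]

namespace Config.Table

variable {c : Config G} (T : Table c)

theorem isIntegral_P (g : G) : IsIntegral ℤ (T.P g) :=
  (isIntegral_algebraMap (x := T.s)).mul (CharInt.isIntegral_char (irr_isCharacter T.C) g)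

/-- If the common constituent is integral with `z² + z` of sum zero, it takes the values `0`, `-1`. -/
theorem zero_or_neg_one (hint : ∀ g, c.Outer g → ∃ z : ℤ, T.P g = (z : ℂ))
    (hsum : (Nat.card G : ℂ) - T.P 1 * T.P 1 - T.P 1 - 2 * ((c.numInv : ℂ) * ((Nat.card c.K : ℂ) - 1)) = 0) :
    ∀ g, c.Outer g → T.P g = 0 ∨ T.P g = -1 := by
  choose! z hz using hint
  intro g hg
  have hS : ∑ g ∈ Finset.univ.filter (fun g => c.Outer g), ((z g * z g + z g : ℤ) : ℂ) = 0 := by
    have h1 := T.sum_P_outer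
    have h2 := T.sum_P_sq_outer
    rw [Finset.sum_congr rfl (fun g hg => show ((z g * z g + z g : ℤ) : ℂ) = T.P g * conj (T.P g) + T.P g by
      rw [hz g (Finset.mem_filter.mp hg).2, map_intCast]; push_cast; ring), Finset.sum_add_distrib, h1, h2]
    linear_combination hsum
  have hS' : ∑ g ∈ Finset.univ.filter (fun g => c.Outer g), (z g * z g + z g) = 0 := by exact_mod_cast hS
  have hnn : ∀ x : ℤ, 0 ≤ x * x + x := fun x => by
    rcases le_or_gt 0 x with h | h
    · positivity
    · nlinarith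
  have h0 := (Finset.sum_eq_zero_iff_of_nonneg (fun g _ => hnn (z g))).mp hS' g
    (Finset.mem_filter.mpr ⟨Finset.mem_univ _, hg⟩)
  have : z g * (z g + 1) = 0 := by linear_combination h0
  rcases mul_eq_zero.mp this with e | e
  · left; rw [hz g hg, e]; simp
  · right; rw [hz g hg, show z g = -1 by omega]; simp

theorem sum_indicator (hP : ∀ g, c.Outer g → T.P g = 0 ∨ T.P g = -1) :
    ((Finset.univ.filter fun g => c.Outer g ∧ T.P g = -1).card : ℂ) =
      T.P 1 + (c.numInv : ℂ) * ((Nat.card c.K : ℂ) - 1) := by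
  have h := T.sum_P_outer
  rw [Finset.sum_congr rfl (fun g hg => show T.P g = if T.P g = -1 then (-1 : ℂ) else 0 by
    rcases hP g (Finset.mem_filter.mp hg).2 with e | e <;> simp [e]),
    Finset.sum_ite, Finset.sum_const_zero, add_zero, Finset.sum_const, Finset.filter_filter, nsmul_eq_mul] at h
  linear_combination -h

theorem sum_indicator_zero (hP : ∀ g, c.Outer g → T.P g = 0 ∨ T.P g = -1) :
    ((Finset.univ.filter fun g => c.Outer g ∧ T.P g = 0).card : ℂ) =
      (Nat.card G : ℂ) - 1 - T.P 1 - 2 * ((c.numInv : ℂ) * ((Nat.card c.K : ℂ) - 1)) := by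
  have hall := c.sum_g_split (fun _ => (1 : ℂ))
  simp only [Finset.sum_const, nsmul_eq_mul, mul_one, Finset.card_univ, ← Nat.card_eq_fintype_card,
    c.card_KType] at hall
  have hsplit := Finset.card_filter_add_card_filter_not (s := Finset.univ.filter fun g => c.Outer g)
    (fun g => T.P g = 0)
  rw [Finset.filter_filter, Finset.filter_filter] at hsplit
  have hneg : (Finset.univ.filter fun g => c.Outer g ∧ ¬ T.P g = 0) =
      Finset.univ.filter fun g => c.Outer g ∧ T.P g = -1 := by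
    refine Finset.filter_congr fun g _ => and_congr_right fun ho => ⟨fun h => (hP g ho).resolve_left h, ?_⟩
    intro h; rw [h]; norm_num
  rw [hneg] at hsplit
  rw [← hsplit, Nat.cast_add, T.sum_indicator hP] at hall
  linear_combination -hall

theorem pairs_outer (hk : 2 < Nat.card c.K) {ε : ℤ} (hε : ε = 1 ∨ ε = -1)
    (hN : (c.numInv : ℤ) = (1 + 2 * ε * Nat.card c.K) * (1 + ε * Nat.card c.K))
    (hD : T.P 1 = ((1 + 2 * ε * Nat.card c.K : ℤ) : ℂ))
    (hτ : ∀ th ∈ T.Θ, (c.cz th c.mu : ℂ) * th.1 1 = ((-(1 + ε * Nat.card c.K) : ℤ) : ℂ))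
    {g : G} (hg : c.Outer g) :
    2 * (Nat.card c.K : ℂ) * (Nat.card (pairs g) : ℂ) =
      ((1 + 2 * ε * Nat.card c.K : ℤ) : ℂ) * ((1 + ε * Nat.card c.K : ℤ) : ℂ) +
        ((1 + ε * Nat.card c.K : ℤ) : ℂ) * T.P g +
          ((Nat.card c.K : ℂ) - 1) * ((1 + 2 * ε * Nat.card c.K : ℤ) : ℂ) * (1 + T.P g) := by
  have hb : (1 + ε * (Nat.card c.K : ℤ)) ≠ 0 := by rcases hε with e | e <;> rw [e] <;> omega
  have ha : (1 + 2 * ε * (Nat.card c.K : ℤ)) ≠ 0 := by rcases hε with e | e <;> rw [e] <;> omega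
  have hS := T.sum_outer hg hτ (by rw [hD]; push_cast; ring)
  rw [c.pairs_formula, hS, hD]
  have hGc : (Nat.card G : ℂ) = 2 * (Nat.card c.K : ℂ) * (c.numInv : ℂ) := by
    rw [← c.card_G]; push_cast; ring
  have hNc : (c.numInv : ℂ) = ((1 + 2 * ε * Nat.card c.K : ℤ) : ℂ) * ((1 + ε * Nat.card c.K : ℤ) : ℂ) := by
    rw [← Int.cast_mul, ← hN, Int.cast_natCast]
  have hk0 : (Nat.card c.K : ℂ) ≠ 0 := card_ne_zero
  rw [hGc, hNc]
  have hb' := Int.cast_ne_zero (α := ℂ) |>.mpr hb
  have ha' := Int.cast_ne_zero (α := ℂ) |>.mpr ha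
  rw [show ((-(1 + ε * Nat.card c.K) : ℤ) : ℂ) = -((1 + ε * Nat.card c.K : ℤ) : ℂ) from Int.cast_neg _]
  generalize ((1 + ε * Nat.card c.K : ℤ) : ℂ) = b at hb' ⊢
  generalize ((1 + 2 * ε * Nat.card c.K : ℤ) : ℂ) = a at ha' ⊢
  field_simp
  ring

/-- The case `q = 2k + 1`. -/
theorem outer_pos (hk : 2 < Nat.card c.K)
    (hN : (c.numInv : ℤ) = (1 + 2 * 1 * Nat.card c.K) * (1 + 1 * Nat.card c.K))
    (hD : T.P 1 = ((1 + 2 * 1 * Nat.card c.K : ℤ) : ℂ))
    (hτ : ∀ th ∈ T.Θ, (c.cz th c.mu : ℂ) * th.1 1 = ((-(1 + 1 * Nat.card c.K) : ℤ) : ℂ)) :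
    (∀ g, c.Outer g → Nat.card (pairs g) = 2 * Nat.card c.K + 1 ∨ Nat.card (pairs g) = Nat.card c.K + 1) ∧
      Nat.card {g : G // c.Outer g ∧ Nat.card (pairs g) = 2 * Nat.card c.K + 1} =
        4 * Nat.card c.K * (Nat.card c.K + 1) := by
  have hk0 : (Nat.card c.K : ℂ) ≠ 0 := card_ne_zero
  have hm : ∀ g, c.Outer g → (Nat.card (pairs g) : ℂ) = 2 * Nat.card c.K + 1 + Nat.card c.K * T.P g := by
    intro g hg
    have h := T.pairs_outer hk (Or.inl rfl) hN hD hτ hg
    push_cast at h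
    apply mul_left_cancel₀ (mul_ne_zero two_ne_zero hk0)
    linear_combination h
  have hint : ∀ g, c.Outer g → ∃ z : ℤ, T.P g = (z : ℂ) := fun g hg =>
    int_of_integral (a := (Nat.card c.K : ℤ)) (b := (Nat.card (pairs g) : ℤ) - 2 * Nat.card c.K - 1)
      (T.isIntegral_P g) (by omega) (by push_cast; linear_combination -(hm g hg))
  have hNc : (c.numInv : ℂ) = (1 + 2 * (Nat.card c.K : ℂ)) * (1 + Nat.card c.K) := by
    have : ((c.numInv : ℤ) : ℂ) = (((1 + 2 * 1 * Nat.card c.K) * (1 + 1 * Nat.card c.K) : ℤ) : ℂ) := by rw [hN]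
    push_cast at this
    linear_combination this
  have hGc : (Nat.card G : ℂ) = 2 * (Nat.card c.K : ℂ) * (c.numInv : ℂ) := by
    rw [← c.card_G]; push_cast; ring
  have hD' : T.P 1 = 1 + 2 * (Nat.card c.K : ℂ) := by rw [hD]; push_cast; ring
  have hP := T.zero_or_neg_one hint (by rw [hGc, hNc, hD']; ring)
  refine ⟨fun g hg => ?_, ?_⟩
  · rcases hP g hg with e | e
    · left
      have h := hm g hg
      rw [e, mul_zero, add_zero] at h
      exact_mod_cast h
    · right
      have h := hm g hg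
      rw [e] at h
      have : (Nat.card (pairs g) : ℂ) = ((Nat.card c.K + 1 : ℕ) : ℂ) := by push_cast; linear_combination h
      exact_mod_cast this
  · have hiff : ∀ g, (c.Outer g ∧ Nat.card (pairs g) = 2 * Nat.card c.K + 1) ↔ (c.Outer g ∧ T.P g = 0) := by
      intro g
      refine and_congr_right fun hg => ?_
      constructor
      · intro e
        have h := hm g hg
        rw [e] at h; push_cast at h
        exact (mul_eq_zero.mp (by linear_combination -h : (Nat.card c.K : ℂ) * T.P g = 0)).resolve_left hk0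
      · intro e
        have h := hm g hg
        rw [e, mul_zero, add_zero] at h
        exact_mod_cast h
    rw [Nat.card_congr (Equiv.subtypeEquivRight hiff), Nat.card_eq_fintype_card, Fintype.card_subtype]
    have : ((Finset.univ.filter fun g => c.Outer g ∧ T.P g = 0).card : ℂ) =
        ((4 * Nat.card c.K * (Nat.card c.K + 1) : ℕ) : ℂ) := by
      rw [T.sum_indicator_zero hP, hGc, hNc, hD']; push_cast; ring
    exact_mod_cast this

/-- The case `q = 2k - 1`. -/
theorem outer_neg (hk : 2 < Nat.card c.K)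
    (hN : (c.numInv : ℤ) = (1 + 2 * (-1) * Nat.card c.K) * (1 + (-1) * Nat.card c.K))
    (hD : T.P 1 = ((1 + 2 * (-1) * Nat.card c.K : ℤ) : ℂ))
    (hτ : ∀ th ∈ T.Θ, (c.cz th c.mu : ℂ) * th.1 1 = ((-(1 + (-1) * Nat.card c.K) : ℤ) : ℂ)) :
    (∀ g, c.Outer g → (Nat.card (pairs g) = Nat.card c.K - 1 ∧ T.P g = -1) ∨
      (Nat.card (pairs g) = 0 ∧ T.P g = 0)) ∧
    ((Nat.card {g : G // c.Outer g ∧ Nat.card (pairs g) = Nat.card c.K - 1} : ℤ) =
      (2 * Nat.card c.K - 1) * ((Nat.card c.K : ℤ) * Nat.card c.K - 2 * Nat.card c.K)) ∧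
    ((Nat.card {g : G // c.Outer g ∧ Nat.card (pairs g) = 0} : ℤ) =
      (2 * Nat.card c.K - 1) * (2 * Nat.card c.K - 1) - 1) := by
  have hk0 : (Nat.card c.K : ℂ) ≠ 0 := card_ne_zero
  have hm : ∀ g, c.Outer g → (Nat.card (pairs g) : ℂ) = -((Nat.card c.K : ℂ) - 1) * T.P g := by
    intro g hg
    have h := T.pairs_outer hk (Or.inr rfl) hN hD hτ hg
    push_cast at h
    apply mul_left_cancel₀ (mul_ne_zero two_ne_zero hk0)
    linear_combination h
  have hint : ∀ g, c.Outer g → ∃ z : ℤ, T.P g = (z : ℂ) := fun g hg =>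
    int_of_integral (a := 1 - (Nat.card c.K : ℤ)) (b := (Nat.card (pairs g) : ℤ))
      (T.isIntegral_P g) (by omega) (by push_cast; linear_combination -(hm g hg))
  have hNc : (c.numInv : ℂ) = (1 - 2 * (Nat.card c.K : ℂ)) * (1 - Nat.card c.K) := by
    have : ((c.numInv : ℤ) : ℂ) =
      (((1 + 2 * (-1) * Nat.card c.K) * (1 + (-1) * Nat.card c.K) : ℤ) : ℂ) := by rw [hN]
    push_cast at this
    linear_combination this
  have hGc : (Nat.card G : ℂ) = 2 * (Nat.card c.K : ℂ) * (c.numInv : ℂ) := by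
    rw [← c.card_G]; push_cast; ring
  have hD' : T.P 1 = 1 - 2 * (Nat.card c.K : ℂ) := by rw [hD]; push_cast; ring
  have hP := T.zero_or_neg_one hint (by rw [hGc, hNc, hD']; ring)
  have hdich : ∀ g, c.Outer g → (Nat.card (pairs g) = Nat.card c.K - 1 ∧ T.P g = -1) ∨
      (Nat.card (pairs g) = 0 ∧ T.P g = 0) := by
    intro g hg
    rcases hP g hg with e | e
    · right
      refine ⟨?_, e⟩
      have h := hm g hg
      rw [e, mul_zero] at h
      exact_mod_cast h
    · left
      refine ⟨?_, e⟩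
      have h := hm g hg
      rw [e] at h
      have : (Nat.card (pairs g) : ℂ) = ((Nat.card c.K - 1 : ℕ) : ℂ) := by
        rw [Nat.cast_sub (by omega)]; push_cast; linear_combination h
      exact_mod_cast this
  refine ⟨hdich, ?_, ?_⟩
  · have hiff : ∀ g, (c.Outer g ∧ Nat.card (pairs g) = Nat.card c.K - 1) ↔ (c.Outer g ∧ T.P g = -1) := fun g =>
      and_congr_right fun hg => ⟨fun e => ((hdich g hg).resolve_right (fun h => by omega)).2,
        fun e => ((hdich g hg).resolve_right (fun h => by rw [e] at h; norm_num at h)).1⟩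
    rw [Nat.card_congr (Equiv.subtypeEquivRight hiff), Nat.card_eq_fintype_card, Fintype.card_subtype]
    have : (((Finset.univ.filter fun g => c.Outer g ∧ T.P g = -1).card : ℤ) : ℂ) =
        (((2 * Nat.card c.K - 1) * ((Nat.card c.K : ℤ) * Nat.card c.K - 2 * Nat.card c.K) : ℤ) : ℂ) := by
      rw [Int.cast_natCast, T.sum_indicator hP, hNc, hD']; push_cast; ring
    exact_mod_cast this
  · have hiff : ∀ g, (c.Outer g ∧ Nat.card (pairs g) = 0) ↔ (c.Outer g ∧ T.P g = 0) := fun g =>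
      and_congr_right fun hg => ⟨fun e => ((hdich g hg).resolve_left (fun h => by omega)).2,
        fun e => ((hdich g hg).resolve_left (fun h => by rw [e] at h; norm_num at h)).1⟩
    rw [Nat.card_congr (Equiv.subtypeEquivRight hiff), Nat.card_eq_fintype_card, Fintype.card_subtype]
    have : (((Finset.univ.filter fun g => c.Outer g ∧ T.P g = 0).card : ℤ) : ℂ) =
        (((2 * Nat.card c.K - 1) * (2 * Nat.card c.K - 1) - 1 : ℤ) : ℂ) := by
      rw [Int.cast_natCast, T.sum_indicator_zero hP, hGc, hNc, hD']; push_cast; ring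
    exact_mod_cast this

include T in
/-- The quantity `k · ⟨1_R, χ⟩` up to the degree term has the same square as `χ(t)`. -/
theorem sq_hfun (chi : IrrCharacter G) :
    ((Nat.card c.K : ℂ) * ((if chi = trivialChar G then 1 else 0) + (if chi = T.C then (T.s : ℂ) else 0)) -
      ∑ lam : IrrCharacter c.K, (c.cz chi lam : ℂ)) ^ 2 = chi.1 c.t ^ 2 := by
  have hnr : (c.nrSet.card : ℂ) = (Nat.card c.K : ℂ) - 2 := by exact_mod_cast c.card_nrSet
  rw [c.sum_lam_split (fun lam => (c.cz chi lam : ℂ)), c.cz_triv_right]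
  by_cases h1 : chi = trivialChar G
  · subst h1
    rw [Finset.sum_congr rfl (fun lam h => show (c.cz (trivialChar G) lam : ℂ) = 1 by
      rw [c.cz_triv lam (NR.ne_triv c (c.mem_nrSet.mp h))]; simp), c.cz_triv c.mu c.mu_spec.1,
      if_pos rfl, if_neg (Ne.symm T.hC), trivialChar_apply, Finset.sum_const, nsmul_eq_mul, hnr]
    push_cast; ring
  rw [if_neg h1]
  by_cases h2 : chi = T.C
  · subst h2
    rw [Finset.sum_congr rfl (fun lam h => show (c.cz T.C lam : ℂ) = (T.s : ℂ) by
      rw [T.hCl lam (NR.ne_triv c (c.mem_nrSet.mp h))]), T.hCl c.mu c.mu_spec.1,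
      if_pos rfl, T.C_t, Finset.sum_const, nsmul_eq_mul, hnr]
    push_cast; ring
  rw [if_neg h2]
  by_cases h3 : chi ∈ T.Θ
  · rw [T.Θ_sq_t h3, Finset.sum_eq_zero (fun lam h => by rw [(T.Θ_cz h3).2 lam (c.mem_nrSet.mp h)]; simp)]
    rcases (T.Θ_cz h3).1 with e | e <;> rw [e] <;> simp
  rw [T.cz_outside h1 h2 h3]
  by_cases h4 : ∃ lam, c.NR lam ∧ c.cz chi lam ≠ 0
  · obtain ⟨lam, hl, hne⟩ := h4
    obtain ⟨X, hs, -, hXm, hXz⟩ := T.hX lam hl
    have hmem : chi ∈ c.supp lam := c.mem_supp.mpr ⟨h1, hne⟩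
    have : chi = X := by
      rw [hs] at hmem
      simpa [h2] using hmem
    subst this
    rw [T.X_sq_t hl hmem hXm hXz]
    have : ∑ r ∈ c.nrSet, (c.cz chi r : ℂ) = ∑ r ∈ ({lam, conjIrr lam} : Finset _), (c.cz chi r : ℂ) := by
      symm
      apply Finset.sum_subset
      · intro r hr
        simp only [Finset.mem_insert, Finset.mem_singleton] at hr
        rcases hr with rfl | rfl
        · exact c.mem_nrSet.mpr hl
        · exact c.mem_nrSet.mpr (NR.conj c hl)
      · intro r hr hnot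
        simp only [Finset.mem_insert, Finset.mem_singleton, not_or] at hnot
        rw [hXz r (c.mem_nrSet.mp hr) hnot.1 hnot.2]; simp
    rw [this, Finset.sum_pair (Ne.symm hl), c.cz_conj]
    rcases c.cz_sign lam (NR.ne_triv c hl) hmem with e | e <;> rw [e] <;> norm_num
  · push Not at h4
    rw [c.apply_of_mem chi c.htK c.t_ne, c.sum_lam_split (fun lam => (c.cz chi lam : ℂ) * lam.1 _),
      c.cz_triv_right, T.cz_outside h1 h2 h3, Finset.sum_eq_zero, Finset.sum_eq_zero]
    · simp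
    · intro lam h; rw [h4 lam (c.mem_nrSet.mp h)]; simp
    · intro lam h; rw [h4 lam (c.mem_nrSet.mp h)]; simp

/-- The number of ways of writing a non-real element as a product of two such. -/
theorem card_nonreal_products (hk : 2 < Nat.card c.K)
    (hN : (c.numInv : ℤ) = (1 + 2 * (-1) * Nat.card c.K) * (1 + (-1) * Nat.card c.K))
    (hD : T.P 1 = ((1 + 2 * (-1) * Nat.card c.K : ℤ) : ℂ))
    (hτ : ∀ th ∈ T.Θ, (c.cz th c.mu : ℂ) * th.1 1 = ((-(1 + (-1) * Nat.card c.K) : ℤ) : ℂ))
    {x : G} (hx : c.Outer x) (hx0 : Nat.card (pairs x) = 0) :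
    Nat.card {y : G // (c.Outer y ∧ Nat.card (pairs y) = 0) ∧
      c.Outer (y⁻¹ * x) ∧ Nat.card (pairs (y⁻¹ * x)) = 0} = 4 * (Nat.card c.K - 1) := by
  obtain ⟨hdich, -, -⟩ := T.outer_neg hk hN hD hτ
  have hk0 : (Nat.card c.K : ℂ) ≠ 0 := card_ne_zero
  have hG : (Nat.card G : ℂ) ≠ 0 := card_ne_zero
  have hD' : T.P 1 = 1 - 2 * (Nat.card c.K : ℂ) := by rw [hD]; push_cast; ring
  set b : G → ℂ := fun g => if c.Outer g ∧ Nat.card (pairs g) = 0 then 1 else 0 with hb
  set δ : G → ℂ := fun g => if g = 1 then 1 else 0 with hδ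
  have hbeq : b = (trivialChar G).1 + (T.s : ℂ) • T.C.1 -
      (Nat.card c.K : ℂ)⁻¹ • (∑ lam : IrrCharacter c.K, c.alpha lam) +
        (2 * (Nat.card c.K : ℂ) - 2) • δ := by
    funext g
    simp only [Pi.add_apply, Pi.sub_apply, Pi.smul_apply, Finset.sum_apply, trivialChar_apply, smul_eq_mul,
      hb, hδ]
    rw [show (T.s : ℂ) * T.C.1 g = T.P g from rfl]
    rcases c.cases_g g with rfl | hK | ho
    · rw [if_neg (fun h => h.1.1 rfl), if_pos rfl, hD']
      simp [c.alpha_one]; ring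
    · rw [if_neg (fun h => h.1.2 hK), T.P_KType hK]
      obtain ⟨v, y, hy, h1, rfl⟩ := hK
      rw [if_neg (fun e => h1 (conj_eq_one_iff.mp e))]
      simp only [c.isClassFunction_alpha _ y v, c.alpha_of_mem hy, Finset.sum_sub_distrib, ← map_sum, c.sum_lam,
        if_neg (show (⟨y, hy⟩ : c.K) ≠ 1 from fun e => h1 (congrArg Subtype.val e)), map_zero, sub_zero,
        Finset.sum_const, Finset.card_univ, c.card_lam, nsmul_eq_mul]
      field_simp
      ring
    · rw [if_neg ho.1]
      simp only [c.alpha_outer ho, Finset.sum_const_zero, mul_zero, sub_zero, add_zero]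
      rcases hdich g ho with ⟨e1, e2⟩ | ⟨e1, e2⟩
      · rw [if_neg (fun h => by omega), e2]; ring
      · rw [if_pos ⟨ho, e1⟩, e2]; ring
  have hδc : IsClassFunction G δ := fun g h => by simp [hδ]
  have hbc : IsClassFunction G b := by
    rw [hbeq]
    intro g h
    simp only [Pi.add_apply, Pi.sub_apply, Pi.smul_apply, Finset.sum_apply, trivialChar_apply,
      IsCharacter.isClassFunction (irr_isCharacter T.C) g h, hδc g h, c.isClassFunction_alpha _ g h]
  set hf : IrrCharacter G → ℂ := fun chi =>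
    ((if chi = trivialChar G then 1 else 0) + (if chi = T.C then (T.s : ℂ) else 0)) -
      (Nat.card c.K : ℂ)⁻¹ * ∑ lam : IrrCharacter c.K, (c.cz chi lam : ℂ) with hhf
  set ρ : ℂ := (2 * (Nat.card c.K : ℂ) - 2) / Nat.card G with hρ
  have hcoef : ∀ chi : IrrCharacter G, classInner b chi.1 = hf chi + ρ * chi.1 1 := by
    intro chi
    rw [hbeq, classInner_add_left, classInner_sub_left, classInner_add_left, classInner_smul_left,
      classInner_smul_left, classInner_smul_left, classInner_sum_left, classInner_irr, classInner_irr]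
    simp only [c.cz_spec]
    have hd : classInner δ chi.1 = (Nat.card G : ℂ)⁻¹ * chi.1 1 := by
      rw [classInner]
      simp only [hδ, ite_mul, one_mul, zero_mul, Finset.sum_ite_eq', Finset.mem_univ, if_true,
        apply_one_eq_degree, map_natCast]
    rw [hd, hhf, hρ]
    simp only [eq_comm (a := chi), mul_ite, mul_one, mul_zero]
    ring
  have hconv : conv b x = 4 * ((Nat.card c.K : ℂ) - 1) := by
    have hzero : ∑ chi : IrrCharacter G, chi.1 c.t ^ 2 * chi.1 x / chi.1 1 = 0 := by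
      have h := c.pairs_formula x
      rw [hx0, Nat.cast_zero] at h
      refine (mul_eq_zero.mp h.symm).resolve_left ?_
      intro h0
      have := c.star c.mu c.mu_spec.1
      rw [h0, zero_mul] at this
      exact hk0 this.symm
    have hlin : ∑ chi : IrrCharacter G, hf chi * chi.1 x = 1 := by
      simp only [hhf, sub_mul, add_mul, ite_mul, one_mul, zero_mul, Finset.sum_sub_distrib,
        Finset.sum_add_distrib, Finset.sum_ite_eq', Finset.mem_univ, if_true, trivialChar_apply]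
      rw [show (T.s : ℂ) * T.C.1 x = T.P x from rfl,
        ((hdich x hx).resolve_left (fun h => by omega)).2]
      simp only [mul_assoc, Finset.sum_mul, ← Finset.mul_sum]
      rw [Finset.sum_comm]
      simp [c.sum_cz_apply, c.alpha_outer hx]
    have hdeg : ∑ chi : IrrCharacter G, chi.1 1 * chi.1 x = 0 := by
      rw [sum_irr_degree_mul, if_neg hx.1]
    rw [conv_eq_sum hbc]
    simp only [hcoef]
    have hexp : ∀ chi : IrrCharacter G, (Nat.card G : ℂ) * (hf chi + ρ * chi.1 1) ^ 2 / chi.1 1 * chi.1 x =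
        (Nat.card G : ℂ) / (Nat.card c.K : ℂ) ^ 2 * (chi.1 c.t ^ 2 * chi.1 x / chi.1 1) +
          2 * (Nat.card G : ℂ) * ρ * (hf chi * chi.1 x) + (Nat.card G : ℂ) * ρ ^ 2 * (chi.1 1 * chi.1 x) := by
      intro chi
      have hsq : (Nat.card c.K : ℂ) ^ 2 * hf chi ^ 2 = chi.1 c.t ^ 2 := by
        rw [← T.sq_hfun chi, hhf]
        field_simp
      have := IsIrrCharacter.apply_one_ne_zero chi.2
      rw [← hsq]
      field_simp
      ring
    rw [Finset.sum_congr rfl (fun chi _ => hexp chi), Finset.sum_add_distrib, Finset.sum_add_distrib,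
      ← Finset.mul_sum, ← Finset.mul_sum, ← Finset.mul_sum, hzero, hlin, hdeg, hρ]
    field_simp
    ring
  have hcard : conv b x = (Nat.card {y : G // (c.Outer y ∧ Nat.card (pairs y) = 0) ∧
      c.Outer (y⁻¹ * x) ∧ Nat.card (pairs (y⁻¹ * x)) = 0} : ℂ) := by
    rw [Nat.card_eq_fintype_card (α := {y : G // _}), Fintype.card_subtype, ← Finset.sum_boole, conv]
    refine Finset.sum_congr rfl fun y _ => ?_
    simp only [hb]
    by_cases h : c.Outer y ∧ Nat.card (pairs y) = 0
    · rw [if_pos h, one_mul]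
      by_cases h2 : c.Outer (y⁻¹ * x) ∧ Nat.card (pairs (y⁻¹ * x)) = 0
      · rw [if_pos h2, if_pos ⟨h, h2⟩]
      · rw [if_neg h2, if_neg (fun e => h2 e.2)]
    · rw [if_neg h, zero_mul, if_neg (fun e => h e.1)]
  rw [hcard] at hconv
  have : ((Nat.card {y : G // (c.Outer y ∧ Nat.card (pairs y) = 0) ∧
      c.Outer (y⁻¹ * x) ∧ Nat.card (pairs (y⁻¹ * x)) = 0} : ℕ) : ℂ) = ((4 * (Nat.card c.K - 1) : ℕ) : ℂ) := by
    rw [hconv, Nat.cast_mul, Nat.cast_sub (by omega)]; simp
  exact_mod_cast this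

end Config.Table

end Cfsg.Agent.BSW
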