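import Mathlib.GroupTheory.Sylow
import Mathlib.GroupTheory.FixedPointFree
import Mathlib.Tactic.Group
import Cfsg.Agent.Lib.Char.Orthogonality

/-!
The configuration of the Brauer–Suzuki–Wall theorem: `t` an involution, `H = C(t) = K⟨s⟩` with `K` abelian, TI,
inverted by the involution `s`, `C_K(s) = ⟨t⟩`, one class of involutions. Elementary consequences.
-/

set_option autoImplicit false

namespace Cfsg.Agent.BSW

universe u

open Subgroup

/-- The hypotheses of the Brauer–Suzuki–Wall theorem. -/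
structure Config (G : Type u) [Group G] where
  t : G
  K : Subgroup G
  s : G
  ht : orderOf t = 2
  comm : ∀ x ∈ K, ∀ y ∈ K, x * y = y * x
  hKH : K ≤ Subgroup.centralizer ({t} : Set G)
  htK : t ∈ K
  hs : orderOf s = 2
  hsH : s ∈ Subgroup.centralizer ({t} : Set G)
  hsK : s ∉ K
  hH : K ⊔ Subgroup.zpowers s = Subgroup.centralizer ({t} : Set G)
  hCK : K ⊓ Subgroup.centralizer ({s} : Set G) = Subgroup.zpowers t
  hinv : ∀ x ∈ K, s * x * s⁻¹ = x⁻¹
  hTI : ∀ g : G, g ∉ Subgroup.centralizer ({t} : Set G) → K ⊓ K.map (MulAut.conj g).toMonoidHom = ⊥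
  hconj : ∀ x y : G, orderOf x = 2 → orderOf y = 2 → IsConj x y

variable {G : Type u} [Group G]

theorem sq_of_order {w : G} (h : orderOf w = 2) : w * w = 1 := by rw [← sq, ← h]; exact pow_orderOf_eq_one w

theorem inv_of_order {w : G} (h : orderOf w = 2) : w⁻¹ = w := inv_eq_of_mul_eq_one_right (sq_of_order h)

theorem ne_one_of_order {w : G} (h : orderOf w = 2) : w ≠ 1 := fun h1 => by rw [h1, orderOf_one] at h; omega

theorem order_of_sq {w : G} (h : w * w = 1) (h1 : w ≠ 1) : orderOf w = 2 :=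
  orderOf_eq_prime (by rw [sq]; exact h) h1

theorem mem_cent {a g : G} : g ∈ Subgroup.centralizer ({a} : Set G) ↔ g * a = a * g :=
  Subgroup.mem_centralizer_singleton_iff

theorem cent_conj (h x g : G) :
    g ∈ Subgroup.centralizer ({h * x * h⁻¹} : Set G) ↔ h⁻¹ * g * h ∈ Subgroup.centralizer ({x} : Set G) := by
  rw [mem_cent, mem_cent]
  constructor
  · intro e
    calc h⁻¹ * g * h * x = h⁻¹ * (g * (h * x * h⁻¹)) * h := by group
      _ = h⁻¹ * (h * x * h⁻¹ * g) * h := by rw [e]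
      _ = x * (h⁻¹ * g * h) := by group
  · intro e
    calc g * (h * x * h⁻¹) = h * (h⁻¹ * g * h * x) * h⁻¹ := by group
      _ = h * (x * (h⁻¹ * g * h)) * h⁻¹ := by rw [e]
      _ = h * x * h⁻¹ * g := by group

theorem card_cent_conj (h x : G) :
    Nat.card (Subgroup.centralizer ({h * x * h⁻¹} : Set G)) = Nat.card (Subgroup.centralizer ({x} : Set G)) := by
  refine Nat.card_congr (((MulAut.conj h⁻¹).toEquiv).subtypeEquiv fun g => ?_)
  show _ ↔ (MulAut.conj h⁻¹) g ∈ _
  rw [MulAut.conj_apply, inv_inv]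
  exact cent_conj h x g

namespace Config

variable (c : Config G)

/-- The centralizer of `t`. -/
abbrev H : Subgroup G := Subgroup.centralizer ({c.t} : Set G)

/-- `g` is conjugate to a nontrivial element of `K`. -/
def KType (g : G) : Prop := ∃ h x, x ∈ c.K ∧ x ≠ 1 ∧ g = h * x * h⁻¹

/-- The nontrivial elements not conjugate into `K`. -/
def Outer (g : G) : Prop := g ≠ 1 ∧ ¬ c.KType g

theorem tt : c.t * c.t = 1 := sq_of_order c.ht
theorem ss : c.s * c.s = 1 := sq_of_order c.hs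
theorem t_inv : c.t⁻¹ = c.t := inv_of_order c.ht
theorem s_inv : c.s⁻¹ = c.s := inv_of_order c.hs
theorem t_ne : c.t ≠ 1 := ne_one_of_order c.ht
theorem t_mem_H : c.t ∈ c.H := c.hKH c.htK

theorem s_mem_normalizer : c.s ∈ Subgroup.normalizer (c.K : Set G) := by
  refine Subgroup.mem_normalizer_iff.mpr fun x => ⟨fun hx => c.hinv x hx ▸ inv_mem hx, fun hx => ?_⟩
  have h2 := inv_mem hx
  rw [← c.hinv _ hx] at h2
  rw [show c.s * (c.s * x * c.s⁻¹) * c.s⁻¹ = (c.s * c.s) * x * (c.s * c.s)⁻¹ by group, c.ss] at h2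
  simpa using h2

theorem mem_H_cases {h : G} (hh : h ∈ c.H) : h ∈ c.K ∨ ∃ x ∈ c.K, h = x * c.s := by
  have hle : Subgroup.zpowers c.s ≤ Subgroup.normalizer (c.K : Set G) :=
    Subgroup.zpowers_le.mpr c.s_mem_normalizer
  have hh' : h ∈ ((c.K ⊔ Subgroup.zpowers c.s : Subgroup G) : Set G) := by rw [c.hH]; exact hh
  rw [Subgroup.coe_mul_of_right_le_normalizer_left c.K _ hle] at hh'
  obtain ⟨x, hx, w, hw, rfl⟩ := Set.mem_mul.mp hh'
  obtain ⟨i, rfl⟩ := Subgroup.mem_zpowers_iff.mp hw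
  rw [← zpow_mod_orderOf, c.hs]
  rcases Int.emod_two_eq_zero_or_one i with e | e <;> rw [show ((2 : ℕ) : ℤ) = 2 from rfl, e]
  · left; simpa using hx
  · right; exact ⟨x, hx, by simp⟩

theorem xs_mem_H {x : G} (hx : x ∈ c.K) : x * c.s ∈ c.H := mul_mem (c.hKH hx) c.hsH

theorem xs_notMem {x : G} (hx : x ∈ c.K) : x * c.s ∉ c.K := fun h => c.hsK (by
  have := mul_mem (inv_mem hx) h
  rwa [inv_mul_cancel_left] at this)

theorem coset_sq {h : G} (hh : h ∈ c.H) (hK : h ∉ c.K) : orderOf h = 2 := by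
  obtain ⟨x, hx, rfl⟩ := (c.mem_H_cases hh).resolve_left hK
  refine order_of_sq ?_ (fun h1 => hK (by rw [h1]; exact one_mem _))
  rw [show x * c.s * (x * c.s) = x * (c.s * x * c.s⁻¹) * (c.s * c.s) by group, c.hinv x hx, c.ss]
  simp

theorem coset_inverts {h x : G} (hh : h ∈ c.H) (hK : h ∉ c.K) (hx : x ∈ c.K) : h * x * h⁻¹ = x⁻¹ := by
  obtain ⟨y, hy, rfl⟩ := (c.mem_H_cases hh).resolve_left hK
  rw [show y * c.s * x * (y * c.s)⁻¹ = y * (c.s * x * c.s⁻¹) * y⁻¹ by group, c.hinv x hx,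
    c.comm y hy _ (inv_mem hx), mul_inv_cancel_right]

theorem conj_cases {h x : G} (hh : h ∈ c.H) (hx : x ∈ c.K) :
    (h * x * h⁻¹ = x ∧ h ∈ c.K) ∨ (h * x * h⁻¹ = x⁻¹ ∧ h ∉ c.K) := by
  by_cases hK : h ∈ c.K
  · exact Or.inl ⟨by rw [c.comm h hK x hx, mul_inv_cancel_right], hK⟩
  · exact Or.inr ⟨c.coset_inverts hh hK hx, hK⟩

theorem conj_mem_K {h x : G} (hh : h ∈ c.H) (hx : x ∈ c.K) : h * x * h⁻¹ ∈ c.K := by
  rcases c.conj_cases hh hx with ⟨e, -⟩ | ⟨e, -⟩ <;> rw [e]
  · exact hx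
  · exact inv_mem hx

theorem eq_one_or_t {x : G} (hx : x ∈ c.K) (h2 : x * x = 1) : x = 1 ∨ x = c.t := by
  have hi : x⁻¹ = x := inv_eq_of_mul_eq_one_right h2
  have hm : x ∈ c.K ⊓ Subgroup.centralizer ({c.s} : Set G) := by
    refine ⟨hx, mem_cent.mpr ?_⟩
    have := c.hinv x hx
    rw [hi, mul_inv_eq_iff_eq_mul] at this
    exact this.symm
  rw [c.hCK] at hm
  obtain ⟨i, rfl⟩ := Subgroup.mem_zpowers_iff.mp hm
  rw [← zpow_mod_orderOf, c.ht]
  rcases Int.emod_two_eq_zero_or_one i with e | e <;> rw [show ((2 : ℕ) : ℤ) = 2 from rfl, e] <;> simp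

theorem conj_mem_imp_H {g x : G} (hx : x ∈ c.K) (h1 : x ≠ 1) (hg : g * x * g⁻¹ ∈ c.K) : g ∈ c.H := by
  by_contra hn
  have : g * x * g⁻¹ ∈ c.K ⊓ c.K.map (MulAut.conj g).toMonoidHom := ⟨hg, ⟨x, hx, rfl⟩⟩
  rw [c.hTI g hn, Subgroup.mem_bot] at this
  exact h1 (conj_eq_one_iff.mp this)

theorem cent_le_H {g x : G} (hx : x ∈ c.K) (h1 : x ≠ 1) (hg : g * x = x * g) : g ∈ c.H :=
  c.conj_mem_imp_H hx h1 (by rw [hg, mul_inv_cancel_right]; exact hx)

theorem cent_eq_K {x : G} (hx : x ∈ c.K) (h2 : x * x ≠ 1) :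
    Subgroup.centralizer ({x} : Set G) = c.K := by
  ext g
  rw [mem_cent]
  refine ⟨fun hg => ?_, fun hg => c.comm g hg x hx⟩
  rcases c.conj_cases (c.cent_le_H hx (fun h => h2 (by rw [h, mul_one])) hg) hx with ⟨-, h⟩ | ⟨e, -⟩
  · exact h
  · rw [hg, mul_inv_cancel_right] at e
    exact absurd (by nth_rw 2 [e]; exact mul_inv_cancel x) h2

theorem order_two_of_mem_K {x : G} (hx : x ∈ c.K) (h1 : x ≠ 1) (h2 : x * x = 1) : x = c.t :=
  (c.eq_one_or_t hx h2).resolve_left h1

theorem KType_of_involution {u : G} (hu : orderOf u = 2) : c.KType u := by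
  obtain ⟨h, hh⟩ := isConj_iff.mp (c.hconj c.t u c.ht hu)
  exact ⟨h, c.t, c.htK, c.t_ne, hh.symm⟩

theorem KType_of_mem {x : G} (hx : x ∈ c.K) (h1 : x ≠ 1) : c.KType x := ⟨1, x, hx, h1, by simp⟩

theorem KType_conj {g : G} (hg : c.KType g) (v : G) : c.KType (v * g * v⁻¹) := by
  obtain ⟨h, x, hx, h1, rfl⟩ := hg
  exact ⟨v * h, x, hx, h1, by group⟩

theorem outer_conj {g : G} (hg : c.Outer g) (v : G) : c.Outer (v * g * v⁻¹) := by
  refine ⟨fun h => hg.1 (conj_eq_one_iff.mp h), fun h => hg.2 ?_⟩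
  have := c.KType_conj h v⁻¹
  rwa [show v⁻¹ * (v * g * v⁻¹) * v⁻¹⁻¹ = g by group] at this

theorem outer_inv {g : G} (hg : c.Outer g) : c.Outer g⁻¹ := by
  refine ⟨fun h => hg.1 (inv_eq_one.mp h), fun h => hg.2 ?_⟩
  obtain ⟨v, x, hx, h1, e⟩ := h
  exact ⟨v, x⁻¹, inv_mem hx, fun h => h1 (inv_eq_one.mp h), by rw [← inv_inv g, e]; group⟩

theorem KType_of_commute_involution {g u : G} (hu : orderOf u = 2) (hg : g ≠ 1) (hc : g * u = u * g) :
    c.KType g := by
  obtain ⟨h, hh⟩ := isConj_iff.mp (c.hconj c.t u c.ht hu)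
  have hm : h⁻¹ * g * h ∈ c.H := by
    rw [← cent_conj, hh]; exact mem_cent.mpr hc
  have h1 : h⁻¹ * g * h ≠ 1 := fun e => hg (by
    have := congrArg (fun w => h * w * h⁻¹) e
    simpa [mul_assoc] using this)
  have hk : c.KType (h⁻¹ * g * h) := by
    by_cases hK : h⁻¹ * g * h ∈ c.K
    · exact c.KType_of_mem hK h1
    · exact c.KType_of_involution (c.coset_sq hm hK)
  have := c.KType_conj hk h
  rwa [show h * (h⁻¹ * g * h) * h⁻¹ = g by group] at this

variable [Finite G]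

theorem card_H : Nat.card c.H = 2 * Nat.card c.K := by
  let f : c.K × Bool → c.H := fun p =>
    if p.2 then ⟨(p.1 : G) * c.s, c.xs_mem_H p.1.2⟩ else ⟨p.1, c.hKH p.1.2⟩
  have hf : Function.Bijective f := by
    constructor
    · rintro ⟨a, b⟩ ⟨a', b'⟩ e
      have e' := congrArg Subtype.val e
      cases b <;> cases b'
      · exact Prod.ext (Subtype.ext (by simpa [f] using e')) rfl
      · have e'' : (a : G) = (a' : G) * c.s := by simpa [f] using e'
        exact absurd (e'' ▸ a.2) (c.xs_notMem a'.2)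
      · have e'' : (a : G) * c.s = (a' : G) := by simpa [f] using e'
        exact absurd (e''.symm ▸ a'.2) (c.xs_notMem a.2)
      · have e'' : (a : G) * c.s = (a' : G) * c.s := by simpa [f] using e'
        exact Prod.ext (Subtype.ext (mul_right_cancel e'')) rfl
    · intro h
      rcases c.mem_H_cases h.2 with hK | ⟨x, hx, e⟩
      · exact ⟨(⟨h, hK⟩, false), Subtype.ext rfl⟩
      · exact ⟨(⟨x, hx⟩, true), Subtype.ext e.symm⟩
  rw [← Nat.card_eq_of_bijective f hf, Nat.card_prod, Nat.card_eq_fintype_card (α := Bool), Fintype.card_bool,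
    Nat.mul_comm]

omit [Finite G] in
theorem even_card_K : Even (Nat.card c.K) := by
  rw [even_iff_two_dvd]
  have := orderOf_dvd_natCard (⟨c.t, c.htK⟩ : c.K)
  rwa [Subgroup.orderOf_mk, c.ht] at this

/-- The number of involutions. -/
noncomputable def numInv (_c : Config G) : ℕ := Nat.card {u : G // orderOf u = 2}

theorem card_G : 2 * Nat.card c.K * c.numInv = Nat.card G := by
  rw [← c.card_H, ← Char.card_centralizer_mul_card_conj c.t, numInv]
  congr 1
  exact Nat.card_congr (Equiv.subtypeEquivRight fun u => ⟨fun hu => c.hconj c.t u c.ht hu, fun h => by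
    obtain ⟨v, hv⟩ := isConj_iff.mp h
    rw [← hv]
    exact ((MulAut.conj v).orderOf_eq c.t).trans c.ht⟩)

/-- The ordered pairs of involutions with product `g`, indexed by the first one. -/
def pairs (g : G) : Set G := {u | orderOf u = 2 ∧ orderOf (u * g) = 2}

omit [Finite G] in
theorem mem_pairs {g u : G} (hu : orderOf u = 2) :
    u ∈ pairs g ↔ u * g * u⁻¹ = g⁻¹ ∧ g ≠ u := by
  constructor
  · rintro ⟨-, h⟩
    refine ⟨?_, fun e => ?_⟩
    · have := sq_of_order h
      rw [inv_of_order hu]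
      exact eq_inv_of_mul_eq_one_left (by rw [← this]; group)
    · rw [e, sq_of_order hu, orderOf_one] at h; omega
  · rintro ⟨h, hne⟩
    refine ⟨hu, order_of_sq ?_ fun e => hne ?_⟩
    · rw [inv_of_order hu] at h
      rw [show u * g * (u * g) = (u * g * u) * g by group, h, inv_mul_cancel]
    · rw [eq_inv_of_mul_eq_one_right e, inv_of_order hu]

theorem pairs_of_mem_K {x : G} (hx : x ∈ c.K) (h1 : x ≠ 1) : pairs x = (c.H : Set G) \ c.K := by
  ext u
  constructor
  · intro hu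
    have hu2 : orderOf u = 2 := hu.1
    obtain ⟨e, hne⟩ := (mem_pairs hu2).mp hu
    have hH : u ∈ c.H := c.conj_mem_imp_H hx h1 (e ▸ inv_mem hx)
    refine ⟨hH, fun hK => ?_⟩
    rw [c.comm u hK x hx, mul_inv_cancel_right] at e
    have hxt := c.order_two_of_mem_K hx h1 (by nth_rw 2 [e]; exact mul_inv_cancel x)
    exact hne (hxt.trans (c.order_two_of_mem_K hK (ne_one_of_order hu2) (sq_of_order hu2)).symm)
  · rintro ⟨hH, hK⟩
    exact (mem_pairs (c.coset_sq hH hK)).mpr ⟨c.coset_inverts hH hK hx, fun e => hK (e ▸ hx)⟩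

theorem card_pairs_of_mem_K {x : G} (hx : x ∈ c.K) (h1 : x ≠ 1) : Nat.card (pairs x) = Nat.card c.K := by
  rw [c.pairs_of_mem_K hx h1]
  let f : c.K → ↥((c.H : Set G) \ c.K) := fun a => ⟨(a : G) * c.s, c.xs_mem_H a.2, c.xs_notMem a.2⟩
  refine (Nat.card_eq_of_bijective f ⟨fun a b e => ?_, fun w => ?_⟩).symm
  · exact Subtype.ext (mul_right_cancel (congrArg Subtype.val e))
  · obtain ⟨y, hy, e⟩ := (c.mem_H_cases w.2.1).resolve_left w.2.2
    exact ⟨⟨y, hy⟩, Subtype.ext e.symm⟩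

theorem outer_card_cent_odd {g : G} (hg : c.Outer g) :
    Odd (Nat.card (Subgroup.centralizer ({g} : Set G))) := by
  rw [← Nat.not_even_iff_odd, even_iff_two_dvd]
  intro h
  obtain ⟨u, hu⟩ := exists_prime_orderOf_dvd_card' 2 h
  exact hg.2 (c.KType_of_commute_involution ((Subgroup.orderOf_coe u).trans hu) hg.1
    (mem_cent.mp u.2).symm)

theorem outer_of_cent {g a : G} (hg : c.Outer g) (hc : g * a = a * g) (ha : a ≠ 1) : c.Outer a := by
  refine ⟨ha, fun hk => ?_⟩
  obtain ⟨h, x, hx, h1, rfl⟩ := hk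
  have hm : h⁻¹ * g * h ∈ Subgroup.centralizer ({x} : Set G) := by
    rw [← cent_conj]; exact mem_cent.mpr hc
  have hout : c.Outer (h⁻¹ * g * h) := by
    have := c.outer_conj hg h⁻¹
    rwa [inv_inv] at this
  by_cases h2 : x * x = 1
  · exact hout.2 (c.KType_of_commute_involution (order_of_sq h2 h1) hout.1 (mem_cent.mp hm))
  · rw [c.cent_eq_K hx h2] at hm
    exact hout.2 (c.KType_of_mem hm hout.1)

theorem outer_commute_involution_false {g u : G} (hg : c.Outer g) (hu : orderOf u = 2) : ¬ g * u = u * g :=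
  fun h => hg.2 (c.KType_of_commute_involution hu hg.1 h)

section real

variable {g u : G}

theorem pairs_iff_inverts (hg : c.Outer g) (hu : orderOf u = 2) : u ∈ pairs g ↔ u * g * u⁻¹ = g⁻¹ := by
  rw [mem_pairs hu]
  exact ⟨And.left, fun h => ⟨h, fun e => hg.2 (e ▸ c.KType_of_involution hu)⟩⟩

theorem inverts_cent (hg : c.Outer g) (hu : orderOf u = 2) (hinv : u * g * u⁻¹ = g⁻¹) {a : G}
    (ha : a ∈ Subgroup.centralizer ({g} : Set G)) : u * a * u⁻¹ = a⁻¹ := by
  set A := Subgroup.centralizer ({g} : Set G) with hA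
  have hmem : ∀ b : A, u * (b : G) * u⁻¹ ∈ A := by
    intro b
    refine mem_cent.mpr ?_
    have hb : (b : G) * g⁻¹ = g⁻¹ * (b : G) := by
      have := mem_cent.mp b.2
      calc (b : G) * g⁻¹ = g⁻¹ * (g * (b : G)) * g⁻¹ := by group
        _ = g⁻¹ * ((b : G) * g) * g⁻¹ := by rw [this]
        _ = g⁻¹ * (b : G) := by group
    have hg' : g = u * g⁻¹ * u⁻¹ := by
      rw [← hinv, inv_of_order hu, show u * (u * g * u) * u = (u * u) * g * (u * u) by group, sq_of_order hu]
      simp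
    conv_lhs => rw [hg']
    conv_rhs => rw [hg']
    rw [show u * (b : G) * u⁻¹ * (u * g⁻¹ * u⁻¹) = u * ((b : G) * g⁻¹) * u⁻¹ by group, hb]
    group
  let φ : A →* A :=
    { toFun := fun b => ⟨u * (b : G) * u⁻¹, hmem b⟩
      map_one' := Subtype.ext (by simp)
      map_mul' := fun a b => Subtype.ext (by simp [mul_assoc]) }
  have hfix : MonoidHom.FixedPointFree φ := fun b hb => by
    by_contra hb1
    have h1 : (b : G) ≠ 1 := fun e => hb1 (Subtype.ext e)
    have hout : c.Outer (b : G) := c.outer_of_cent hg (mem_cent.mp b.2).symm h1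
    refine c.outer_commute_involution_false hout hu ?_
    have : u * (b : G) * u⁻¹ = b := congrArg Subtype.val hb
    exact (mul_inv_eq_iff_eq_mul.mp this).symm
  have hinvol : Function.Involutive φ := fun b => Subtype.ext (by
    show u * (u * (b : G) * u⁻¹) * u⁻¹ = b
    rw [show u * (u * (b : G) * u⁻¹) * u⁻¹ = (u * u) * (b : G) * (u * u)⁻¹ by group, sq_of_order hu]
    simp)
  exact congrArg Subtype.val (congrFun (hfix.coe_eq_inv_of_involutive hinvol) ⟨a, ha⟩)

theorem cent_comm (hg : c.Outer g) (hu : orderOf u = 2) (hinv : u * g * u⁻¹ = g⁻¹) :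
    ∀ a ∈ Subgroup.centralizer ({g} : Set G), ∀ b ∈ Subgroup.centralizer ({g} : Set G), a * b = b * a := by
  intro a ha b hb
  have h := c.inverts_cent hg hu hinv (mul_mem ha hb)
  rw [← conj_mul, c.inverts_cent hg hu hinv ha, c.inverts_cent hg hu hinv hb, mul_inv_rev] at h
  have := congrArg (fun w => w⁻¹) h
  simpa using this.symm

theorem pairs_eq_coset (hg : c.Outer g) (hu : orderOf u = 2) (hinv : u * g * u⁻¹ = g⁻¹) :
    pairs g = (fun a => u * a) '' (Subgroup.centralizer ({g} : Set G) : Set G) := by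
  ext v
  constructor
  · intro hv
    have hv' : v * g * v⁻¹ = g⁻¹ := (c.pairs_iff_inverts hg hv.1).mp hv
    refine ⟨u⁻¹ * v, mem_cent.mpr ?_, by group⟩
    calc u⁻¹ * v * g = u⁻¹ * (v * g * v⁻¹) * v := by group
      _ = u⁻¹ * (u * g * u⁻¹) * v := by rw [hv', hinv]
      _ = g * (u⁻¹ * v) := by group
  · rintro ⟨a, ha, rfl⟩
    have hai := c.inverts_cent hg hu hinv ha
    have h2 : u * a * (u * a) = 1 := by
      rw [show u * a * (u * a) = (u * a * u⁻¹) * (u * u) * a by group, hai, sq_of_order hu]; simp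
    have h1 : u * a ≠ 1 := fun e => c.outer_commute_involution_false hg hu (by
      rw [eq_inv_of_mul_eq_one_left e]
      have ha' := mem_cent.mp (inv_mem ha : a⁻¹ ∈ Subgroup.centralizer ({g} : Set G))
      exact ha'.symm)
    refine (c.pairs_iff_inverts hg (order_of_sq h2 h1)).mpr ?_
    rw [show u * a * g * (u * a)⁻¹ = u * (a * g * a⁻¹) * u⁻¹ by group, mem_cent.mp ha, mul_inv_cancel_right, hinv]

theorem card_pairs_eq (hg : c.Outer g) (hu : u ∈ pairs g) :
    Nat.card (pairs g) = Nat.card (Subgroup.centralizer ({g} : Set G)) := by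
  rw [c.pairs_eq_coset hg hu.1 ((c.pairs_iff_inverts hg hu.1).mp hu),
    Nat.card_image_of_injective (mul_right_injective u)]
  rfl

theorem exists_pairs_of_card_ne_zero (h : Nat.card (pairs g) ≠ 0) : ∃ u, u ∈ pairs g := by
  by_contra hne
  push Not at hne
  exact h (by rw [Set.eq_empty_iff_forall_notMem.mpr hne]; simp)

theorem cent_eq_of_mem (hg : c.Outer g) (hu : orderOf u = 2) (hinv : u * g * u⁻¹ = g⁻¹) {a : G}
    (ha : a ∈ Subgroup.centralizer ({g} : Set G)) (h1 : a ≠ 1) :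
    Subgroup.centralizer ({a} : Set G) = Subgroup.centralizer ({g} : Set G) := by
  have hga : g ∈ Subgroup.centralizer ({a} : Set G) := mem_cent.mpr (mem_cent.mp ha).symm
  have hout := c.outer_of_cent hg (mem_cent.mp hga) h1
  have hai := c.inverts_cent hg hu hinv ha
  refine le_antisymm (fun b hb => mem_cent.mpr ?_) (fun b hb => mem_cent.mpr ?_)
  · exact c.cent_comm hout hu hai b hb g hga
  · exact c.cent_comm hg hu hinv b hb a ha

end real

end Config

end Cfsg.Agent.BSW
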