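import Cfsg.Agent.Lib.BSW.Outer
import Mathlib.GroupTheory.SchurZassenhaus
import Mathlib.GroupTheory.GroupAction.Quotient

/-!
Brauer–Suzuki–Wall, `|K| > 2`: the subgroup `Q` and the complement `D` of `Q` in its normalizer.
-/

set_option autoImplicit false
set_option linter.style.haveILetI false

namespace Cfsg.Agent.BSW

attribute [local instance] Classical.propDecidable

universe u

variable {G : Type u} [Group G]

/-- The conclusion of the Brauer–Suzuki–Wall theorem. -/
def Conclusion (G : Type u) [Group G] : Prop :=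
  ∃ Q D : Subgroup G, 2 * Nat.card G = Nat.card ↥Q * (Nat.card ↥Q + 1) * (Nat.card ↥Q - 1) ∧
      (∀ x ∈ Q, x ≠ 1 → Subgroup.centralizer ({x} : Set G) = Q) ∧
      IsMulCommutative ↥D ∧ 2 * Nat.card ↥D + 1 = Nat.card ↥Q ∧ Q ⊓ D = ⊥ ∧
      Subgroup.normalizer (Q : Set G) = Q ⊔ D ∧
      ∀ X : Subgroup G, X ≤ D → X ≠ ⊥ →
        Subgroup.normalizer (X : Set G) = Subgroup.normalizer (D : Set G) ∧
        ∃ u : G, orderOf u = 2 ∧ u ∉ D ∧ (∀ d ∈ D, u * d * u⁻¹ = d⁻¹) ∧
          Subgroup.normalizer (D : Set G) = D ⊔ Subgroup.zpowers u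

theorem mem_cent_self (g : G) : g ∈ Subgroup.centralizer ({g} : Set G) := mem_cent.mpr rfl

/-- A conjugate equality of centralizers is the same as membership in the normalizer. -/
theorem mem_normalizer_of_ti {Q : Subgroup G} (hC : ∀ x ∈ Q, x ≠ 1 → Subgroup.centralizer ({x} : Set G) = Q)
    {g x : G} (hx : x ∈ Q) (h1 : x ≠ 1) (hg : g * x * g⁻¹ ∈ Q) : g ∈ Subgroup.normalizer (Q : Set G) := by
  refine Subgroup.mem_normalizer_iff.mpr fun a => ?_
  have h2 : g * x * g⁻¹ ≠ 1 := fun e => h1 (conj_eq_one_iff.mp e)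
  conv_rhs => rw [← hC _ hg h2, cent_conj, hC x hx h1]
  rw [show g⁻¹ * (g * a * g⁻¹) * g = a by group]

theorem conj_mem_of_normalizer {Q : Subgroup G} {g a : G} (hg : g ∈ Subgroup.normalizer (Q : Set G)) (ha : a ∈ Q) :
    g * a * g⁻¹ ∈ Q := (Subgroup.mem_normalizer_iff.mp hg a).mp ha

theorem card_ti_conjugates [Finite G] {Q : Subgroup G}
    (hC : ∀ x ∈ Q, x ≠ 1 → Subgroup.centralizer ({x} : Set G) = Q) (S : Set G)
    (hS : ∀ x ∈ Q, x ≠ 1 → ∀ g, g * x * g⁻¹ ∈ S) :
    (Subgroup.normalizer (Q : Set G)).index * (Nat.card Q - 1) ≤ Nat.card S ∧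
      ((∀ w ∈ S, ∃ g, ∃ x ∈ Q, x ≠ 1 ∧ g * x * g⁻¹ = w) →
        (Subgroup.normalizer (Q : Set G)).index * (Nat.card Q - 1) = Nat.card S) := by
  set N := Subgroup.normalizer (Q : Set G) with hN
  let f : (G ⧸ N) × {x : Q // x ≠ 1} → S := fun p =>
    ⟨p.1.out * (p.2.1 : G) * (p.1.out)⁻¹, hS _ p.2.1.2 (fun e => p.2.2 (Subtype.ext e)) _⟩
  have hf : Function.Injective f := by
    rintro ⟨a, x⟩ ⟨b, y⟩ e
    have e' : a.out * (x.1 : G) * (a.out)⁻¹ = b.out * (y.1 : G) * (b.out)⁻¹ := congrArg Subtype.val e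
    have h1 : (b.out)⁻¹ * a.out * (x.1 : G) * ((b.out)⁻¹ * a.out)⁻¹ = (y.1 : G) := by
      calc (b.out)⁻¹ * a.out * (x.1 : G) * ((b.out)⁻¹ * a.out)⁻¹
          = (b.out)⁻¹ * (a.out * (x.1 : G) * (a.out)⁻¹) * b.out := by group
        _ = (y.1 : G) := by rw [e']; group
    have hm : (b.out)⁻¹ * a.out ∈ N :=
      mem_normalizer_of_ti hC x.1.2 (fun e => x.2 (Subtype.ext e)) (h1.symm ▸ y.1.2)
    have hab : b = a := by
      rw [← QuotientGroup.out_eq' b, ← QuotientGroup.out_eq' a]
      exact QuotientGroup.eq.mpr hm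
    subst hab
    exact Prod.ext rfl (Subtype.ext (Subtype.ext (mul_left_cancel (mul_right_cancel e'))))
  have hcard : Nat.card ((G ⧸ N) × {x : Q // x ≠ 1}) = N.index * (Nat.card Q - 1) := by
    rw [Nat.card_prod, Subgroup.index]
    congr 1
    haveI := Fintype.ofFinite Q
    simp [Nat.card_eq_fintype_card, Fintype.card_subtype_compl]
  rw [← hcard]
  refine ⟨Nat.card_le_card_of_injective f hf, fun hsurj => Nat.card_eq_of_bijective f ⟨hf, fun w => ?_⟩⟩
  obtain ⟨g, x, hx, h1, hw⟩ := hsurj w.1 w.2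
  set a : G ⧸ N := QuotientGroup.mk g with ha
  have hm : (a.out)⁻¹ * g ∈ N := QuotientGroup.eq.mp (QuotientGroup.out_eq' a)
  refine ⟨⟨a, ⟨⟨_, conj_mem_of_normalizer hm hx⟩, fun e => h1 ?_⟩⟩, Subtype.ext ?_⟩
  · exact conj_eq_one_iff.mp (congrArg Subtype.val e)
  · show a.out * ((a.out)⁻¹ * g * x * ((a.out)⁻¹ * g)⁻¹) * (a.out)⁻¹ = w.1
    rw [← hw]; group

/-- An element of prime order not dividing the index of `A` is conjugate into `A`. -/
theorem exists_conj_mem_of_coprime_index [Finite G] (A : Subgroup G) {g : G} (r : ℕ) [Fact r.Prime]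
    (hg : orderOf g = r) (hr : ¬ r ∣ A.index) : ∃ v, v * g * v⁻¹ ∈ A := by
  obtain ⟨P⟩ : Nonempty (Sylow r A) := inferInstance
  have hPi : ¬ r ∣ ((P : Subgroup A).map A.subtype).index := by
    rw [Subgroup.index_map_subtype]
    exact fun h => ((Fact.out : r.Prime).dvd_mul.mp h).elim P.not_dvd_index hr
  have hPp : IsPGroup r ((P : Subgroup A).map A.subtype) := P.2.map A.subtype
  let S : Sylow r G := hPp.toSylow hPi
  obtain ⟨T, hT⟩ := (IsPGroup.of_card (n := 1) (by rw [Nat.card_zpowers, hg, pow_one])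
    : IsPGroup r (Subgroup.zpowers g)).exists_le_sylow
  obtain ⟨v, hv⟩ := MulAction.exists_smul_eq G T S
  refine ⟨v, ?_⟩
  have hgS : v * g * v⁻¹ ∈ (S : Subgroup G) := by
    rw [← hv, Sylow.coe_subgroup_smul]
    exact ⟨g, hT (Subgroup.mem_zpowers g), rfl⟩
  exact Subgroup.map_subtype_le _ hgS

theorem pairs_conj (g v : G) : Nat.card (Config.pairs (v * g * v⁻¹)) = Nat.card (Config.pairs g) := by
  refine (Nat.card_congr (((MulAut.conj v).toEquiv).subtypeEquiv fun w => ?_)).symm
  show (orderOf w = 2 ∧ orderOf (w * g) = 2) ↔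
    (orderOf ((MulAut.conj v) w) = 2 ∧ orderOf ((MulAut.conj v) w * (v * g * v⁻¹)) = 2)
  rw [← MulAut.conj_apply, ← map_mul, MulEquiv.orderOf_eq, MulEquiv.orderOf_eq]

theorem order_conj (v w : G) : orderOf (v * w * v⁻¹) = orderOf w := (MulAut.conj v).orderOf_eq w

/-- In a group of odd order the proper subgroups have index at least three. -/
theorem three_le_index {W : Type*} [Group W] [Finite W] (B : Subgroup W) (ho : Odd (Nat.card W)) (hB : B ≠ ⊤) :
    3 * Nat.card B ≤ Nat.card W := by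
  rw [← Subgroup.index_mul_card B]
  refine Nat.mul_le_mul_right _ ?_
  obtain ⟨m, hm⟩ := ho.of_dvd_nat B.index_dvd_card
  have : B.index ≠ 1 := fun h => hB (Subgroup.index_eq_one.mp h)
  omega

/-- Every element of a subgroup of odd order is a square. -/
theorem exists_sq [Finite G] {A : Subgroup G} (ho : Odd (Nat.card A)) {a : G} (ha : a ∈ A) :
    ∃ b ∈ A, b * b = a := by
  obtain ⟨m, hm⟩ := ho
  refine ⟨a ^ (m + 1), pow_mem ha _, ?_⟩
  have h : a ^ Nat.card A = 1 := congrArg Subtype.val (pow_card_eq_one' (x := (⟨a, ha⟩ : A)))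
  rw [← pow_add, show m + 1 + (m + 1) = Nat.card A + 1 by omega, pow_succ, h, one_mul]

namespace Config

variable {c : Config G} [Finite G]

section real

variable {g : G}

theorem real_TI (hg : c.Outer g) {u : G} (hu : u ∈ pairs g) {a : G}
    (ha : a ∈ Subgroup.centralizer ({g} : Set G)) (h1 : a ≠ 1) :
    Subgroup.centralizer ({a} : Set G) = Subgroup.centralizer ({g} : Set G) :=
  c.cent_eq_of_mem hg hu.1 ((c.pairs_iff_inverts hg hu.1).mp hu) ha h1

theorem normalizer_inter_H (hg : c.Outer g) (ht : c.t ∈ pairs g) {h : G} (hH : h ∈ c.H)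
    (hN : h ∈ Subgroup.normalizer (Subgroup.centralizer ({g} : Set G) : Set G)) : h ∈ c.K := by
  by_contra hK
  have hh2 := c.coset_sq hH hK
  have hti := (c.pairs_iff_inverts hg c.ht).mp ht
  have hgC : h * g * h⁻¹ ∈ Subgroup.centralizer ({g} : Set G) := conj_mem_of_normalizer hN (mem_cent_self g)
  set e := h * g * h⁻¹ * g with he
  have he_mem : e ∈ Subgroup.centralizer ({g} : Set G) := mul_mem hgC (mem_cent_self g)
  have hfix : h * e * h⁻¹ = e := by
    rw [he, show h * (h * g * h⁻¹ * g) * h⁻¹ = (h * h) * g * (h * h)⁻¹ * (h * g * h⁻¹) by group, sq_of_order hh2]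
    simp only [one_mul, inv_one, mul_one]
    exact (mem_cent.mp hgC).symm
  by_cases he1 : e = 1
  · have hinv : h * g * h⁻¹ = g⁻¹ := eq_inv_of_mul_eq_one_left he1
    have hcomm : g * (h * c.t) = (h * c.t) * g := by
      have h1 : (h * c.t) * g * (h * c.t)⁻¹ = g := by
        rw [show (h * c.t) * g * (h * c.t)⁻¹ = h * (c.t * g * c.t⁻¹) * h⁻¹ by group, hti, ← conj_inv, hinv, inv_inv]
      exact (mul_inv_eq_iff_eq_mul.mp h1).symm
    have hne : h ≠ c.t := fun e' => hK (e' ▸ c.htK)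
    refine c.outer_commute_involution_false hg (order_of_sq ?_ ?_) hcomm
    · have hc : c.t * h = h * c.t := (mem_cent.mp hH).symm
      rw [show h * c.t * (h * c.t) = h * (c.t * h) * c.t by group, hc,
        show h * (h * c.t) * c.t = (h * h) * (c.t * c.t) by group, sq_of_order hh2, c.tt, one_mul]
    · intro e'
      exact hne (by rw [eq_inv_of_mul_eq_one_left e', c.t_inv])
  · exact c.outer_commute_involution_false (c.outer_of_cent hg (mem_cent.mp he_mem).symm he1) hh2
      (mul_inv_eq_iff_eq_mul.mp hfix).symm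

/-- The normalizer of the centralizer of a real element inverted by `t`. -/
theorem normalizer_decomp (hg : c.Outer g) (ht : c.t ∈ pairs g) {n : G}
    (hn : n ∈ Subgroup.normalizer (Subgroup.centralizer ({g} : Set G) : Set G)) :
    ∃ a ∈ Subgroup.centralizer ({g} : Set G), ∃ m ∈ c.K,
      m ∈ Subgroup.normalizer (Subgroup.centralizer ({g} : Set G) : Set G) ∧ n = a * m := by
  set A := Subgroup.centralizer ({g} : Set G) with hA
  have hti := (c.pairs_iff_inverts hg c.ht).mp ht
  have hv : n * c.t * n⁻¹ ∈ pairs g := by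
    refine (c.pairs_iff_inverts hg (by rw [order_conj, c.ht])).mpr ?_
    have hm : n⁻¹ * g * n ∈ A := by
      have := conj_mem_of_normalizer (inv_mem hn) (mem_cent_self g)
      rwa [inv_inv] at this
    rw [show n * c.t * n⁻¹ * g * (n * c.t * n⁻¹)⁻¹ = n * (c.t * (n⁻¹ * g * n) * c.t⁻¹) * n⁻¹ by group,
      c.inverts_cent hg c.ht hti hm]
    group
  rw [c.pairs_eq_coset hg c.ht hti] at hv
  obtain ⟨a0, ha0, hae⟩ := hv
  obtain ⟨b, hb, hbb⟩ := exists_sq (c.outer_card_cent_odd hg) ha0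
  have htb : c.t * b * c.t⁻¹ = b⁻¹ := c.inverts_cent hg c.ht hti hb
  have hbn : b * n ∈ c.H := by
    refine mem_cent.mpr ?_
    have h2 : n * c.t = c.t * (b * b) * n := by
      have e : c.t * a0 = n * c.t * n⁻¹ := hae
      rw [← hbb] at e
      rw [e]; group
    have h3 : b * c.t * b = c.t := by
      have : b * c.t = c.t * b⁻¹ := by
        rw [← htb, c.t_inv, show c.t * (c.t * b * c.t) = (c.t * c.t) * b * c.t by group, c.tt, one_mul]
      rw [this, inv_mul_cancel_right]
    calc b * n * c.t = b * (n * c.t) := by group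
      _ = (b * c.t * b) * (b * n) := by rw [h2]; group
      _ = c.t * (b * n) := by rw [h3]
  have hbnN : b * n ∈ Subgroup.normalizer (A : Set G) := mul_mem (Subgroup.le_normalizer hb) hn
  exact ⟨b⁻¹, inv_mem hb, b * n, c.normalizer_inter_H hg ht hbn hbnN, hbnN, by group⟩

theorem cent_inf_K (hg : c.Outer g) : Subgroup.centralizer ({g} : Set G) ⊓ c.K = ⊥ := by
  refine (Subgroup.eq_bot_iff_forall _).mpr fun a ha => ?_
  by_contra h1
  exact (c.outer_of_cent hg (mem_cent.mp ha.1).symm h1).2 (c.KType_of_mem ha.2 h1)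

theorem card_normalizer (hg : c.Outer g) (ht : c.t ∈ pairs g) :
    Nat.card (Subgroup.normalizer (Subgroup.centralizer ({g} : Set G) : Set G)) =
      Nat.card (Subgroup.centralizer ({g} : Set G)) *
        Nat.card (c.K ⊓ Subgroup.normalizer (Subgroup.centralizer ({g} : Set G) : Set G) : Subgroup G) := by
  set A := Subgroup.centralizer ({g} : Set G) with hA
  set N := Subgroup.normalizer (A : Set G) with hN
  let f : A × (c.K ⊓ N : Subgroup G) → N :=
    fun p => ⟨(p.1 : G) * p.2, mul_mem (Subgroup.le_normalizer p.1.2) p.2.2.2⟩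
  have hf : Function.Bijective f := by
    refine ⟨?_, fun n => ?_⟩
    · rintro ⟨a, m⟩ ⟨a', m'⟩ e
      have e' : (a : G) * m = (a' : G) * m' := congrArg Subtype.val e
      have h : (a' : G)⁻¹ * a = (m' : G) * (m : G)⁻¹ := by
        rw [eq_mul_inv_iff_mul_eq, mul_assoc, e', inv_mul_cancel_left]
      have h0 : (a' : G)⁻¹ * a ∈ A ⊓ c.K :=
        ⟨A.mul_mem (A.inv_mem a'.2) a.2, h ▸ c.K.mul_mem m'.2.1 (c.K.inv_mem m.2.1)⟩
      rw [c.cent_inf_K hg, Subgroup.mem_bot] at h0
      rw [h0] at h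
      exact Prod.ext (Subtype.ext (inv_mul_eq_one.mp h0).symm) (Subtype.ext (mul_inv_eq_one.mp h.symm).symm)
    · obtain ⟨a, ha, m, hm, hmN, e⟩ := c.normalizer_decomp hg ht n.2
      exact ⟨(⟨a, ha⟩, ⟨m, hm, hmN⟩), Subtype.ext e.symm⟩
  rw [← Nat.card_eq_of_bijective f hf, Nat.card_prod]

theorem exists_t_pairs {u : G} (hu : u ∈ pairs g) :
    ∃ v, v * c.t * v⁻¹ = u ∧ c.t ∈ pairs (v⁻¹ * g * v) := by
  obtain ⟨v, hv⟩ := isConj_iff.mp (c.hconj c.t u c.ht hu.1)
  refine ⟨v, hv, c.ht, ?_⟩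
  have : u * g = v * (c.t * (v⁻¹ * g * v)) * v⁻¹ := by rw [← hv]; group
  rw [← order_conj v, ← this]
  exact hu.2

end real

theorem normalizer_K_sub {X : Subgroup G} (hX : X ≤ c.K) (h1 : X ≠ ⊥) :
    Subgroup.normalizer (X : Set G) = c.H := by
  obtain ⟨x, hx1⟩ := (Subgroup.ne_bot_iff_exists_ne_one.mp h1)
  apply le_antisymm
  · intro g hg
    exact c.conj_mem_imp_H (x := (x : G)) (hX x.2) (fun e => hx1 (Subtype.ext e))
      (hX (conj_mem_of_normalizer hg x.2))
  · intro h hh
    have key : ∀ h ∈ c.H, ∀ a ∈ X, h * a * h⁻¹ ∈ X := fun h hh a ha => by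
      rcases c.conj_cases hh (hX ha) with ⟨e, -⟩ | ⟨e, -⟩ <;> rw [e]
      · exact ha
      · exact inv_mem ha
    refine Subgroup.mem_normalizer_iff.mpr fun a => ⟨key h hh a, fun ha => ?_⟩
    have := key h⁻¹ (inv_mem hh) _ ha
    simpa [mul_assoc] using this

theorem concl_pos [Fintype G] (T : Table c) (hk : 2 < Nat.card c.K)
    (hN : (c.numInv : ℤ) = (1 + 2 * 1 * Nat.card c.K) * (1 + 1 * Nat.card c.K))
    (hD : T.P 1 = ((1 + 2 * 1 * Nat.card c.K : ℤ) : ℂ))
    (hτ : ∀ th ∈ T.Θ, (c.cz th c.mu : ℂ) * th.1 1 = ((-(1 + 1 * Nat.card c.K) : ℤ) : ℂ)) :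
    Conclusion G := by
  obtain ⟨hdich, hcnt⟩ := T.outer_pos hk hN hD hτ
  set k := Nat.card c.K with hkdef
  obtain ⟨⟨g1, hg1, hp1⟩⟩ : Nonempty {g : G // c.Outer g ∧ Nat.card (pairs g) = 2 * k + 1} :=
    (Nat.card_pos_iff.mp (by rw [hcnt]; positivity)).1
  obtain ⟨u1, hu1⟩ := exists_pairs_of_card_ne_zero (g := g1) (by omega)
  obtain ⟨v, hv, ht⟩ := c.exists_t_pairs hu1
  set g := v⁻¹ * g1 * v with hgdef
  have hg : c.Outer g := by
    have := c.outer_conj hg1 v⁻¹
    rwa [inv_inv] at this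
  have hp : Nat.card (pairs g) = 2 * k + 1 := by
    rw [hgdef, ← hp1]
    have := pairs_conj g1 v⁻¹
    rwa [inv_inv] at this
  set Q := Subgroup.centralizer ({g} : Set G) with hQ
  have hQcard : Nat.card Q = 2 * k + 1 := by rw [← c.card_pairs_eq hg ht, hp]
  have hC : ∀ x ∈ Q, x ≠ 1 → Subgroup.centralizer ({x} : Set G) = Q := fun x hx h1 => c.real_TI hg ht hx h1
  have hti := (c.pairs_iff_inverts hg c.ht).mp ht
  have hS : ∀ x ∈ Q, x ≠ 1 → ∀ w : G,
      w * x * w⁻¹ ∈ {g : G | c.Outer g ∧ Nat.card (pairs g) = 2 * k + 1} := by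
    intro x hx h1 w
    have hox : c.Outer x := c.outer_of_cent hg (mem_cent.mp hx).symm h1
    refine ⟨c.outer_conj hox w, ?_⟩
    rw [pairs_conj, c.card_pairs_eq hox ((c.pairs_iff_inverts hox c.ht).mpr (c.inverts_cent hg c.ht hti hx)),
      hC x hx h1, hQcard]
  have hcount := (card_ti_conjugates hC _ hS).1
  rw [Set.coe_setOf, hcnt, hQcard, Nat.add_sub_cancel] at hcount
  have hnorm := c.card_normalizer hg ht
  rw [hQcard] at hnorm
  have hG : Nat.card G = 2 * k * ((2 * k + 1) * (k + 1)) := by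
    rw [← c.card_G]
    congr 1
    have : (c.numInv : ℤ) = (((2 * k + 1) * (k + 1) : ℕ) : ℤ) := by rw [hN]; push_cast; ring
    exact_mod_cast this
  set k' := Nat.card (c.K ⊓ Subgroup.normalizer (Q : Set G) : Subgroup G) with hk'
  have hidx : (Subgroup.normalizer (Q : Set G)).index * k' = 2 * k * (k + 1) := by
    have := Subgroup.index_mul_card (Subgroup.normalizer (Q : Set G))
    rw [hnorm, hG] at this
    apply Nat.eq_of_mul_eq_mul_left (show 0 < 2 * k + 1 by omega)
    linear_combination this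
  have hle : k ≤ k' := by
    by_contra hlt
    push Not at hlt
    have h1 : (Subgroup.normalizer (Q : Set G)).index * (2 * k) * k' ≤ 4 * k * (k + 1) * k' :=
      Nat.mul_le_mul_right _ hcount
    have h2 : (Subgroup.normalizer (Q : Set G)).index * (2 * k) * k' = 2 * k * (2 * k * (k + 1)) := by
      rw [← hidx]; ring
    have h3 : 4 * k * (k + 1) * k' < 4 * k * (k + 1) * k := Nat.mul_lt_mul_of_pos_left hlt (by positivity)
    nlinarith
  have hKN : c.K ≤ Subgroup.normalizer (Q : Set G) := by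
    rw [← inf_eq_left]
    exact Subgroup.eq_of_le_of_card_ge inf_le_left hle
  have hnormK : Subgroup.normalizer (c.K : Set G) = c.H :=
    c.normalizer_K_sub le_rfl (fun e => c.t_ne (by have := c.htK; rwa [e, Subgroup.mem_bot] at this))
  refine ⟨Q, c.K, ?_, hC, ⟨⟨fun a b => c.K_comm a b⟩⟩, by rw [hQcard], c.cent_inf_K hg, ?_,
    fun X hX h1 => ⟨?_, c.s, c.hs, c.hsK, c.hinv, ?_⟩⟩
  · rw [hQcard, hG, Nat.add_sub_cancel]; ring
  · apply le_antisymm
    · intro n hn
      obtain ⟨a, ha, m, hm, -, rfl⟩ := c.normalizer_decomp hg ht hn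
      exact mul_mem (Subgroup.mem_sup_left ha) (Subgroup.mem_sup_right hm)
    · exact sup_le Subgroup.le_normalizer hKN
  · rw [c.normalizer_K_sub hX h1, hnormK]
  · rw [hnormK, c.hH]

section neg

theorem card_G_neg [Fintype G] (hN : (c.numInv : ℤ) = (1 + 2 * (-1) * Nat.card c.K) * (1 + (-1) * Nat.card c.K))
    (hk : 2 < Nat.card c.K) :
    Nat.card G = 2 * Nat.card c.K * ((2 * Nat.card c.K - 1) * (Nat.card c.K - 1)) := by
  rw [← c.card_G]
  congr 1
  have : (c.numInv : ℤ) = (((2 * Nat.card c.K - 1) * (Nat.card c.K - 1) : ℕ) : ℤ) := by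
    rw [hN]; push_cast [Nat.cast_sub (show 1 ≤ 2 * Nat.card c.K by omega),
      Nat.cast_sub (show 1 ≤ Nat.card c.K by omega)]; ring
  exact_mod_cast this

variable [Fintype G] (T : Table c) (hk : 2 < Nat.card c.K)
    (hN : (c.numInv : ℤ) = (1 + 2 * (-1) * Nat.card c.K) * (1 + (-1) * Nat.card c.K))
    (hD : T.P 1 = ((1 + 2 * (-1) * Nat.card c.K : ℤ) : ℂ))
    (hτ : ∀ th ∈ T.Θ, (c.cz th c.mu : ℂ) * th.1 1 = ((-(1 + (-1) * Nat.card c.K) : ℤ) : ℂ))

include T hk hN hD hτ

theorem real_t {g : G} (hg : c.Outer g) (hp : Nat.card (pairs g) = Nat.card c.K - 1) (ht : c.t ∈ pairs g) :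
    Nat.card (Subgroup.centralizer ({g} : Set G)) = Nat.card c.K - 1 ∧
    Nat.card (Subgroup.normalizer (Subgroup.centralizer ({g} : Set G) : Set G)) = 2 * (Nat.card c.K - 1) := by
  obtain ⟨hdich, hcnt, -⟩ := T.outer_neg hk hN hD hτ
  set k := Nat.card c.K with hkdef
  set A := Subgroup.centralizer ({g} : Set G) with hA
  have hAcard : Nat.card A = k - 1 := by rw [← c.card_pairs_eq hg ht, hp]
  refine ⟨hAcard, ?_⟩
  rw [c.card_normalizer hg ht, hAcard]
  set M := (c.K ⊓ Subgroup.normalizer (A : Set G) : Subgroup G) with hM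
  set k' := Nat.card M with hk'
  suffices k' = 2 by rw [this]; ring
  have htM : c.t ∈ M := by
    refine ⟨c.htK, Subgroup.mem_normalizer_iff.mpr fun a => ⟨fun ha => ?_, fun ha => ?_⟩⟩
    · rw [c.inverts_cent hg c.ht ((c.pairs_iff_inverts hg c.ht).mp ht) ha]; exact inv_mem ha
    · have h := c.inverts_cent hg c.ht ((c.pairs_iff_inverts hg c.ht).mp ht) ha
      rw [show c.t * (c.t * a * c.t⁻¹) * c.t⁻¹ = (c.t * c.t) * a * (c.t * c.t)⁻¹ by group, c.tt] at h
      simp only [one_mul, inv_one, mul_one] at h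
      rw [h]; exact inv_mem ha
  have h2 : 2 ∣ k' := by
    have := orderOf_dvd_natCard (⟨c.t, htM⟩ : M)
    rwa [Subgroup.orderOf_mk, c.ht] at this
  have hdvd_k : k' ∣ k := Subgroup.card_dvd_of_le inf_le_left
  have hC : ∀ x ∈ A, x ≠ 1 → Subgroup.centralizer ({x} : Set G) = A := fun x hx h1 => c.real_TI hg ht hx h1
  -- `M` acts freely on `A \ {1}`
  letI act : MulAction M {a : G // a ∈ A ∧ a ≠ 1} :=
    { smul := fun m a => ⟨(m : G) * a.1 * (m : G)⁻¹, conj_mem_of_normalizer m.2.2 a.2.1,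
        fun e => a.2.2 (conj_eq_one_iff.mp e)⟩
      one_smul := fun a => Subtype.ext (show (1 : G) * a.1 * (1 : G)⁻¹ = a.1 by group)
      mul_smul := fun m m' a => Subtype.ext (by
        show ((m * m' : M) : G) * a.1 * ((m * m' : M) : G)⁻¹ = (m : G) * ((m' : G) * a.1 * (m' : G)⁻¹) * (m : G)⁻¹
        rw [Subgroup.coe_mul]; group) }
  have hfree : ∀ a : {a : G // a ∈ A ∧ a ≠ 1}, MulAction.stabilizer M a = ⊥ := by
    intro a
    refine (Subgroup.eq_bot_iff_forall _).mpr fun m hm => ?_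
    have e : (m : G) * a.1 * (m : G)⁻¹ = a.1 := congrArg Subtype.val (MulAction.mem_stabilizer_iff.mp hm)
    by_contra hm1
    have hmA : (m : G) ∈ A := hC a.1 a.2.1 a.2.2 ▸ mem_cent.mpr (mul_inv_eq_iff_eq_mul.mp e)
    have : (m : G) ∈ A ⊓ c.K := ⟨hmA, m.2.1⟩
    rw [c.cent_inf_K hg, Subgroup.mem_bot] at this
    exact hm1 (Subtype.ext this)
  have hdvd : k' ∣ k - 2 := by
    have hX : Nat.card {a : G // a ∈ A ∧ a ≠ 1} = k - 2 := by
      have e : {a : G // a ∈ A ∧ a ≠ 1} ≃ {a : A // a ≠ 1} :=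
        { toFun := fun a => ⟨⟨a.1, a.2.1⟩, fun e => a.2.2 (congrArg Subtype.val e)⟩
          invFun := fun a => ⟨a.1.1, a.1.2, fun e => a.2 (Subtype.ext e)⟩
          left_inv := fun a => rfl
          right_inv := fun a => rfl }
      haveI := Fintype.ofFinite A
      rw [Nat.card_congr e, Nat.card_eq_fintype_card, Fintype.card_subtype_compl, Fintype.card_subtype_eq,
        ← Nat.card_eq_fintype_card, hAcard]
      omega
    rw [← hX, Nat.card_congr (MulAction.selfEquivSigmaOrbits M {a : G // a ∈ A ∧ a ≠ 1}), Nat.card_sigma]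
    refine Finset.dvd_sum fun o _ => ?_
    rw [Nat.card_congr (MulAction.orbitEquivQuotientStabilizer M o.out), hfree, ← Subgroup.index,
      Subgroup.index_bot]
  have : k' ∣ 2 := by
    have := Nat.dvd_sub hdvd_k hdvd
    rwa [show k - (k - 2) = 2 by omega] at this
  exact Nat.dvd_antisymm this h2

theorem real_data {g : G} (hg : c.Outer g) (hp : Nat.card (pairs g) ≠ 0) {u : G} (hu : u ∈ pairs g) :
    Nat.card (Subgroup.centralizer ({g} : Set G)) = Nat.card c.K - 1 ∧
    Nat.card (Subgroup.normalizer (Subgroup.centralizer ({g} : Set G) : Set G)) = 2 * (Nat.card c.K - 1) ∧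
    Subgroup.normalizer (Subgroup.centralizer ({g} : Set G) : Set G) =
      Subgroup.centralizer ({g} : Set G) ⊔ Subgroup.zpowers u := by
  obtain ⟨hdich, -, -⟩ := T.outer_neg hk hN hD hτ
  have hp' : Nat.card (pairs g) = Nat.card c.K - 1 := ((hdich g hg).resolve_right (fun h => hp h.1)).1
  obtain ⟨v, hv, ht⟩ := c.exists_t_pairs hu
  have hg0 : c.Outer (v⁻¹ * g * v) := by
    have := c.outer_conj hg v⁻¹
    rwa [inv_inv] at this
  have hp0 : Nat.card (pairs (v⁻¹ * g * v)) = Nat.card c.K - 1 := by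
    rw [← hp']
    have := pairs_conj g v⁻¹
    rwa [inv_inv] at this
  obtain ⟨h1, h2⟩ := c.real_t T hk hN hD hτ hg0 hp0 ht
  have hgv : g = v * (v⁻¹ * g * v) * v⁻¹ := by group
  have hA : Nat.card (Subgroup.centralizer ({g} : Set G)) = Nat.card c.K - 1 := by
    rw [← h1, hgv, card_cent_conj, ← hgv]
  have hmap : (Subgroup.centralizer ({v⁻¹ * g * v} : Set G)).map (MulAut.conj v).toMonoidHom =
      Subgroup.centralizer ({g} : Set G) := by
    ext w
    rw [Subgroup.mem_map]
    constructor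
    · rintro ⟨a, ha, rfl⟩
      rw [hgv, cent_conj]
      simpa [mul_assoc] using ha
    · intro hw
      refine ⟨v⁻¹ * w * v, ?_, by simp [mul_assoc]⟩
      rw [hgv] at hw
      exact (cent_conj v _ w).mp hw
  have hNc : Nat.card (Subgroup.normalizer (Subgroup.centralizer ({g} : Set G) : Set G)) =
      2 * (Nat.card c.K - 1) := by
    rw [← hmap, ← Subgroup.map_equiv_normalizer_eq, Subgroup.card_map_of_injective (MulAut.conj v).injective, h2]
  refine ⟨hA, hNc, ?_⟩
  have hui := (c.pairs_iff_inverts hg hu.1).mp hu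
  have hle : Subgroup.centralizer ({g} : Set G) ⊔ Subgroup.zpowers u ≤
      Subgroup.normalizer (Subgroup.centralizer ({g} : Set G) : Set G) := by
    refine sup_le Subgroup.le_normalizer (Subgroup.zpowers_le.mpr (Subgroup.mem_normalizer_iff.mpr fun a => ?_))
    refine ⟨fun ha => by rw [c.inverts_cent hg hu.1 hui ha]; exact inv_mem ha, fun ha => ?_⟩
    have h := c.inverts_cent hg hu.1 hui ha
    rw [show u * (u * a * u⁻¹) * u⁻¹ = (u * u) * a * (u * u)⁻¹ by group, sq_of_order hu.1] at h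
    simp only [one_mul, inv_one, mul_one] at h
    rw [h]; exact inv_mem ha
  refine (Subgroup.eq_of_le_of_card_ge hle ?_).symm
  have d1 : Nat.card c.K - 1 ∣ Nat.card ↥(Subgroup.centralizer ({g} : Set G) ⊔ Subgroup.zpowers u) :=
    hA ▸ Subgroup.card_dvd_of_le le_sup_left
  have d2 : 2 ∣ Nat.card ↥(Subgroup.centralizer ({g} : Set G) ⊔ Subgroup.zpowers u) := by
    have := Subgroup.card_dvd_of_le
      (le_sup_right : Subgroup.zpowers u ≤ Subgroup.centralizer ({g} : Set G) ⊔ Subgroup.zpowers u)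
    rwa [Nat.card_zpowers, hu.1] at this
  rw [hNc]
  refine Nat.le_of_dvd Nat.card_pos (Nat.Coprime.mul_dvd_of_dvd_of_dvd ?_ d2 d1)
  have hodd := c.outer_card_cent_odd hg
  rw [hA] at hodd
  exact Nat.coprime_two_left.mpr hodd

theorem nonreal_of_cent {x a : G} (hx : c.Outer x) (hx0 : Nat.card (pairs x) = 0)
    (ha : a ∈ Subgroup.centralizer ({x} : Set G)) (h1 : a ≠ 1) :
    c.Outer a ∧ Nat.card (pairs a) = 0 := by
  have hoa := c.outer_of_cent hx (mem_cent.mp ha).symm h1
  refine ⟨hoa, ?_⟩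
  by_contra hp
  obtain ⟨u, hu⟩ := exists_pairs_of_card_ne_zero hp
  have hxa : x ∈ Subgroup.centralizer ({a} : Set G) := mem_cent.mpr (mem_cent.mp ha).symm
  have : u ∈ pairs x :=
    (c.pairs_iff_inverts hx hu.1).mpr (c.inverts_cent hoa hu.1 ((c.pairs_iff_inverts hoa hu.1).mp hu) hxa)
  exact (Nat.card_pos_iff.mpr ⟨⟨⟨u, this⟩⟩, inferInstance⟩).ne' hx0

theorem not_conj_inv {x : G} (hx : c.Outer x) (hx0 : Nat.card (pairs x) = 0) : ¬ IsConj x x⁻¹ := by
  intro h
  obtain ⟨v, hv⟩ := isConj_iff.mp h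
  obtain ⟨a, m, hm, he⟩ := Nat.exists_eq_two_pow_mul_odd (orderOf_pos v).ne'
  obtain ⟨j, rfl⟩ := hm
  set w := v ^ (2 * j + 1) with hw
  have hv2 : ∀ i : ℕ, v ^ (2 * i) * x * (v ^ (2 * i))⁻¹ = x := by
    intro i
    induction i with
    | zero => simp
    | succ i ih =>
      calc v ^ (2 * (i + 1)) * x * (v ^ (2 * (i + 1)))⁻¹ =
          v ^ (2 * i) * (v * (v * x * v⁻¹) * v⁻¹) * (v ^ (2 * i))⁻¹ := by
            rw [show 2 * (i + 1) = 2 * i + 2 by ring, pow_add, pow_two]; group
        _ = x := by rw [hv, ← conj_inv, hv, inv_inv, ih]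
  have hwx : w * x * w⁻¹ = x⁻¹ := by
    calc w * x * w⁻¹ = v * (v ^ (2 * j) * x * (v ^ (2 * j))⁻¹) * v⁻¹ := by rw [hw, pow_succ']; group
      _ = x⁻¹ := by rw [hv2, hv]
  have hww : w * w ∈ Subgroup.centralizer ({x} : Set G) := by
    refine mem_cent.mpr (mul_inv_eq_iff_eq_mul.mp ?_)
    rw [show w * w * x * (w * w)⁻¹ = w * (w * x * w⁻¹) * w⁻¹ by group, hwx, ← conj_inv, hwx, inv_inv]
  have hodd := c.outer_card_cent_odd hx
  have h2 : w * w = 1 := by
    have e1 : (w * w) ^ Nat.card (Subgroup.centralizer ({x} : Set G)) = 1 :=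
      congrArg Subtype.val (pow_card_eq_one' (x := (⟨w * w, hww⟩ : Subgroup.centralizer ({x} : Set G))))
    have e2 : (w * w) ^ 2 ^ a = 1 := by
      rw [← sq, hw, ← pow_mul, ← pow_mul, show (2 * j + 1) * (2 * 2 ^ a) = orderOf v * 2 by rw [he]; ring,
        pow_mul, pow_orderOf_eq_one, one_pow]
    exact orderOf_eq_one_iff.mp (Nat.eq_one_of_dvd_coprimes ((Nat.coprime_two_right.mpr hodd).pow_right a)
      (orderOf_dvd_of_pow_eq_one e1) (orderOf_dvd_of_pow_eq_one e2))
  have h1 : w ≠ 1 := by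
    intro e
    rw [e, one_mul, inv_one, mul_one] at hwx
    exact hx.2 (c.KType_of_involution (order_of_sq (by nth_rw 2 [hwx]; exact mul_inv_cancel x) hx.1))
  have : w ∈ pairs x := (c.pairs_iff_inverts hx (order_of_sq h2 h1)).mpr hwx
  exact (Nat.card_pos_iff.mpr ⟨⟨⟨w, this⟩⟩, inferInstance⟩).ne' hx0

theorem nonreal_card {x : G} (hx : c.Outer x) (hx0 : Nat.card (pairs x) = 0) :
    Nat.card (Subgroup.centralizer ({x} : Set G)) = 2 * Nat.card c.K - 1 ∧
    ∀ w, c.Outer w → Nat.card (pairs w) = 0 → IsConj x w ∨ IsConj x⁻¹ w := by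
  obtain ⟨hdich, hcnt, hR⟩ := T.outer_neg hk hN hD hτ
  set k := Nat.card c.K with hkdef
  set C := Subgroup.centralizer ({x} : Set G) with hCdef
  have hG := c.card_G_neg hN hk
  rw [← hkdef] at hG
  -- an element of `G` conjugate into `K` and a real element
  obtain ⟨⟨g1, hg1, hp1⟩⟩ : Nonempty {g : G // c.Outer g ∧ Nat.card (pairs g) = k - 1} := by
    refine (Nat.card_pos_iff.mp ?_).1
    have h : (0 : ℤ) < (2 * k - 1) * ((k : ℤ) * k - 2 * k) :=
      mul_pos (by omega) (by nlinarith [show (3 : ℤ) ≤ k by omega])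
    rw [← hcnt] at h
    exact_mod_cast h
  obtain ⟨u1, hu1⟩ := exists_pairs_of_card_ne_zero (g := g1) (by omega)
  obtain ⟨hAcard, -, -⟩ := c.real_data T hk hN hD hτ hg1 (by omega) hu1
  set A := Subgroup.centralizer ({g1} : Set G) with hA
  have hKidx : c.K.index = 2 * ((2 * k - 1) * (k - 1)) := by
    have := Subgroup.index_mul_card c.K
    rw [hG, ← hkdef] at this
    apply Nat.eq_of_mul_eq_mul_right (show 0 < k by omega)
    linear_combination this
  have hAidx : A.index = 2 * k * (2 * k - 1) := by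
    have := Subgroup.index_mul_card A
    rw [hAcard, hG, ← hkdef] at this
    apply Nat.eq_of_mul_eq_mul_right (show 0 < k - 1 by omega)
    linear_combination this
  -- the order of the centralizer is prime to `2k(k-1)`
  have hprime : ∀ r : ℕ, r.Prime → r ∣ Nat.card C → ¬ r ∣ 2 * k * (k - 1) := by
    intro r hr hrC hd
    haveI := Fact.mk hr
    have hr2 : r ≠ 2 := by
      rintro rfl
      exact Nat.not_even_iff_odd.mpr (c.outer_card_cent_odd hx) (even_iff_two_dvd.mpr hrC)
    obtain ⟨a, ha⟩ := exists_prime_orderOf_dvd_card' r hrC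
    have ha1 : (a : G) ≠ 1 := fun e => by
      rw [← Subgroup.orderOf_coe, e, orderOf_one] at ha; exact hr.one_lt.ne ha
    obtain ⟨hoa, hpa⟩ := c.nonreal_of_cent T hk hN hD hτ hx hx0 a.2 ha1
    rcases (Nat.Prime.dvd_mul hr).mp hd with h | h
    · have hrk : r ∣ k := ((Nat.Prime.dvd_mul hr).mp h).resolve_left
        (fun h' => hr2 ((Nat.prime_dvd_prime_iff_eq hr Nat.prime_two).mp h'))
      have hni : ¬ r ∣ c.K.index := by
        rw [hKidx]
        intro hi
        rcases (Nat.Prime.dvd_mul hr).mp hi with h' | h'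
        · exact hr2 ((Nat.prime_dvd_prime_iff_eq hr Nat.prime_two).mp h')
        · rcases (Nat.Prime.dvd_mul hr).mp h' with h'' | h''
          · have := Nat.dvd_sub (dvd_mul_of_dvd_right hrk 2) h''
            rw [show 2 * k - (2 * k - 1) = 1 by omega] at this
            exact hr.not_dvd_one this
          · have := Nat.dvd_sub hrk h''
            rw [show k - (k - 1) = 1 by omega] at this
            exact hr.not_dvd_one this
      obtain ⟨v, hv⟩ := exists_conj_mem_of_coprime_index c.K r ((Subgroup.orderOf_coe a).trans ha) hni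
      exact (c.outer_conj hoa v).2 (c.KType_of_mem hv (c.outer_conj hoa v).1)
    · have hni : ¬ r ∣ A.index := by
        rw [hAidx]
        intro hi
        rcases (Nat.Prime.dvd_mul hr).mp hi with h' | h'
        · rcases (Nat.Prime.dvd_mul hr).mp h' with h'' | h''
          · exact hr2 ((Nat.prime_dvd_prime_iff_eq hr Nat.prime_two).mp h'')
          · have := Nat.dvd_sub h'' h
            rw [show k - (k - 1) = 1 by omega] at this
            exact hr.not_dvd_one this
        · have := Nat.dvd_sub h' (dvd_mul_of_dvd_right h 2)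
          rw [show 2 * k - 1 - 2 * (k - 1) = 1 by omega] at this
          exact hr.not_dvd_one this
      obtain ⟨v, hv⟩ := exists_conj_mem_of_coprime_index A r ((Subgroup.orderOf_coe a).trans ha) hni
      have hov := c.outer_conj hoa v
      have hTI := c.real_TI hg1 hu1 hv hov.1
      have hg1' : g1 ∈ Subgroup.centralizer ({v * (a : G) * v⁻¹} : Set G) := by
        rw [hTI]; exact mem_cent_self g1
      have := (c.nonreal_of_cent T hk hN hD hτ hov (by rw [pairs_conj]; exact hpa) hg1' hg1.1).2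
      omega
  have hCq : Nat.card C ∣ 2 * k - 1 := by
    have hd : Nat.card C ∣ 2 * k * (k - 1) * (2 * k - 1) := by
      have := Subgroup.card_subgroup_dvd_card C
      rw [hG] at this
      rwa [show 2 * k * (k - 1) * (2 * k - 1) = 2 * k * ((2 * k - 1) * (k - 1)) by ring]
    exact (Nat.coprime_of_dvd fun r hr h1 h2 => hprime r hr h1 h2).dvd_of_dvd_mul_left hd
  -- the classes of `x` and `x⁻¹`
  have hclass := Char.card_centralizer_mul_card_conj x
  have hclass' := Char.card_centralizer_mul_card_conj x⁻¹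
  have hCinv : Subgroup.centralizer ({x⁻¹} : Set G) = C := by
    ext w; rw [hCdef, mem_cent, mem_cent]; exact Commute.inv_right_iff
  rw [← hCdef, hG] at hclass
  rw [hCinv, hG] at hclass'
  set Rset := {g : G | c.Outer g ∧ Nat.card (pairs g) = 0} with hRset
  have hRcard : Nat.card Rset = 4 * k * (k - 1) := by
    have h : (Nat.card Rset : ℤ) = ((4 * k * (k - 1) : ℕ) : ℤ) := by
      rw [hRset, Set.coe_setOf, hR]
      push_cast [Nat.cast_sub (show 1 ≤ k by omega)]; ring
    exact_mod_cast h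
  let f : {w : G // IsConj x w} ⊕ {w : G // IsConj x⁻¹ w} → Rset := Sum.elim
    (fun w => ⟨w.1, by
      obtain ⟨v, hv⟩ := isConj_iff.mp w.2
      exact hv ▸ ⟨c.outer_conj hx v, (pairs_conj x v).trans hx0⟩⟩)
    (fun w => ⟨w.1, by
      obtain ⟨v, hv⟩ := isConj_iff.mp w.2
      exact hv ▸ ⟨c.outer_conj (c.outer_inv hx) v, (pairs_conj x⁻¹ v).trans
        (c.nonreal_of_cent T hk hN hD hτ hx hx0 (inv_mem (mem_cent_self x))
          (fun e => hx.1 (inv_eq_one.mp e))).2⟩⟩)
  have hf : Function.Injective f := by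
    rintro (w | w) (w' | w') e
    · exact congrArg Sum.inl (Subtype.ext (congrArg Subtype.val e :))
    · exact absurd ((congrArg Subtype.val e : (w.1 : G) = w'.1) ▸ w.2 |>.trans w'.2.symm)
        (c.not_conj_inv T hk hN hD hτ hx hx0)
    · exact absurd ((congrArg Subtype.val e : (w.1 : G) = w'.1).symm ▸ w'.2 |>.trans w.2.symm)
        (c.not_conj_inv T hk hN hD hτ hx hx0)
    · exact congrArg Sum.inr (Subtype.ext (congrArg Subtype.val e :))
  have hle := Nat.card_le_card_of_injective f hf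
  rw [Nat.card_sum, hRcard] at hle
  have hCeq : Nat.card C = 2 * k - 1 := by
    refine le_antisymm (Nat.le_of_dvd (by omega) hCq) ?_
    have h1 : Nat.card C * (Nat.card {w // IsConj x w} + Nat.card {w // IsConj x⁻¹ w}) ≤
        Nat.card C * (4 * k * (k - 1)) := Nat.mul_le_mul_left _ hle
    rw [mul_add, hclass, hclass'] at h1
    have h2 : (2 * k - 1) * (4 * k * (k - 1)) ≤ Nat.card C * (4 * k * (k - 1)) := by
      refine le_trans (le_of_eq ?_) h1; ring
    exact Nat.le_of_mul_le_mul_right h2 (Nat.mul_pos (Nat.mul_pos (by omega) (by omega)) (by omega))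
  refine ⟨hCeq, fun w hw hw0 => ?_⟩
  have hsize : Nat.card {w // IsConj x w} + Nat.card {w // IsConj x⁻¹ w} = 4 * k * (k - 1) := by
    rw [hCeq] at hclass hclass'
    apply Nat.eq_of_mul_eq_mul_left (show 0 < 2 * k - 1 by omega)
    linear_combination hclass + hclass'
  have hbij : Function.Bijective f := (Nat.bijective_iff_injective_and_card f).mpr
    ⟨hf, by rw [Nat.card_sum, hsize, hRcard]⟩
  obtain ⟨z, hz⟩ := hbij.2 ⟨w, hw, hw0⟩
  rcases z with z | z
  · have e : z.1 = w := congrArg Subtype.val hz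
    exact Or.inl (e ▸ z.2)
  · have e : z.1 = w := congrArg Subtype.val hz
    exact Or.inr (e ▸ z.2)

theorem nonreal_comm {x : G} (hx : c.Outer x) (hx0 : Nat.card (pairs x) = 0) :
    ∀ y ∈ Subgroup.centralizer ({x} : Set G), y ≠ 1 →
      Subgroup.centralizer ({y} : Set G) = Subgroup.centralizer ({x} : Set G) := by
  set k := Nat.card c.K with hkdef
  set Q := Subgroup.centralizer ({x} : Set G) with hQ
  have hQc : Nat.card Q = 2 * k - 1 := (c.nonreal_card T hk hN hD hτ hx hx0).1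
  intro y hy hy1
  by_contra hne
  set S1 := Subgroup.centralizer ({y} : Set G) with hS1
  obtain ⟨hoy, hpy⟩ := c.nonreal_of_cent T hk hN hD hτ hx hx0 hy hy1
  have hS1c : Nat.card S1 = 2 * k - 1 := (c.nonreal_card T hk hN hD hτ hoy hpy).1
  have hxS1 : x ∈ S1 := mem_cent.mpr (mem_cent.mp hy).symm
  -- a second element
  obtain ⟨y', hy', hy'1, hy'Q, hy'S⟩ : ∃ y' ∈ Q, y' ≠ 1 ∧ Subgroup.centralizer ({y'} : Set G) ≠ Q ∧
      Subgroup.centralizer ({y'} : Set G) ≠ S1 := by
    by_contra hall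
    push Not at hall
    set Z := Q ⊓ Subgroup.centralizer (Q : Set G)
    set Z' := Q ⊓ Subgroup.centralizer (S1 : Set G)
    have hcover : ∀ w ∈ Q, w ∈ Z ∨ w ∈ Z' := by
      intro w hw
      by_cases hw1 : w = 1
      · exact Or.inl (hw1 ▸ one_mem _)
      by_cases e : Subgroup.centralizer ({w} : Set G) = Q
      · exact Or.inl ⟨hw, Subgroup.mem_centralizer_iff.mpr fun a (ha : a ∈ Q) => mem_cent.mp (by rw [e]; exact ha)⟩
      · exact Or.inr ⟨hw, Subgroup.mem_centralizer_iff.mpr fun a (ha : a ∈ S1) =>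
          mem_cent.mp (by rw [hall w hw hw1 e]; exact ha)⟩
    have hcard : Nat.card S1 = Nat.card Q := by rw [hS1c, hQc]
    have hyZ : y ∉ Z := fun h => hne (Subgroup.eq_of_le_of_card_ge
      (fun a ha => mem_cent.mpr (Subgroup.mem_centralizer_iff.mp h.2 a ha)) hcard.le).symm
    have hxZ' : x ∉ Z' := fun h => hne (Subgroup.eq_of_le_of_card_ge
      (fun a ha => mem_cent.mpr (Subgroup.mem_centralizer_iff.mp h.2 a ha)) hcard.ge)
    have hyZ' : y ∈ Z' := (hcover y hy).resolve_left hyZ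
    have hxZ : x ∈ Z := (hcover x (mem_cent_self x)).resolve_right hxZ'
    rcases hcover (x * y) (mul_mem (mem_cent_self x) hy) with h | h
    · exact hyZ (by simpa using mul_mem (inv_mem hxZ) h)
    · exact hxZ' (by simpa using mul_mem h (inv_mem hyZ'))
  set S2 := Subgroup.centralizer ({y'} : Set G) with hS2
  obtain ⟨hoy', hpy'⟩ := c.nonreal_of_cent T hk hN hD hτ hx hx0 hy' hy'1
  have hS2c : Nat.card S2 = 2 * k - 1 := (c.nonreal_card T hk hN hD hτ hoy' hpy').1
  have hxS2 : x ∈ S2 := mem_cent.mpr (mem_cent.mp hy').symm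
  let F : Subgroup G → Finset G := fun S => Finset.univ.filter fun w => w ∈ S
  have hF : ∀ S : Subgroup G, (F S).card = Nat.card S := fun S => by
    rw [Nat.card_eq_fintype_card, Fintype.card_subtype]
  have hFinf : ∀ S S' : Subgroup G, F S ∩ F S' = F (S ⊓ S') := fun S S' => by
    ext w; simp [F]
  have hthird : ∀ S S' : Subgroup G, Nat.card S = 2 * k - 1 → Nat.card S' = 2 * k - 1 → S ≠ S' →
      3 * (F S ∩ F S').card ≤ 2 * k - 1 := by
    intro S S' hS hS' hne'
    rw [hFinf, hF]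
    have := three_le_index ((S ⊓ S').subgroupOf S) (by rw [hS]; exact ⟨k - 1, by omega⟩)
      (fun h => hne' (Subgroup.eq_of_le_of_card_ge
        (le_trans (Subgroup.subgroupOf_eq_top.mp h) inf_le_right) (by rw [hS, hS'])))
    rw [Nat.card_congr (Subgroup.subgroupOfEquivOfLe inf_le_left).toEquiv, hS] at this
    exact this
  have h12 := hthird Q S1 hQc hS1c (Ne.symm hne)
  have h13 := hthird Q S2 hQc hS2c (Ne.symm hy'Q)
  have h23 := hthird S1 S2 hS1c hS2c (Ne.symm hy'S)
  have hbig : 2 * (2 * k - 1) + 1 ≤ (F Q ∪ F S1 ∪ F S2).card := by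
    have e1 := Finset.card_union_add_card_inter (F Q) (F S1)
    have e2 := Finset.card_union_add_card_inter (F Q ∪ F S1) (F S2)
    rw [Finset.union_inter_distrib_right] at e2
    have e3 := Finset.card_union_add_card_inter (F Q ∩ F S2) (F S1 ∩ F S2)
    have e4 : 1 ≤ ((F Q ∩ F S2) ∩ (F S1 ∩ F S2)).card := Finset.card_pos.mpr ⟨1, by simp [F]⟩
    have eQ : (F Q).card = 2 * k - 1 := by rw [hF, hQc]
    have e5 : (F S1).card = 2 * k - 1 := by rw [hF, hS1c]
    have e6 : (F S2).card = 2 * k - 1 := by rw [hF, hS2c]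
    omega
  have hsub : (F Q ∪ F S1 ∪ F S2) \ {1, x} ⊆ Finset.univ.filter (fun w => (c.Outer w ∧ Nat.card (pairs w) = 0) ∧
      c.Outer (w⁻¹ * x) ∧ Nat.card (pairs (w⁻¹ * x)) = 0) := by
    intro w hw
    simp only [Finset.mem_sdiff, Finset.mem_union, Finset.mem_filter, Finset.mem_univ, true_and, F,
      Finset.mem_insert, Finset.mem_singleton, not_or] at hw
    obtain ⟨hmem, hw1, hwx⟩ := hw
    have key : ∀ z : G, c.Outer z → Nat.card (pairs z) = 0 → x ∈ Subgroup.centralizer ({z} : Set G) →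
        w ∈ Subgroup.centralizer ({z} : Set G) → (c.Outer w ∧ Nat.card (pairs w) = 0) ∧
          c.Outer (w⁻¹ * x) ∧ Nat.card (pairs (w⁻¹ * x)) = 0 := fun z hz hz0 hxz hwz =>
      ⟨c.nonreal_of_cent T hk hN hD hτ hz hz0 hwz hw1,
        c.nonreal_of_cent T hk hN hD hτ hz hz0 (mul_mem (inv_mem hwz) hxz)
          (fun e => hwx (inv_mul_eq_one.mp e))⟩
    refine Finset.mem_filter.mpr ⟨Finset.mem_univ _, ?_⟩
    rcases hmem with (h | h) | h
    · exact key x hx hx0 (mem_cent_self x) h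
    · exact key y hoy hpy hxS1 h
    · exact key y' hoy' hpy' hxS2 h
  have hle := Finset.card_le_card hsub
  have hB := T.card_nonreal_products hk hN hD hτ hx hx0
  rw [Nat.card_eq_fintype_card (α := {y : G // _}), Fintype.card_subtype] at hB
  rw [hB, ← hkdef] at hle
  have h2 := Finset.le_card_sdiff ({1, x} : Finset G) (F Q ∪ F S1 ∪ F S2)
  have h3 : ({1, x} : Finset G).card ≤ 2 := Finset.card_le_two
  omega

theorem concl_neg : Conclusion G := by
  obtain ⟨hdich, hcntA, hR⟩ := T.outer_neg hk hN hD hτ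
  set k := Nat.card c.K with hkdef
  have hG := c.card_G_neg hN hk
  rw [← hkdef] at hG
  have hk4 : 4 ≤ k := by
    obtain ⟨j, hj⟩ := c.even_card_K
    omega
  set Rset := {g : G | c.Outer g ∧ Nat.card (pairs g) = 0} with hRset
  have hRcard : Nat.card Rset = 4 * k * (k - 1) := by
    have h : (Nat.card Rset : ℤ) = ((4 * k * (k - 1) : ℕ) : ℤ) := by
      rw [hRset, Set.coe_setOf, hR]
      push_cast [Nat.cast_sub (show 1 ≤ k by omega)]; ring
    exact_mod_cast h
  obtain ⟨⟨x, hx, hx0⟩⟩ : Nonempty Rset := by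
    refine (Nat.card_pos_iff.mp ?_).1
    rw [hRcard]
    exact Nat.mul_pos (by omega) (by omega)
  set Q := Subgroup.centralizer ({x} : Set G) with hQ
  obtain ⟨hQc, hall⟩ := c.nonreal_card T hk hN hD hτ hx hx0
  have hC := c.nonreal_comm T hk hN hD hτ hx hx0
  set N := Subgroup.normalizer (Q : Set G) with hNdef
  have hidx : N.index = 2 * k := by
    have h := (card_ti_conjugates hC Rset (fun y hy h1 v => by
      obtain ⟨a, b⟩ := c.nonreal_of_cent T hk hN hD hτ hx hx0 hy h1
      exact ⟨c.outer_conj a v, (pairs_conj y v).trans b⟩)).2 (fun w hw => by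
      rcases hall w hw.1 hw.2 with e | e
      · obtain ⟨v, hv⟩ := isConj_iff.mp e
        exact ⟨v, x, mem_cent_self x, hx.1, hv⟩
      · obtain ⟨v, hv⟩ := isConj_iff.mp e
        exact ⟨v, x⁻¹, inv_mem (mem_cent_self x), fun e' => hx.1 (inv_eq_one.mp e'), hv⟩)
    rw [hQc, hRcard, ← hNdef] at h
    apply Nat.eq_of_mul_eq_mul_right (show 0 < 2 * k - 1 - 1 by omega)
    rw [h, show 2 * k - 1 - 1 = 2 * (k - 1) by omega]; ring
  have hNcard : Nat.card N = (2 * k - 1) * (k - 1) := by
    have := Subgroup.index_mul_card N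
    rw [hidx, hG] at this
    apply Nat.eq_of_mul_eq_mul_left (show 0 < 2 * k by omega)
    linear_combination this
  set Qn := Q.subgroupOf N with hQn
  have hQle : Q ≤ N := Subgroup.le_normalizer
  have hQnc : Nat.card Qn = 2 * k - 1 := by
    rw [hQn, Nat.card_congr (Subgroup.subgroupOfEquivOfLe hQle).toEquiv, hQc]
  have hQidx : Qn.index = k - 1 := by
    have := Subgroup.index_mul_card Qn
    rw [hQnc, hNcard] at this
    apply Nat.eq_of_mul_eq_mul_right (show 0 < 2 * k - 1 by omega)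
    linear_combination this
  haveI : Qn.Normal := Subgroup.normal_in_normalizer
  obtain ⟨W', hW'⟩ := Subgroup.exists_right_complement'_of_coprime (N := Qn) (by
    rw [hQnc, hQidx]
    have e : 2 * k - 1 = 2 * (k - 1) + 1 := by omega
    rw [e, mul_comm 2 (k - 1)]
    exact (Nat.coprime_mul_left_add_left 1 (k - 1) 2).mpr (Nat.coprime_one_left _))
  set W := W'.map N.subtype with hW
  have hWc : Nat.card W = k - 1 := by
    rw [hW, Subgroup.card_map_of_injective N.subtype_injective, ← hQidx]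
    exact (hW'.symm.index_eq_card).symm
  have hQW : Q ⊓ W = ⊥ := by
    refine (Subgroup.eq_bot_iff_forall _).mpr fun a ⟨haQ, haW⟩ => ?_
    obtain ⟨b, hb, rfl⟩ := haW
    have h0 : b ∈ Qn ⊓ W' := ⟨haQ, hb⟩
    rw [hW'.disjoint.eq_bot, Subgroup.mem_bot] at h0
    rw [h0]; rfl
  have hNsup : N = Q ⊔ W := by
    have h := congrArg (Subgroup.map N.subtype) hW'.sup_eq_top
    rwa [Subgroup.map_sup, hQn, Subgroup.map_subgroupOf_eq_of_le hQle, ← MonoidHom.range_eq_map,
      Subgroup.range_subtype, ← hW, eq_comm] at h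
  have hWodd : Odd (Nat.card W) := by
    rw [hWc]
    obtain ⟨j, hj⟩ := c.even_card_K
    exact ⟨j - 1, by omega⟩
  -- the elements of `W` are real
  have hWel : ∀ w ∈ W, w ≠ 1 → c.Outer w ∧ Nat.card (pairs w) ≠ 0 := by
    intro w hw h1
    have hord : orderOf w ∣ k - 1 := by
      rw [← hWc]
      simpa using orderOf_dvd_natCard (⟨w, hw⟩ : W)
    have hout : c.Outer w := by
      refine ⟨h1, fun ⟨v, y, hy, hy1, e⟩ => hy1 ?_⟩
      have hy' : orderOf y ∣ k := by
        have := orderOf_dvd_natCard (⟨y, hy⟩ : c.K)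
        rwa [Subgroup.orderOf_mk] at this
      rw [e, order_conj] at hord
      have := Nat.dvd_sub hy' hord
      rw [show k - (k - 1) = 1 by omega, Nat.dvd_one, orderOf_eq_one_iff] at this
      exact this
    refine ⟨hout, fun h0 => h1 ?_⟩
    have hself : orderOf w ∣ 2 * k - 1 := by
      rw [← (c.nonreal_card T hk hN hD hτ hout h0).1]
      simpa using orderOf_dvd_natCard (⟨w, mem_cent_self w⟩ : Subgroup.centralizer ({w} : Set G))
    have := Nat.dvd_sub hself (dvd_mul_of_dvd_right hord 2)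
    rw [show 2 * k - 1 - 2 * (k - 1) = 1 by omega, Nat.dvd_one, orderOf_eq_one_iff] at this
    exact this
  obtain ⟨⟨w0, hw0⟩, hw01⟩ : ∃ w : W, w ≠ 1 := by
    haveI : Nontrivial W := Finite.one_lt_card_iff_nontrivial.mp (by omega)
    exact exists_ne 1
  have hw0' : w0 ≠ 1 := fun e => hw01 (Subtype.ext e)
  obtain ⟨hw0o, hw0p⟩ := hWel w0 hw0 hw0'
  obtain ⟨u, hu⟩ := exists_pairs_of_card_ne_zero hw0p
  obtain ⟨hAc, hNAc, hNA⟩ := c.real_data T hk hN hD hτ hw0o hw0p hu
  set A := Subgroup.centralizer ({w0} : Set G) with hA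
  rw [← hkdef] at hAc hNAc
  -- each element of `W` lies in a conjugate of `A`; TI covering
  have hTIW : ∀ w ∈ W, w ≠ 1 → ∀ a ∈ Subgroup.centralizer ({w} : Set G), a ≠ 1 →
      Subgroup.centralizer ({a} : Set G) = Subgroup.centralizer ({w} : Set G) := fun w hw h1 a ha ha1 => by
    obtain ⟨ho, hp⟩ := hWel w hw h1
    obtain ⟨v, hv⟩ := exists_pairs_of_card_ne_zero hp
    exact c.real_TI ho hv ha ha1
  have hnormW : ∀ w ∈ W, w ≠ 1 → ∀ v : W,
      (v : G) ∈ Subgroup.normalizer (Subgroup.centralizer ({w} : Set G) : Set G) →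
      (v : G) ∈ Subgroup.centralizer ({w} : Set G) := by
    intro w hw h1 v hv
    obtain ⟨ho, hp⟩ := hWel w hw h1
    obtain ⟨v', hv'⟩ := exists_pairs_of_card_ne_zero hp
    obtain ⟨hc1, hc2, -⟩ := c.real_data T hk hN hD hτ ho hp hv'
    have hmem : ((v : G)) * (v : G) ∈ Subgroup.centralizer ({w} : Set G) := by
      set C := Subgroup.centralizer ({w} : Set G) with hC'
      set NC := Subgroup.normalizer (C : Set G)
      have hi : (C.subgroupOf NC).index = 2 := by
        have := Subgroup.index_mul_card (C.subgroupOf NC)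
        rw [Nat.card_congr (Subgroup.subgroupOfEquivOfLe (Subgroup.le_normalizer : C ≤ NC)).toEquiv, hc1, hc2]
          at this
        exact Nat.eq_of_mul_eq_mul_right (show 0 < k - 1 by omega) this
      have := Subgroup.mul_self_mem_of_index_two hi ⟨(v : G), hv⟩
      exact this
    obtain ⟨m, hm⟩ := hWodd
    have he : (v : G) = ((v : G) * (v : G)) ^ (m + 1) := by
      have h : (v : G) ^ Nat.card W = 1 := congrArg Subtype.val (pow_card_eq_one' (x := v))
      rw [← sq, ← pow_mul, show 2 * (m + 1) = Nat.card W + 1 by omega, pow_succ, h, one_mul]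
    rw [he]
    exact pow_mem hmem _
  have hcov : ∀ w, w ∈ W → w ≠ 1 →
      ∀ B : Subgroup W, B = (Subgroup.centralizer ({w} : Set G)).subgroupOf W →
      ∃ S : Finset W, S.card + B.index = Nat.card W ∧
        (∀ z, z ∈ S ↔ z ≠ 1 ∧ ∃ v : W, (v⁻¹ * z * v : W) ∈ B) := by
    intro w hw h1 B hB
    haveI := Fintype.ofFinite W
    have hCB : ∀ b : W, b ∈ B → b ≠ 1 → Subgroup.centralizer ({b} : Set W) = B := by
      intro b hb hb1
      ext z
      rw [hB] at hb ⊢
      have e := hTIW w hw h1 (b : G) hb (fun e => hb1 (Subtype.ext e))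
      rw [Subgroup.mem_subgroupOf, ← e, mem_cent, mem_cent, Subtype.ext_iff]
      rfl
    have hnormB : Subgroup.normalizer (B : Set W) = B := by
      refine le_antisymm (fun v hv => ?_) Subgroup.le_normalizer
      have hwB : (⟨w, hw⟩ : W) ∈ B := by rw [hB]; exact mem_cent_self w
      have hc := conj_mem_of_normalizer hv hwB
      rw [hB] at hc ⊢
      refine hnormW w hw h1 v (mem_normalizer_of_ti (hTIW w hw h1) (mem_cent_self w) h1 ?_)
      exact hc
    have hS := card_ti_conjugates hCB {z : W | z ≠ 1 ∧ ∃ v : W, (v⁻¹ * z * v : W) ∈ B}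
      (fun b hb hb1 v => ⟨fun e => hb1 (conj_eq_one_iff.mp e), v, by simpa [mul_assoc] using hb⟩)
    have heq := hS.2 (fun z ⟨hz1, v, hv⟩ => ⟨v, v⁻¹ * z * v, hv, fun e => hz1 (by
      have := congrArg (fun a => v * a * v⁻¹) e
      simpa [mul_assoc] using this), by group⟩)
    rw [hnormB, Nat.card_eq_fintype_card (α := ↥({z : W | _} : Set W))] at heq
    refine ⟨Finset.univ.filter fun z => z ≠ 1 ∧ ∃ v : W, (v⁻¹ * z * v : W) ∈ B, ?_, fun z => by simp⟩
    rw [Fintype.card_subtype] at heq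
    simp only [Set.mem_setOf_eq] at heq
    have h' := Subgroup.index_mul_card B
    have hpos : 0 < Nat.card B := Nat.card_pos
    rw [← h', ← heq]
    nlinarith [Nat.sub_add_cancel (show 1 ≤ Nat.card B from hpos)]
  have hWA : W = A := by
    set B := A.subgroupOf W with hB
    by_cases hBtop : B = ⊤
    · exact Subgroup.eq_of_le_of_card_ge (Subgroup.subgroupOf_eq_top.mp hBtop) (by rw [hWc, hAc])
    exfalso
    haveI := Fintype.ofFinite W
    obtain ⟨S, hS, hSmem⟩ := hcov w0 hw0 hw0' B rfl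
    have hBi : 3 ≤ B.index := by
      obtain ⟨m, hm⟩ := hWodd.of_dvd_nat B.index_dvd_card
      have : B.index ≠ 1 := fun h => hBtop (Subgroup.index_eq_one.mp h)
      omega
    obtain ⟨w, hw⟩ : ∃ w : W, w ∉ insert 1 S := by
      by_contra h
      push Not at h
      have : Finset.univ ⊆ insert (1 : W) S := fun z _ => h z
      have := le_trans (Finset.card_le_card this) (Finset.card_insert_le _ _)
      rw [Finset.card_univ, ← Nat.card_eq_fintype_card] at this
      omega
    simp only [Finset.mem_insert, not_or] at hw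
    have hw1 : (w : G) ≠ 1 := fun e => hw.1 (Subtype.ext e)
    obtain ⟨S', hS', hS'mem⟩ := hcov w.1 w.2 hw1 _ rfl
    set B' := (Subgroup.centralizer ({(w : G)} : Set G)).subgroupOf W with hB'
    have hdisj : Disjoint S S' := Finset.disjoint_left.mpr fun z hz hz' => hw.2 (by
      obtain ⟨hz1, v, hv⟩ := (hSmem z).mp hz
      obtain ⟨-, v', hv'⟩ := (hS'mem z).mp hz'
      have hne : ∀ b : W, ((b⁻¹ * z * b : W) : G) ≠ 1 := fun b e => hz1 (by
        have := congrArg (fun a => b * a * b⁻¹) (Subtype.ext e : (b⁻¹ * z * b : W) = 1)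
        simpa [mul_assoc] using this)
      refine (hSmem w).mpr ⟨hw.1, v'⁻¹ * v, ?_⟩
      -- `w` commutes with a conjugate of an element of `B`
      have h1 : ((v⁻¹ * z * v : W) : G) ∈ Subgroup.centralizer ({w0} : Set G) := hv
      have h2 : ((v'⁻¹ * z * v' : W) : G) ∈ Subgroup.centralizer ({(w : G)} : Set G) := hv'
      have e1 := hTIW w0 hw0 hw0' _ h1 (hne v)
      rw [hB, Subgroup.mem_subgroupOf]
      rw [hA, ← e1]
      refine mem_cent.mpr ?_
      have hcw := mem_cent.mp h2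
      simp only [Subgroup.coe_mul, Subgroup.coe_inv] at hcw ⊢
      calc (((v' : G))⁻¹ * v)⁻¹ * w * ((v' : G)⁻¹ * v) * ((v : G)⁻¹ * z * v)
          = (v : G)⁻¹ * v' * (w * ((v' : G)⁻¹ * z * v')) * ((v' : G)⁻¹ * v) := by group
        _ = (v : G)⁻¹ * v' * (((v' : G)⁻¹ * z * v') * w) * ((v' : G)⁻¹ * v) := by rw [hcw]
        _ = _ := by group)
    have hB'pos : 3 * B'.index ≤ Nat.card W := by
      have := Subgroup.index_mul_card B'
      have h3 : 3 ≤ Nat.card B' := by
        obtain ⟨m, hm⟩ := hWodd.of_dvd_nat (Subgroup.card_subgroup_dvd_card B')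
        have : Nat.card B' ≠ 1 := fun h => by
          have hwB : w ∈ B' := mem_cent_self (w : G)
          rw [Subgroup.card_eq_one.mp h, Subgroup.mem_bot] at hwB
          exact hw.1 hwB
        omega
      nlinarith
    have hBpos : 3 * B.index ≤ Nat.card W := by
      have := Subgroup.index_mul_card B
      have h3 : 3 ≤ Nat.card B := by
        obtain ⟨m, hm⟩ := hWodd.of_dvd_nat (Subgroup.card_subgroup_dvd_card B)
        have : Nat.card B ≠ 1 := fun h => by
          have hwB : (⟨w0, hw0⟩ : W) ∈ B := mem_cent_self w0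
          rw [Subgroup.card_eq_one.mp h, Subgroup.mem_bot] at hwB
          exact hw01 hwB
        omega
      nlinarith
    have htot : (S ∪ S').card ≤ Nat.card W - 1 := by
      have hsub : S ∪ S' ⊆ (Finset.univ : Finset W).erase 1 := fun z hz => by
        rcases Finset.mem_union.mp hz with h | h
        · exact Finset.mem_erase.mpr ⟨((hSmem z).mp h).1, Finset.mem_univ _⟩
        · exact Finset.mem_erase.mpr ⟨((hS'mem z).mp h).1, Finset.mem_univ _⟩
      have := Finset.card_le_card hsub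
      rwa [Finset.card_erase_of_mem (Finset.mem_univ _), Finset.card_univ, ← Nat.card_eq_fintype_card] at this
    rw [Finset.card_union_of_disjoint hdisj] at htot
    omega
  have hNX : ∀ X : Subgroup G, X ≤ A → X ≠ ⊥ → Subgroup.normalizer (X : Set G) = A ⊔ Subgroup.zpowers u := by
    intro X hX hX1
    obtain ⟨⟨y, hy⟩, hy1⟩ := Subgroup.ne_bot_iff_exists_ne_one.mp hX1
    apply le_antisymm
    · intro g hg
      rw [← hNA]
      exact mem_normalizer_of_ti (fun a ha h1 => c.real_TI hw0o hu ha h1) (hX hy)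
        (fun e => hy1 (Subtype.ext e)) (hX (conj_mem_of_normalizer hg hy))
    · have hui := (c.pairs_iff_inverts hw0o hu.1).mp hu
      refine sup_le (fun a ha => ?_) (Subgroup.zpowers_le.mpr (Subgroup.mem_normalizer_iff.mpr fun b => ?_))
      · refine Subgroup.mem_normalizer_iff.mpr fun b => ?_
        constructor
        · intro hb
          rw [c.cent_comm hw0o hu.1 hui a ha b (hX hb), mul_inv_cancel_right]; exact hb
        · intro hb
          have := c.cent_comm hw0o hu.1 hui a⁻¹ (inv_mem ha) _ (hX hb)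
          rw [show a⁻¹ * (a * b * a⁻¹) = b * a⁻¹ by group] at this
          rwa [mul_right_cancel this]
      · refine ⟨fun hb => by rw [c.inverts_cent hw0o hu.1 hui (hX hb)]; exact inv_mem hb, fun hb => ?_⟩
        have h := c.inverts_cent hw0o hu.1 hui (hX hb)
        rw [show u * (u * b * u⁻¹) * u⁻¹ = (u * u) * b * (u * u)⁻¹ by group, sq_of_order hu.1] at h
        simp only [one_mul, inv_one, mul_one] at h
        rw [h]; exact inv_mem hb
  have hui := (c.pairs_iff_inverts hw0o hu.1).mp hu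
  refine ⟨Q, W, ?_, hC, ?_, by rw [hWc, hQc]; omega, hQW, hNsup, fun X hX h1 => ?_⟩
  · rw [hQc, hG, show 2 * k - 1 + 1 = 2 * k by omega, show 2 * k - 1 - 1 = 2 * (k - 1) by omega]; ring
  · refine ⟨⟨fun a b => Subtype.ext (c.cent_comm hw0o hu.1 hui _ ?_ _ ?_)⟩⟩
    · show (a : G) ∈ A
      rw [← hWA]; exact a.2
    · show (b : G) ∈ A
      rw [← hWA]; exact b.2
  · rw [hWA] at hX ⊢
    refine ⟨by rw [hNX X hX h1, hNA], u, hu.1, fun h => ?_, fun d hd => c.inverts_cent hw0o hu.1 hui hd, hNA⟩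
    exact c.outer_commute_involution_false hw0o hu.1 (mem_cent.mp h).symm

end neg

/-- The theorem for `|K| > 2`. -/
theorem conclusion_of_two_lt [Fintype G] (c : Config G) (hk : 2 < Nat.card c.K) : Conclusion G := by
  obtain ⟨T⟩ := c.exists_table hk
  obtain ⟨ε, hε, h1, h2, h3⟩ := T.exists_eps hk
  rcases hε with rfl | rfl
  · exact c.concl_pos T hk h1 h2 h3
  · exact c.concl_neg T hk h1 h2 h3

end Config

end Cfsg.Agent.BSW
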