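import Cfsg.Agent.Lib.BSW.Coef
import Mathlib.Tactic.FieldSimp
import Mathlib.Tactic.LinearCombination

/-!
Brauer–Suzuki–Wall, `|K| > 2`: the characters meeting `Ind_K^G (1 - λ)`, the order of `G`, and the values needed
for counting.
-/

set_option autoImplicit false
set_option linter.style.haveILetI false

namespace Cfsg.Agent.BSW

open scoped ComplexConjugate
open Char

attribute [local instance] Classical.propDecidable

universe u

variable {G : Type u} [Group G] [Fintype G]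

theorem card_eq_one_of_sum {ι : Type*} (s : Finset ι) (f : ι → ℤ) (h1 : ∀ i ∈ s, f i = 1 ∨ f i = -1)
    (hc : s.card ≤ 2) (hs : ∑ i ∈ s, f i = 1) : ∃ a, s = {a} ∧ f a = 1 := by
  rcases Nat.lt_or_ge s.card 2 with h | h
  · rcases Nat.lt_or_ge s.card 1 with h' | h'
    · rw [Finset.card_eq_zero.mp (Nat.lt_one_iff.mp h'), Finset.sum_empty] at hs; omega
    · obtain ⟨a, rfl⟩ := Finset.card_eq_one.mp (show s.card = 1 by omega)
      exact ⟨a, rfl, by simpa using hs⟩
  · obtain ⟨a, b, hab, rfl⟩ := Finset.card_eq_two.mp (show s.card = 2 by omega)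
    rw [Finset.sum_pair hab] at hs
    rcases h1 a (by simp) with ha | ha <;> rcases h1 b (by simp) with hb | hb <;> omega

namespace Config

variable (c : Config G)

/-- The nontrivial constituents of `Ind_K^G (1 - λ)`. -/
noncomputable def supp (lam : IrrCharacter c.K) : Finset (IrrCharacter G) :=
  (Finset.univ.erase (trivialChar G)).filter fun chi => c.cz chi lam ≠ 0

theorem mem_supp {chi : IrrCharacter G} {lam : IrrCharacter c.K} :
    chi ∈ c.supp lam ↔ chi ≠ trivialChar G ∧ c.cz chi lam ≠ 0 := by simp [supp]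

theorem sum_split (lam : IrrCharacter c.K) (hl : lam ≠ trivialChar c.K) {R : Type*} [Ring R]
    (f : IrrCharacter G → R) :
    ∑ chi : IrrCharacter G, (c.cz chi lam : R) * f chi =
      f (trivialChar G) + ∑ chi ∈ c.supp lam, (c.cz chi lam : R) * f chi := by
  rw [← Finset.add_sum_erase _ _ (Finset.mem_univ (trivialChar G)), c.cz_triv lam hl, Int.cast_one, one_mul]
  congr 1
  rw [supp, Finset.sum_filter_of_ne]
  intro chi _ h h0
  rw [h0] at h
  simp at h

theorem sum_supp_mul (lam nu : IrrCharacter c.K) (hl : lam ≠ trivialChar c.K) (hn : nu ≠ trivialChar c.K) :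
    ∑ chi ∈ c.supp lam, c.cz chi lam * c.cz chi nu =
      1 + (if lam = nu then 1 else 0) + (if lam = conjIrr nu then 1 else 0) := by
  have h := c.sum_cz_mul lam nu hl hn
  have h2 := c.sum_split lam hl (R := ℤ) (fun chi => c.cz chi nu)
  simp only [Int.cast_id, c.cz_triv nu hn] at h2
  rw [h2] at h
  linarith

theorem cz_sign (lam : IrrCharacter c.K) (hl : lam ≠ trivialChar c.K) {chi : IrrCharacter G}
    (h : chi ∈ c.supp lam) : c.cz chi lam = 1 ∨ c.cz chi lam = -1 := by
  have hs := c.sum_supp_mul lam lam hl hl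
  have h1 : c.cz chi lam * c.cz chi lam ≤ ∑ chi ∈ c.supp lam, c.cz chi lam * c.cz chi lam :=
    Finset.single_le_sum (fun i _ => mul_self_nonneg (c.cz i lam)) h
  rw [hs, if_pos rfl] at h1
  have h2 := (c.mem_supp.mp h).2
  have h3 : c.cz chi lam * c.cz chi lam ≤ 3 := by split_ifs at h1 <;> omega
  have h4 : -1 ≤ c.cz chi lam ∧ c.cz chi lam ≤ 1 := by constructor <;> nlinarith
  omega

theorem card_supp (lam : IrrCharacter c.K) (hl : lam ≠ trivialChar c.K) :
    ((c.supp lam).card : ℤ) = 2 + (if lam = conjIrr lam then 1 else 0) := by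
  have hs := c.sum_supp_mul lam lam hl hl
  rw [if_pos rfl] at hs
  have : ∑ chi ∈ c.supp lam, c.cz chi lam * c.cz chi lam = ∑ chi ∈ c.supp lam, (1 : ℤ) :=
    Finset.sum_congr rfl fun chi h => by rcases c.cz_sign lam hl h with e | e <;> rw [e] <;> norm_num
  rw [this, Finset.sum_const, nsmul_eq_mul, mul_one] at hs
  omega

theorem card_supp_mu : (c.supp c.mu).card = 3 := by
  have := c.card_supp c.mu c.mu_spec.1
  rw [if_pos c.mu_spec.2.symm] at this
  omega

theorem card_supp_NR {lam : IrrCharacter c.K} (h : c.NR lam) : (c.supp lam).card = 2 := by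
  have := c.card_supp lam (NR.ne_triv c h)
  rw [if_neg (Ne.symm h)] at this
  omega

theorem inter_supp {lam nu : IrrCharacter c.K} (h : c.NR lam) (hn : nu ≠ trivialChar c.K)
    (h1 : lam ≠ nu) (h2 : lam ≠ conjIrr nu) :
    ∃ a, c.supp lam ∩ c.supp nu = {a} ∧ c.cz a lam = c.cz a nu := by
  have hl := NR.ne_triv c h
  have hs := c.sum_supp_mul lam nu hl hn
  rw [if_neg h1, if_neg h2] at hs
  have hsum : ∑ chi ∈ c.supp lam ∩ c.supp nu, c.cz chi lam * c.cz chi nu = 1 := by
    rw [Finset.sum_subset (Finset.inter_subset_left) (fun chi hc hnot => ?_), hs]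
    · norm_num
    · have : c.cz chi nu = 0 := by
        by_contra h0
        exact hnot (Finset.mem_inter.mpr ⟨hc, c.mem_supp.mpr ⟨(c.mem_supp.mp hc).1, h0⟩⟩)
      rw [this, mul_zero]
  obtain ⟨a, ha, hfa⟩ := card_eq_one_of_sum _ _ (fun i hi => by
      obtain ⟨hil, hin⟩ := Finset.mem_inter.mp hi
      rcases c.cz_sign lam hl hil with e | e <;> rcases c.cz_sign nu hn hin with e' | e' <;>
        rw [e, e'] <;> norm_num)
    (le_trans (Finset.card_le_card Finset.inter_subset_left) (le_of_eq (c.card_supp_NR h))) hsum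
  refine ⟨a, ha, ?_⟩
  have hi : a ∈ c.supp lam ∩ c.supp nu := by rw [ha]; simp
  obtain ⟨hil, hin⟩ := Finset.mem_inter.mp hi
  rcases c.cz_sign lam hl hil with e | e <;> rcases c.cz_sign nu hn hin with e' | e' <;>
    rw [e, e'] at hfa ⊢ <;> omega

/-- The two constituents of `Ind_K^G (1 - λ)`. -/
theorem supp_structure {lam : IrrCharacter c.K} (h : c.NR lam) :
    ∃ C X, c.supp lam = {C, X} ∧ C ≠ X ∧ C ∈ c.supp c.mu ∧ X ∉ c.supp c.mu ∧ c.cz C lam = c.cz C c.mu := by
  obtain ⟨C, hC, hsgn⟩ := c.inter_supp h c.mu_spec.1 (NR.ne_mu c h)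
    (by rw [c.mu_spec.2]; exact NR.ne_mu c h)
  have hCi : C ∈ c.supp lam ∩ c.supp c.mu := by rw [hC]; simp
  obtain ⟨hCl, hCm⟩ := Finset.mem_inter.mp hCi
  obtain ⟨X, hX⟩ := Finset.card_eq_one.mp (show ((c.supp lam).erase C).card = 1 by
    rw [Finset.card_erase_of_mem hCl, c.card_supp_NR h])
  have hXm : X ∈ (c.supp lam).erase C := by rw [hX]; simp
  refine ⟨C, X, ?_, ?_, hCm, fun hm => ?_, hsgn⟩
  · rw [← Finset.insert_erase hCl, hX]
  · exact (Finset.ne_of_mem_erase hXm).symm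
  · have : X ∈ c.supp lam ∩ c.supp c.mu := Finset.mem_inter.mpr ⟨Finset.mem_of_mem_erase hXm, hm⟩
    rw [hC, Finset.mem_singleton] at this
    exact Finset.ne_of_mem_erase hXm this

theorem exists_NR (hk : 2 < Nat.card c.K) : ∃ lam, c.NR lam := by
  by_contra h
  push Not at h
  have hsub : (Finset.univ : Finset (IrrCharacter c.K)) ⊆ {trivialChar c.K, c.mu} := fun lam _ => by
    rcases c.cases_lam lam with e | e | e
    · simp [e]
    · simp [e]
    · exact absurd e (h lam)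
  have := le_trans (Finset.card_le_card hsub) Finset.card_le_two
  rw [Finset.card_univ, c.card_lam] at this
  omega

/-- The non-real linear characters. -/
noncomputable def nrSet : Finset (IrrCharacter c.K) := Finset.univ.filter fun lam => c.NR lam

theorem mem_nrSet {lam : IrrCharacter c.K} : lam ∈ c.nrSet ↔ c.NR lam := by simp [nrSet]

theorem sum_lam_split {R : Type*} [AddCommMonoid R] (f : IrrCharacter c.K → R) :
    ∑ lam : IrrCharacter c.K, f lam = f (trivialChar c.K) + (f c.mu + ∑ lam ∈ c.nrSet, f lam) := by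
  rw [← Finset.add_sum_erase _ _ (Finset.mem_univ (trivialChar c.K)),
    ← Finset.add_sum_erase _ _ (Finset.mem_erase.mpr ⟨c.mu_spec.1, Finset.mem_univ _⟩)]
  congr 2
  refine Finset.sum_congr ?_ fun _ _ => rfl
  ext lam
  simp only [Finset.mem_erase, Finset.mem_univ, and_true, mem_nrSet]
  constructor
  · rintro ⟨h1, h2⟩
    rcases c.cases_lam lam with e | e | e
    · exact absurd e h2
    · exact absurd e h1
    · exact e
  · exact fun h => ⟨NR.ne_mu c h, NR.ne_triv c h⟩

theorem card_nrSet : (c.nrSet.card : ℤ) = (Nat.card c.K : ℤ) - 2 := by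
  have h := c.sum_lam_split (fun _ => (1 : ℤ))
  simp only [Finset.sum_const, nsmul_eq_mul, mul_one, Finset.card_univ, c.card_lam] at h
  omega

theorem sum_pair_supp {lam : IrrCharacter c.K} (hl : lam ≠ trivialChar c.K) {C X : IrrCharacter G}
    (hs : c.supp lam = {C, X}) (hne : C ≠ X) {R : Type*} [Ring R] (f : IrrCharacter G → R) :
    ∑ chi : IrrCharacter G, (c.cz chi lam : R) * f chi =
      f (trivialChar G) + ((c.cz C lam : R) * f C + (c.cz X lam : R) * f X) := by
  rw [c.sum_split lam hl, hs, Finset.sum_pair hne]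

theorem degree_sum (lam : IrrCharacter c.K) :
    ∑ chi : IrrCharacter G, (c.cz chi lam : ℂ) * chi.1 1 = 0 := by rw [c.sum_cz_apply, c.alpha_one]

theorem degree_eq {lam : IrrCharacter c.K} (h : c.NR lam) {C X : IrrCharacter G}
    (hs : c.supp lam = {C, X}) (hne : C ≠ X) :
    (c.cz C lam : ℂ) * C.1 1 + (c.cz X lam : ℂ) * X.1 1 = -1 := by
  have := c.degree_sum lam
  rw [c.sum_pair_supp (NR.ne_triv c h) hs hne (fun chi => chi.1 1), trivialChar_apply] at this
  linear_combination this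

theorem conj_apply_t (lam : IrrCharacter c.K) :
    (conjIrr lam).1 ⟨c.t, c.htK⟩ = lam.1 ⟨c.t, c.htK⟩ := by
  rw [conjIrr_apply]
  rcases c.lam_t lam with e | e <;> rw [e] <;> simp

theorem C_unique {lam nu : IrrCharacter c.K} (hl : c.NR lam) (hn : c.NR nu) {C X C' X' : IrrCharacter G}
    (hs : c.supp lam = {C, X}) (hCX : C ≠ X) (hCm : C ∈ c.supp c.mu) (hXm : X ∉ c.supp c.mu)
    (hs' : c.supp nu = {C', X'}) (hCX' : C' ≠ X') (hCm' : C' ∈ c.supp c.mu) (hXm' : X' ∉ c.supp c.mu)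
    (h1 : lam ≠ nu) (h2 : lam ≠ conjIrr nu) :
    (C = C' → X ≠ X') ∧ (C ≠ C' → X = X' ∧ c.cz X lam = c.cz X nu) := by
  obtain ⟨a, ha, hsg⟩ := c.inter_supp hl (NR.ne_triv c hn) h1 h2
  have hmem : ∀ w, (w = C ∨ w = X) → (w = C' ∨ w = X') → w = a := fun w hw hw' => by
    have : w ∈ c.supp lam ∩ c.supp nu := by rw [hs, hs']; simp [hw, hw']
    rw [ha] at this
    simpa using this
  have hai : a ∈ c.supp lam ∩ c.supp nu := by rw [ha]; simp
  rw [hs, hs'] at hai
  simp only [Finset.mem_inter, Finset.mem_insert, Finset.mem_singleton] at hai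
  refine ⟨fun e e' => hCX ((hmem C (Or.inl rfl) (Or.inl e)).trans (hmem X (Or.inr rfl) (Or.inr e')).symm),
    fun hne => ?_⟩
  obtain ⟨a1 | a1, a2 | a2⟩ := hai
  · exact absurd (a1.symm.trans a2) hne
  · exact absurd (a1.symm.trans a2 ▸ hCm) hXm'
  · exact absurd (a2.symm.trans a1 ▸ hCm') hXm
  · exact ⟨a1.symm.trans a2, a1 ▸ hsg⟩

/-- All the functions `Ind_K^G (1 - λ)` share one nontrivial constituent. -/
theorem C_eq {lam nu : IrrCharacter c.K} (hl : c.NR lam) (hn : c.NR nu) {C X C' X' : IrrCharacter G}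
    (hs : c.supp lam = {C, X}) (hCX : C ≠ X) (hCm : C ∈ c.supp c.mu) (hXm : X ∉ c.supp c.mu)
    (hs' : c.supp nu = {C', X'}) (hCX' : C' ≠ X') (hCm' : C' ∈ c.supp c.mu) (hXm' : X' ∉ c.supp c.mu) :
    C = C' := by
  by_contra hne
  have hsupp_conj : ∀ rho, c.supp (conjIrr rho) = c.supp rho := fun rho => by
    ext chi; simp [mem_supp, c.cz_conj]
  -- the class of a non-real character is determined by the constituent in `supp μ`
  have same : ∀ {r1 r2 : IrrCharacter c.K} {A B A' B' : IrrCharacter G}, (r1 = r2 ∨ r1 = conjIrr r2) →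
      c.supp r1 = {A, B} → A ∈ c.supp c.mu → B ∉ c.supp c.mu →
      c.supp r2 = {A', B'} → A' ∈ c.supp c.mu → B' ∉ c.supp c.mu → A = A' ∧ B = B' := by
    intro r1 r2 A B A' B' hr hA hAm hBm hA' hAm' hBm'
    have he : ({A, B} : Finset _) = {A', B'} := by
      rw [← hA, ← hA']; rcases hr with rfl | rfl
      · rfl
      · exact hsupp_conj r2
    have m1 : A ∈ ({A', B'} : Finset _) := by rw [← he]; simp
    have m2 : B ∈ ({A', B'} : Finset _) := by rw [← he]; simp
    simp only [Finset.mem_insert, Finset.mem_singleton] at m1 m2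
    rcases m1 with m1 | m1
    · rcases m2 with m2 | m2
      · exact absurd (m2 ▸ hAm') hBm
      · exact ⟨m1, m2⟩
    · exact absurd (m1 ▸ hAm) hBm'
  have hcl : lam ≠ nu ∧ lam ≠ conjIrr nu := by
    constructor <;> intro e
    · exact hne (same (Or.inl e) hs hCm hXm hs' hCm' hXm').1
    · exact hne (same (Or.inr e) hs hCm hXm hs' hCm' hXm').1
  obtain ⟨hXX, hrr⟩ := (c.C_unique hl hn hs hCX hCm hXm hs' hCX' hCm' hXm' hcl.1 hcl.2).2 hne
  -- every other character has the same second constituent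
  have hall : ∀ rho, c.NR rho → ∀ A B, c.supp rho = {A, B} → A ≠ B → A ∈ c.supp c.mu → B ∉ c.supp c.mu →
      B = X := by
    intro rho hrho A B hA hAB hAm hBm
    by_cases e : rho = lam ∨ rho = conjIrr lam
    · exact (same e hA hAm hBm hs hCm hXm).2
    by_cases e' : rho = nu ∨ rho = conjIrr nu
    · exact (same e' hA hAm hBm hs' hCm' hXm').2.trans hXX.symm
    push Not at e e'
    have u1 := c.C_unique hrho hl hA hAB hAm hBm hs hCX hCm hXm e.1 e.2
    have u2 := c.C_unique hrho hn hA hAB hAm hBm hs' hCX' hCm' hXm' e'.1 e'.2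
    by_cases hA1 : A = C
    · have := (u2.2 (fun h => hne (hA1.symm.trans h))).1
      exact this.trans hXX.symm
    · exact (u1.2 hA1).1
  set tt : c.K := ⟨c.t, c.htK⟩
  -- value at `t` of the constituent in `supp μ`
  have hval : ∀ rho, c.NR rho → ∀ A B, c.supp rho = {A, B} → A ≠ B → A ∈ c.supp c.mu → B ∉ c.supp c.mu →
      c.cz A rho = c.cz A c.mu →
      A.1 c.t = -((c.cz A rho : ℂ) * (2 * rho.1 tt + c.mu.1 tt)) := by
    intro rho hrho A B hA hAB hAm hBm hsg
    rw [c.apply_of_mem A c.htK c.t_ne, c.sum_lam_split, c.cz_triv_right, Int.cast_zero, zero_mul, zero_add,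
      ← hsg]
    congr 1
    have hz : ∑ r ∈ c.nrSet, (c.cz A r : ℂ) * r.1 tt = ∑ r ∈ ({rho, conjIrr rho} : Finset _),
        (c.cz A r : ℂ) * r.1 tt := by
      symm
      apply Finset.sum_subset
      · intro r hr
        simp only [Finset.mem_insert, Finset.mem_singleton] at hr
        rcases hr with rfl | rfl
        · exact c.mem_nrSet.mpr hrho
        · exact c.mem_nrSet.mpr (NR.conj c hrho)
      · intro r hr hnot
        simp only [Finset.mem_insert, Finset.mem_singleton, not_or] at hnot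
        suffices c.cz A r = 0 by rw [this]; simp
        by_contra h0
        have hr' := c.mem_nrSet.mp hr
        obtain ⟨A', B', hA', hAB', hAm', hBm', -⟩ := c.supp_structure hr'
        have hAr : A ∈ c.supp r := c.mem_supp.mpr ⟨(c.mem_supp.mp hAm).1, h0⟩
        rw [hA'] at hAr
        simp only [Finset.mem_insert, Finset.mem_singleton] at hAr
        rcases hAr with hAr | hAr
        · exact (c.C_unique hr' hrho hA' hAB' hAm' hBm' hA hAB hAm hBm hnot.1 hnot.2).1 hAr.symm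
            ((hall r hr' A' B' hA' hAB' hAm' hBm').trans (hall rho hrho A B hA hAB hAm hBm).symm)
        · exact hBm' (hAr ▸ hAm)
    rw [hz, Finset.sum_pair (Ne.symm hrho), c.cz_conj, c.conj_apply_t]
    ring
  -- all non-real characters take the same value at `t`
  have heq : ∀ rho, c.NR rho → rho.1 tt = lam.1 tt := by
    have key : ∀ r1 r2, c.NR r1 → c.NR r2 → ∀ A B A', c.supp r1 = {A, B} → A ≠ B → A ∈ c.supp c.mu →
        B ∉ c.supp c.mu → c.supp r2 = {A', B} → A' ≠ B → A' ∈ c.supp c.mu →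
        c.cz A r1 = c.cz A c.mu → c.cz A' r2 = c.cz A' c.mu → c.cz B r1 = c.cz B r2 → r1.1 tt = r2.1 tt := by
      intro r1 r2 hr1 hr2 A B A' hA hAB hAm hBm hA' hAB' hAm' sg1 sg2 sgB
      have v1 := hval r1 hr1 A B hA hAB hAm hBm sg1
      have v2 := hval r2 hr2 A' B hA' hAB' hAm' hBm sg2
      have d1 := c.degree_eq hr1 hA hAB
      have d2 := c.degree_eq hr2 hA' hAB'
      have s1 := c.star r1 (NR.ne_triv c hr1)
      have s2 := c.star r2 (NR.ne_triv c hr2)
      simp only [mul_div_assoc] at s1 s2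
      rw [c.sum_pair_supp (NR.ne_triv c hr1) hA hAB] at s1
      rw [c.sum_pair_supp (NR.ne_triv c hr2) hA' hAB'] at s2
      have hN : (c.numInv : ℂ) ^ 2 / Nat.card G ≠ 0 := by
        intro h0; rw [h0, zero_mul] at s1
        exact card_ne_zero s1.symm
      have hs12 := mul_left_cancel₀ hN (s1.trans s2.symm)
      rw [← sgB] at hs12 d2
      have hd : (c.cz A r1 : ℂ) * A.1 1 = (c.cz A' r2 : ℂ) * A'.1 1 := by linear_combination d1 - d2
      have hA1 := IsIrrCharacter.apply_one_ne_zero A.2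
      have hA1' := IsIrrCharacter.apply_one_ne_zero A'.2
      have h3 : (c.cz A r1 : ℂ) * (A.1 c.t ^ 2 / A.1 1) = (c.cz A' r2 : ℂ) * (A'.1 c.t ^ 2 / A'.1 1) := by
        linear_combination hs12
      have q1 : ((c.cz A r1 : ℂ)) ^ 2 = 1 := by
        rcases c.cz_sign r1 (NR.ne_triv c hr1) (show A ∈ c.supp r1 by rw [hA]; simp) with e | e <;>
          simp [e]
      have q2 : ((c.cz A' r2 : ℂ)) ^ 2 = 1 := by
        rcases c.cz_sign r2 (NR.ne_triv c hr2) (show A' ∈ c.supp r2 by rw [hA']; simp) with e | e <;>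
          simp [e]
      have hsq : ∀ (q w d : ℂ), q ^ 2 = 1 → d ≠ 0 → q * ((-(q * w)) ^ 2 / d) = w ^ 2 / (q * d) := by
        intro q w d hq hd'
        have hq0 : q ≠ 0 := fun h0 => by rw [h0] at hq; simp at hq
        calc q * ((-(q * w)) ^ 2 / d) = (q ^ 2) ^ 2 * w ^ 2 / (q * d) := by field_simp
          _ = w ^ 2 / (q * d) := by rw [hq]; ring
      rw [v1, v2, hsq _ _ _ q1 hA1, hsq _ _ _ q2 hA1', ← hd] at h3
      have hne0 : (c.cz A r1 : ℂ) * A.1 1 ≠ 0 :=
        mul_ne_zero (fun h0 => by rw [h0] at q1; simp at q1) hA1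
      rw [div_left_inj' hne0] at h3
      rcases c.lam_t r1 with a | a <;> rcases c.lam_t r2 with b | b <;> rcases c.lam_t c.mu with m | m <;>
        rw [a, b] <;> rw [a, b, m] at h3 <;> norm_num at h3
    intro rho hrho
    by_cases e : rho = lam ∨ rho = conjIrr lam
    · rcases e with rfl | rfl
      · rfl
      · exact c.conj_apply_t lam
    push Not at e
    obtain ⟨A, B, hA, hAB, hAm, hBm, hsg⟩ := c.supp_structure hrho
    have hBX := hall rho hrho A B hA hAB hAm hBm
    subst hBX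
    have u1 := c.C_unique hrho hl hA hAB hAm hBm hs hCX hCm hXm e.1 e.2
    have hAC : A ≠ C := fun h => u1.1 h rfl
    have hsgC : c.cz C lam = c.cz C c.mu := by
      obtain ⟨C₀, X₀, h₀, -, h₀m, h₀n, hsg₀⟩ := c.supp_structure hl
      rw [(same (Or.inl rfl) hs hCm hXm h₀ h₀m h₀n).1]; exact hsg₀
    exact key rho lam hrho hl A B C hA hAB hAm hBm hs hCX hCm hsg hsgC (u1.2 hAC).2
  have h4 : 4 ≤ c.nrSet.card := by
    have hsub : ({lam, conjIrr lam, nu, conjIrr nu} : Finset _) ⊆ c.nrSet := by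
      intro r hr
      simp only [Finset.mem_insert, Finset.mem_singleton] at hr
      rcases hr with rfl | rfl | rfl | rfl
      · exact c.mem_nrSet.mpr hl
      · exact c.mem_nrSet.mpr (NR.conj c hl)
      · exact c.mem_nrSet.mpr hn
      · exact c.mem_nrSet.mpr (NR.conj c hn)
    refine le_trans (le_of_eq ?_) (Finset.card_le_card hsub)
    have a1 : lam ≠ conjIrr lam := Ne.symm hl
    have a2 : nu ≠ conjIrr nu := Ne.symm hn
    have a3 : conjIrr lam ≠ nu := fun e => hcl.2 (by rw [← e, conjIrr_conjIrr])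
    have a4 : conjIrr lam ≠ conjIrr nu := fun e => hcl.1 (by
      rw [← conjIrr_conjIrr lam, e, conjIrr_conjIrr])
    rw [Finset.card_insert_of_notMem (by simp [a1, hcl.1, hcl.2]),
      Finset.card_insert_of_notMem (by simp [a3, a4]),
      Finset.card_insert_of_notMem (by simp [a2]), Finset.card_singleton]
  have hsum := c.sum_lam tt
  rw [if_neg (fun e => c.t_ne (congrArg Subtype.val e)), c.sum_lam_split, trivialChar_apply,
    Finset.sum_congr rfl (fun r hr => heq r (c.mem_nrSet.mp hr)), Finset.sum_const, nsmul_eq_mul] at hsum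
  set N0 : ℕ := c.nrSet.card with hN0
  rcases c.lam_t lam with v | v <;> rcases c.lam_t c.mu with m | m <;> rw [v, m] at hsum
  · have h0 : ((N0 + 2 : ℕ) : ℂ) = ((0 : ℕ) : ℂ) := by push_cast; linear_combination hsum
    have := Nat.cast_injective h0; omega
  · have h0 : ((N0 : ℕ) : ℂ) = ((0 : ℕ) : ℂ) := by push_cast; linear_combination hsum
    have := Nat.cast_injective h0; omega
  · have h0 : ((N0 : ℕ) : ℂ) = ((2 : ℕ) : ℂ) := by push_cast; linear_combination -hsum
    have := Nat.cast_injective h0; omega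
  · have h0 : ((N0 : ℕ) : ℂ) = ((0 : ℕ) : ℂ) := by push_cast; linear_combination -hsum
    have := Nat.cast_injective h0; omega

/-- The common constituent of the functions `Ind_K^G (1 - λ)`. -/
structure Table (c : Config G) where
  C : IrrCharacter G
  s : ℤ
  hs : s = 1 ∨ s = -1
  hC : C ≠ trivialChar G
  hCl : ∀ lam, lam ≠ trivialChar c.K → c.cz C lam = s
  hX : ∀ lam, c.NR lam → ∃ X, c.supp lam = {C, X} ∧ C ≠ X ∧ c.cz X c.mu = 0 ∧
    ∀ nu, c.NR nu → nu ≠ lam → nu ≠ conjIrr lam → c.cz X nu = 0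

theorem exists_table (hk : 2 < Nat.card c.K) : Nonempty (Table c) := by
  obtain ⟨l0, h0⟩ := c.exists_NR hk
  obtain ⟨C, X0, hs0, hne0, hCm, hXm0, hsg0⟩ := c.supp_structure h0
  refine ⟨⟨C, c.cz C c.mu, c.cz_sign c.mu c.mu_spec.1 hCm, (c.mem_supp.mp hCm).1, ?_, ?_⟩⟩
  · intro lam hl
    rcases c.cases_lam lam with e | e | e
    · exact absurd e hl
    · rw [e]
    · obtain ⟨A, B, hA, hAB, hAm, hBm, hsg⟩ := c.supp_structure e
      have := c.C_eq h0 e hs0 hne0 hCm hXm0 hA hAB hAm hBm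
      subst this
      exact hsg
  · intro lam hl
    obtain ⟨A, B, hA, hAB, hAm, hBm, -⟩ := c.supp_structure hl
    have hAC := c.C_eq h0 hl hs0 hne0 hCm hXm0 hA hAB hAm hBm
    subst hAC
    have hB1 : B ≠ trivialChar G := (c.mem_supp.mp (show B ∈ c.supp lam by rw [hA]; simp)).1
    refine ⟨B, hA, hAB, ?_, fun nu hnu h1 h2 => ?_⟩
    · by_contra hz; exact hBm (c.mem_supp.mpr ⟨hB1, hz⟩)
    · by_contra hz
      obtain ⟨A', B', hA', hAB', hAm', hBm', -⟩ := c.supp_structure hnu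
      have hAC := c.C_eq h0 hnu hs0 hne0 hCm hXm0 hA' hAB' hAm' hBm'
      subst hAC
      have hB : B ∈ c.supp nu := c.mem_supp.mpr ⟨hB1, hz⟩
      rw [hA'] at hB
      simp only [Finset.mem_insert, Finset.mem_singleton] at hB
      rcases hB with hB | hB
      · exact hAB hB.symm
      · exact (c.C_unique hnu hl hA' hAB' hAm' hBm' hA hAB hAm hBm h1 h2).1 rfl hB.symm

namespace Table

variable {c} (T : Table c)

/-- The signed common constituent. -/
noncomputable def P (g : G) : ℂ := (T.s : ℂ) * T.C.1 g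

theorem s_sq : (T.s : ℂ) * T.s = 1 := by rcases T.hs with e | e <;> simp [e]

theorem s_ne : (T.s : ℤ) ≠ 0 := by rcases T.hs with e | e <;> rw [e] <;> norm_num

theorem C_mem_supp {lam : IrrCharacter c.K} (hl : lam ≠ trivialChar c.K) : T.C ∈ c.supp lam :=
  c.mem_supp.mpr ⟨T.hC, by rw [T.hCl lam hl]; exact T.s_ne⟩

theorem isClassFunction_P : IsClassFunction G T.P := fun g h => by
  simp only [P, IsCharacter.isClassFunction (irr_isCharacter T.C) g h]

theorem sum_cz_C (f : IrrCharacter c.K → ℂ) :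
    ∑ lam : IrrCharacter c.K, (c.cz T.C lam : ℂ) * f lam =
      (T.s : ℂ) * (∑ lam : IrrCharacter c.K, f lam - f (trivialChar c.K)) := by
  rw [c.sum_lam_split (fun lam => (c.cz T.C lam : ℂ) * f lam), c.sum_lam_split f, c.cz_triv_right,
    T.hCl c.mu c.mu_spec.1, Int.cast_zero, zero_mul, zero_add, add_sub_cancel_left, mul_add, Finset.mul_sum]
  congr 1
  exact Finset.sum_congr rfl fun lam h => by rw [T.hCl lam (NR.ne_triv c (c.mem_nrSet.mp h))]

theorem P_of_mem {x : G} (hx : x ∈ c.K) (h1 : x ≠ 1) : T.P x = 1 := by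
  rw [P, c.apply_of_mem T.C hx h1, T.sum_cz_C (fun lam => lam.1 ⟨x, hx⟩), c.sum_lam,
    if_neg (fun e => h1 (congrArg Subtype.val e)), trivialChar_apply]
  linear_combination T.s_sq

theorem P_KType {g : G} (hg : c.KType g) : T.P g = 1 := by
  obtain ⟨h, x, hx, h1, rfl⟩ := hg
  rw [T.isClassFunction_P x h]
  exact T.P_of_mem hx h1

/-- The constituents of `Ind_K^G (1 - μ)` other than `1` and `C`. -/
noncomputable def Θ : Finset (IrrCharacter G) := (c.supp c.mu).erase T.C

theorem card_Θ : T.Θ.card = 2 := by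
  rw [Θ, Finset.card_erase_of_mem (T.C_mem_supp c.mu_spec.1), c.card_supp_mu]

theorem Θ_cz {th : IrrCharacter G} (h : th ∈ T.Θ) :
    (c.cz th c.mu = 1 ∨ c.cz th c.mu = -1) ∧ ∀ lam, c.NR lam → c.cz th lam = 0 := by
  obtain ⟨hne, hm⟩ := Finset.mem_erase.mp h
  refine ⟨c.cz_sign c.mu c.mu_spec.1 hm, fun lam hl => ?_⟩
  by_contra h0
  obtain ⟨X, hs, -, hXm, -⟩ := T.hX lam hl
  have : th ∈ c.supp lam := c.mem_supp.mpr ⟨(c.mem_supp.mp hm).1, h0⟩
  rw [hs] at this
  simp only [Finset.mem_insert, Finset.mem_singleton] at this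
  rcases this with e | e
  · exact hne e
  · exact (c.mem_supp.mp hm).2 (e ▸ hXm)

theorem sum_split_mu (f : IrrCharacter G → ℂ) :
    ∑ chi : IrrCharacter G, (c.cz chi c.mu : ℂ) * f chi =
      f (trivialChar G) + ((T.s : ℂ) * f T.C + ∑ th ∈ T.Θ, (c.cz th c.mu : ℂ) * f th) := by
  rw [c.sum_split c.mu c.mu_spec.1, Θ, ← Finset.add_sum_erase _ _ (T.C_mem_supp c.mu_spec.1),
    T.hCl c.mu c.mu_spec.1]

theorem Θ_apply_t {th : IrrCharacter G} (h : th ∈ T.Θ) :
    th.1 c.t = -((c.cz th c.mu : ℂ) * c.mu.1 ⟨c.t, c.htK⟩) := by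
  rw [c.apply_of_mem th c.htK c.t_ne, c.sum_lam_split, c.cz_triv_right, Finset.sum_eq_zero]
  · simp
  · intro lam hlam
    rw [(T.Θ_cz h).2 lam (c.mem_nrSet.mp hlam)]; simp

theorem Θ_sq_t {th : IrrCharacter G} (h : th ∈ T.Θ) : th.1 c.t ^ 2 = 1 := by
  rw [T.Θ_apply_t h]
  rcases (T.Θ_cz h).1 with e | e <;> rcases c.lam_t c.mu with m | m <;> rw [e, m] <;> simp

theorem C_t : T.C.1 c.t = (T.s : ℂ) := by
  have h := T.P_of_mem c.htK c.t_ne
  rw [P] at h
  linear_combination (T.s : ℂ) * h - T.C.1 c.t * T.s_sq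

include T in
theorem X_apply_t {lam : IrrCharacter c.K} (hl : c.NR lam) {X : IrrCharacter G}
    (hm : c.cz X c.mu = 0) (hz : ∀ nu, c.NR nu → nu ≠ lam → nu ≠ conjIrr lam → c.cz X nu = 0) :
    X.1 c.t = -(2 * (c.cz X lam : ℂ) * lam.1 ⟨c.t, c.htK⟩) := by
  rw [c.apply_of_mem X c.htK c.t_ne, c.sum_lam_split, c.cz_triv_right, hm]
  have : ∑ r ∈ c.nrSet, (c.cz X r : ℂ) * r.1 ⟨c.t, c.htK⟩ =
      ∑ r ∈ ({lam, conjIrr lam} : Finset _), (c.cz X r : ℂ) * r.1 ⟨c.t, c.htK⟩ := by
    symm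
    apply Finset.sum_subset
    · intro r hr
      simp only [Finset.mem_insert, Finset.mem_singleton] at hr
      rcases hr with rfl | rfl
      · exact c.mem_nrSet.mpr hl
      · exact c.mem_nrSet.mpr (NR.conj c hl)
    · intro r hr hnot
      simp only [Finset.mem_insert, Finset.mem_singleton, not_or] at hnot
      rw [hz r (c.mem_nrSet.mp hr) hnot.1 hnot.2]; simp
  rw [this, Finset.sum_pair (Ne.symm hl), c.cz_conj, c.conj_apply_t]
  simp
  ring

include T in
theorem X_sq_t {lam : IrrCharacter c.K} (hl : c.NR lam) {X : IrrCharacter G} (hX : X ∈ c.supp lam)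
    (hm : c.cz X c.mu = 0) (hz : ∀ nu, c.NR nu → nu ≠ lam → nu ≠ conjIrr lam → c.cz X nu = 0) :
    X.1 c.t ^ 2 = 4 := by
  rw [T.X_apply_t hl hm hz]
  rcases c.cz_sign lam (NR.ne_triv c hl) hX with e | e <;> rcases c.lam_t lam with m | m <;> rw [e, m] <;>
    norm_num

include T in
theorem exists_eps (hk : 2 < Nat.card c.K) :
    ∃ ε : ℤ, (ε = 1 ∨ ε = -1) ∧ (c.numInv : ℤ) = (1 + 2 * ε * Nat.card c.K) * (1 + ε * Nat.card c.K) ∧
      T.P 1 = ((1 + 2 * ε * Nat.card c.K : ℤ) : ℂ) ∧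
      ∀ th ∈ T.Θ, (c.cz th c.mu : ℂ) * th.1 1 = ((-(1 + ε * Nat.card c.K) : ℤ) : ℂ) := by
  set k : ℤ := (Nat.card c.K : ℤ) with hkdef
  obtain ⟨th1, th2, hne12, hTh⟩ := Finset.card_eq_two.mp T.card_Θ
  have hth1 : th1 ∈ T.Θ := by rw [hTh]; simp
  have hth2 : th2 ∈ T.Θ := by rw [hTh]; simp
  -- signed degrees
  set D : ℤ := T.s * degree T.C with hD
  have hPD : T.P 1 = (D : ℂ) := by rw [P, apply_one_eq_degree, hD]; push_cast; ring
  have hDcong : ∃ m : ℤ, D = m * k + 1 := by
    obtain ⟨a, ha⟩ := c.degree_congr T.C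
    have hsum : ∑ lam : IrrCharacter c.K, c.cz T.C lam = T.s * (k - 1) := by
      rw [c.sum_lam_split (fun lam => c.cz T.C lam), c.cz_triv_right, T.hCl c.mu c.mu_spec.1,
        Finset.sum_congr rfl (fun lam h => T.hCl lam (NR.ne_triv c (c.mem_nrSet.mp h))), Finset.sum_const,
        nsmul_eq_mul, c.card_nrSet]
      ring
    refine ⟨T.s * a - 1, ?_⟩
    rw [hD, ha, hsum]
    rcases T.hs with e | e <;> rw [e] <;> ring
  have hTcong : ∀ th ∈ T.Θ, ∃ l : ℤ, c.cz th c.mu * degree th = l * k - 1 := by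
    intro th h
    obtain ⟨a, ha⟩ := c.degree_congr th
    have hsum : ∑ lam : IrrCharacter c.K, c.cz th lam = c.cz th c.mu := by
      rw [c.sum_lam_split (fun lam => c.cz th lam), c.cz_triv_right,
        Finset.sum_eq_zero (fun lam h' => (T.Θ_cz h).2 lam (c.mem_nrSet.mp h'))]
      ring
    refine ⟨c.cz th c.mu * a, ?_⟩
    rw [ha, hsum]
    rcases (T.Θ_cz h).1 with e | e <;> rw [e] <;> ring
  set T1 : ℤ := c.cz th1 c.mu * degree th1 with hT1
  set T2 : ℤ := c.cz th2 c.mu * degree th2 with hT2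
  have hdeg : 1 + D + T1 + T2 = 0 := by
    have h := c.degree_sum c.mu
    rw [T.sum_split_mu, hTh, Finset.sum_pair hne12, trivialChar_apply, apply_one_eq_degree,
      apply_one_eq_degree, apply_one_eq_degree] at h
    have : ((1 + D + T1 + T2 : ℤ) : ℂ) = ((0 : ℤ) : ℂ) := by
      rw [hD, hT1, hT2]; push_cast; linear_combination h
    exact_mod_cast this
  obtain ⟨l0, h0⟩ := c.exists_NR hk
  obtain ⟨X, hsX, hCX, hXm, hXz⟩ := T.hX l0 h0
  have hXmem : X ∈ c.supp l0 := by rw [hsX]; simp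
  have hr := c.cz_sign l0 (NR.ne_triv c h0) hXmem
  set E : ℤ := c.cz X l0 * degree X with hE
  have hEdeg : E = -1 - D := by
    have h := c.degree_eq h0 hsX hCX
    rw [T.hCl l0 (NR.ne_triv c h0), apply_one_eq_degree, apply_one_eq_degree] at h
    have : ((E : ℤ) : ℂ) = ((-1 - D : ℤ) : ℂ) := by
      rw [hD, hE]; push_cast; linear_combination h
    exact_mod_cast this
  have hne0 : ∀ (chi : IrrCharacter G) (q : ℤ), q ≠ 0 → q * (degree chi : ℤ) ≠ 0 := fun chi q hq =>
    mul_ne_zero hq (by exact_mod_cast (degree_pos chi).ne')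
  have hD0 : D ≠ 0 := hne0 _ _ T.s_ne
  have hE0 : E ≠ 0 := hne0 _ _ (c.mem_supp.mp hXmem).2
  have hT10 : T1 ≠ 0 := hne0 _ _ (by rcases (T.Θ_cz hth1).1 with e | e <;> rw [e] <;> norm_num)
  have hT20 : T2 ≠ 0 := hne0 _ _ (by rcases (T.Θ_cz hth2).1 with e | e <;> rw [e] <;> norm_num)
  have term : ∀ (chi : IrrCharacter G) (q : ℤ) (v : ℂ), (q = 1 ∨ q = -1) →
      (q : ℂ) * (v / chi.1 1) = v / ((q * (degree chi : ℤ) : ℤ) : ℂ) := by
    intro chi q v hq
    have := IsIrrCharacter.apply_one_ne_zero chi.2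
    rw [apply_one_eq_degree] at this ⊢
    rcases hq with e | e <;> rw [e] <;> push_cast <;> field_simp
  set w : ℂ := (c.numInv : ℂ) ^ 2 / Nat.card G with hw
  have s1 := c.star l0 (NR.ne_triv c h0)
  simp only [mul_div_assoc] at s1
  rw [c.sum_pair_supp (NR.ne_triv c h0) hsX hCX, T.hCl l0 (NR.ne_triv c h0), term T.C _ _ T.hs,
    term X _ _ hr, T.X_sq_t h0 hXmem hXm hXz, T.C_t, trivialChar_apply, trivialChar_apply] at s1
  have s2 := c.star c.mu c.mu_spec.1
  simp only [mul_div_assoc] at s2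
  rw [T.sum_split_mu, hTh, Finset.sum_pair hne12, term T.C _ _ T.hs, term th1 _ _ (T.Θ_cz hth1).1,
    term th2 _ _ (T.Θ_cz hth2).1, T.Θ_sq_t hth1, T.Θ_sq_t hth2, T.C_t, trivialChar_apply,
    trivialChar_apply] at s2
  have hssq : (T.s : ℂ) ^ 2 = 1 := by rw [sq]; exact T.s_sq
  rw [hssq, ← hD, ← hE, ← hw] at s1
  rw [hssq, ← hD, ← hT1, ← hT2, ← hw] at s2
  have hw0 : w ≠ 0 := by
    intro h; rw [h, zero_mul] at s1; exact card_ne_zero s1.symm
  have hDc : (D : ℂ) ≠ 0 := Int.cast_ne_zero.mpr hD0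
  have hEc : (E : ℂ) ≠ 0 := Int.cast_ne_zero.mpr hE0
  have hT1c : (T1 : ℂ) ≠ 0 := Int.cast_ne_zero.mpr hT10
  have hT2c : (T2 : ℂ) ≠ 0 := Int.cast_ne_zero.mpr hT20
  have heq := mul_left_cancel₀ hw0 (s1.trans s2.symm)
  have hEsum : E = T1 + T2 := by omega
  have hTT : T1 = T2 := by
    have h : (4 : ℂ) / (E : ℂ) = 1 / (T1 : ℂ) + 1 / (T2 : ℂ) := by linear_combination heq
    field_simp at h
    have h' : 4 * (T1 * T2) = E * (T1 + T2) := by
      have : ((4 * (T1 * T2) : ℤ) : ℂ) = ((E * (T1 + T2) : ℤ) : ℂ) := by push_cast; linear_combination h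
      exact_mod_cast this
    have : (T1 - T2) ^ 2 = 0 := by rw [hEsum] at h'; linear_combination -h'
    have := pow_eq_zero_iff (two_ne_zero) |>.mp this
    omega
  obtain ⟨l, hl⟩ := hTcong th1 hth1
  rw [← hT1] at hl
  have hDl : D = 1 - 2 * (l * k) := by omega
  -- the order of `G`
  have hGc : (Nat.card G : ℂ) = 2 * (Nat.card c.K : ℂ) * (c.numInv : ℂ) := by
    rw [← c.card_G]; push_cast; ring
  have hn : (c.numInv : ℂ) ≠ 0 := by
    intro h; rw [hw, h] at hw0; simp at hw0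
  have hkc : (Nat.card c.K : ℂ) ≠ 0 := card_ne_zero
  have hmain : (c.numInv : ℤ) * (D - 1) ^ 2 = 2 * k ^ 2 * (D * (D + 1)) := by
    have hw' : w = (c.numInv : ℂ) / (2 * (Nat.card c.K : ℂ)) := by
      rw [hw, hGc]; field_simp
    rw [hw', hEdeg] at s1
    push_cast at s1
    have hD1 : (-1 - (D : ℂ)) ≠ 0 := by
      have := hEc; rw [hEdeg] at this; push_cast at this; exact this
    field_simp at s1
    have : (((c.numInv : ℤ) * (D - 1) ^ 2 : ℤ) : ℂ) = ((2 * k ^ 2 * (D * (D + 1)) : ℤ) : ℂ) := by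
      rw [hkdef]; push_cast; linear_combination -s1
    exact_mod_cast this
  have hk0 : k ≠ 0 := by omega
  have hN : (c.numInv : ℤ) * l ^ 2 = (1 - 2 * (l * k)) * (1 - l * k) := by
    apply mul_left_cancel₀ (show (4 * k ^ 2 : ℤ) ≠ 0 by positivity)
    rw [hDl] at hmain
    linear_combination hmain
  have hl1 : l = 1 ∨ l = -1 := Int.isUnit_iff.mp (IsUnit.of_mul_eq_one
    ((c.numInv : ℤ) * l + 3 * k - 2 * (l * k ^ 2)) (by linear_combination hN))
  refine ⟨-l, by omega, ?_, ?_, ?_⟩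
  · rcases hl1 with e | e <;> rw [e] at hN ⊢ <;> linear_combination hN
  · rw [hPD, hDl]; push_cast; ring
  · intro th h
    have hth : c.cz th c.mu * degree th = l * k - 1 := by
      rw [hTh] at h
      simp only [Finset.mem_insert, Finset.mem_singleton] at h
      rcases h with rfl | rfl
      · exact hl
      · rw [← hl, hTT]
    rw [apply_one_eq_degree, show (-(1 + -l * (Nat.card c.K : ℤ))) = c.cz th c.mu * degree th by
      rw [hth, hkdef]; ring]
    push_cast; ring

end Table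

end Config

end Cfsg.Agent.BSW
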