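import Cfsg.Agent.Lib.BSW.Table

/-!
Brauer–Suzuki–Wall, `|K| > 2`: pair counts off `K`, and the sums of the common constituent over the elements
not conjugate into `K`.
-/

set_option autoImplicit false
set_option linter.style.haveILetI false

namespace Cfsg.Agent.BSW

open scoped ComplexConjugate
open Char

attribute [local instance] Classical.propDecidable

universe u

variable {G : Type u} [Group G] [Fintype G]

namespace Config

variable {c : Config G}

theorem sum_g_split (c : Config G) (f : G → ℂ) :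
    ∑ g : G, f g = f 1 + (∑ g ∈ Finset.univ.filter (fun g => c.KType g), f g +
      ∑ g ∈ Finset.univ.filter (fun g => c.Outer g), f g) := by
  rw [← Finset.add_sum_erase _ _ (Finset.mem_univ (1 : G)),
    ← Finset.sum_filter_add_sum_filter_not (Finset.univ.erase (1 : G)) (fun g => c.KType g)]
  congr 2
  · refine Finset.sum_congr ?_ fun _ _ => rfl
    ext g
    simp only [Finset.mem_filter, Finset.mem_erase, Finset.mem_univ, and_true, true_and]
    refine ⟨fun h => h.2, fun h => ⟨?_, h⟩⟩
    obtain ⟨v, x, hx, h1, rfl⟩ := h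
    exact fun e => h1 (conj_eq_one_iff.mp e)
  · refine Finset.sum_congr ?_ fun _ _ => rfl
    ext g
    simp only [Finset.mem_filter, Finset.mem_erase, Finset.mem_univ, and_true, true_and]
    exact ⟨fun h => h, fun h => h⟩

theorem card_KType (c : Config G) :
    ((Finset.univ.filter fun g => c.KType g).card : ℂ) = (c.numInv : ℂ) * ((Nat.card c.K : ℂ) - 1) := by
  have hk : (Nat.card c.K : ℂ) ≠ 0 := card_ne_zero
  have hG : (Nat.card G : ℂ) ≠ 0 := card_ne_zero
  have hval : ∀ g : G, ∑ lam : IrrCharacter c.K, c.alpha lam g =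
      if c.KType g then 2 * (Nat.card c.K : ℂ) else 0 := by
    intro g
    rcases c.cases_g g with rfl | hK | ho
    · rw [if_neg (fun h => by obtain ⟨v, x, hx, h1, e⟩ := h; exact h1 (conj_eq_one_iff.mp e.symm))]
      simp [c.alpha_one]
    · obtain ⟨v, x, hx, h1, rfl⟩ := hK
      rw [if_pos (c.KType_conj (c.KType_of_mem hx h1) v)]
      simp only [c.isClassFunction_alpha _ x v, c.alpha_of_mem hx, Finset.sum_sub_distrib, ← map_sum, c.sum_lam,
        if_neg (show (⟨x, hx⟩ : c.K) ≠ 1 from fun e => h1 (congrArg Subtype.val e)), map_zero, sub_zero,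
        Finset.sum_const, Finset.card_univ, c.card_lam, nsmul_eq_mul]
      ring
    · rw [if_neg ho.2]; simp [c.alpha_outer ho]
  have hlam : ∀ lam : IrrCharacter c.K, ∑ g : G, c.alpha lam g =
      if lam = trivialChar c.K then 0 else (Nat.card G : ℂ) := by
    intro lam
    by_cases hl : lam = trivialChar c.K
    · rw [if_pos hl, hl, c.alpha_triv]; simp
    · rw [if_neg hl]
      have h := c.cz_spec (trivialChar G) lam
      rw [c.cz_triv lam hl, Int.cast_one, classInner] at h
      simp only [trivialChar_apply, map_one, mul_one] at h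
      field_simp at h
      exact h
  have h : ∑ g : G, ∑ lam : IrrCharacter c.K, c.alpha lam g =
      2 * (Nat.card c.K : ℂ) * ((Finset.univ.filter fun g => c.KType g).card : ℂ) := by
    simp only [hval, Finset.sum_ite, Finset.sum_const_zero, add_zero, Finset.sum_const, nsmul_eq_mul]
    ring
  rw [Finset.sum_comm] at h
  simp only [hlam, Finset.sum_ite, Finset.sum_const_zero, zero_add, Finset.sum_const, nsmul_eq_mul] at h
  have hc : ((Finset.univ.filter fun lam : IrrCharacter c.K => ¬lam = trivialChar c.K).card : ℂ) =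
      (Nat.card c.K : ℂ) - 1 := by
    have := Finset.card_filter_add_card_filter_not (s := (Finset.univ : Finset (IrrCharacter c.K)))
      (fun lam => lam = trivialChar c.K)
    rw [Finset.filter_eq' _ (trivialChar c.K), if_pos (Finset.mem_univ _), Finset.card_singleton,
      Finset.card_univ, c.card_lam] at this
    rw [← this]; push_cast; ring
  rw [hc] at h
  have hGc : (Nat.card G : ℂ) = 2 * (Nat.card c.K : ℂ) * (c.numInv : ℂ) := by
    rw [← c.card_G]; push_cast; ring
  rw [hGc] at h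
  apply mul_left_cancel₀ (mul_ne_zero two_ne_zero hk)
  linear_combination -h

namespace Table

variable (T : Table c)

theorem cz_outside {chi : IrrCharacter G} (h1 : chi ≠ trivialChar G) (h2 : chi ≠ T.C) (h3 : chi ∉ T.Θ) :
    c.cz chi c.mu = 0 := by
  by_contra h
  exact h3 (Finset.mem_erase.mpr ⟨h2, c.mem_supp.mpr ⟨h1, h⟩⟩)

include T in
/-- The square of the value at `t`, as a quadratic form in the multiplicities. -/
theorem sq_apply_t (chi : IrrCharacter G) :
    chi.1 c.t ^ 2 = (c.cz chi c.mu : ℂ) * c.cz chi c.mu +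
      2 * ∑ lam ∈ c.nrSet, ((c.cz chi lam : ℂ) * c.cz chi lam - (c.cz chi lam : ℂ) * c.cz chi c.mu) := by
  by_cases h1 : chi = trivialChar G
  · subst h1
    rw [Finset.sum_eq_zero (fun lam h => ?_), c.cz_triv c.mu c.mu_spec.1]
    · simp
    · rw [c.cz_triv lam (NR.ne_triv c (c.mem_nrSet.mp h)), c.cz_triv c.mu c.mu_spec.1]; simp
  by_cases h2 : chi = T.C
  · subst h2
    rw [Finset.sum_eq_zero (fun lam h => ?_), T.hCl c.mu c.mu_spec.1, T.C_t]
    · ring
    · rw [T.hCl lam (NR.ne_triv c (c.mem_nrSet.mp h)), T.hCl c.mu c.mu_spec.1]; ring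
  by_cases h3 : chi ∈ T.Θ
  · rw [T.Θ_sq_t h3, Finset.sum_eq_zero (fun lam h => ?_)]
    · rcases (T.Θ_cz h3).1 with e | e <;> rw [e] <;> simp
    · rw [(T.Θ_cz h3).2 lam (c.mem_nrSet.mp h)]; simp
  have hm := T.cz_outside h1 h2 h3
  rw [hm]
  by_cases h4 : ∃ lam, c.NR lam ∧ c.cz chi lam ≠ 0
  · obtain ⟨lam, hl, hne⟩ := h4
    obtain ⟨X, hs, -, hXm, hXz⟩ := T.hX lam hl
    have hmem : chi ∈ c.supp lam := c.mem_supp.mpr ⟨h1, hne⟩
    have : chi = X := by
      rw [hs] at hmem
      simpa [h2] using hmem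
    subst this
    rw [T.X_sq_t hl hmem hXm hXz]
    have : ∑ r ∈ c.nrSet, ((c.cz chi r : ℂ) * c.cz chi r - (c.cz chi r : ℂ) * ((0 : ℤ) : ℂ)) =
        ∑ r ∈ ({lam, conjIrr lam} : Finset _), ((c.cz chi r : ℂ) * c.cz chi r - (c.cz chi r : ℂ) * ((0 : ℤ) : ℂ)) := by
      symm
      apply Finset.sum_subset
      · intro r hr
        simp only [Finset.mem_insert, Finset.mem_singleton] at hr
        rcases hr with rfl | rfl
        · exact c.mem_nrSet.mpr hl
        · exact c.mem_nrSet.mpr (NR.conj c hl)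
      · intro r hr hnot
        simp only [Finset.mem_insert, Finset.mem_singleton, not_or] at hnot
        rw [hXz r (c.mem_nrSet.mp hr) hnot.1 hnot.2]; simp
    rw [this, Finset.sum_pair (Ne.symm hl), c.cz_conj]
    rcases c.cz_sign lam (NR.ne_triv c hl) hmem with e | e <;> rw [e] <;> norm_num
  · push Not at h4
    rw [c.apply_of_mem chi c.htK c.t_ne, c.sum_lam_split (fun lam => (c.cz chi lam : ℂ) * lam.1 _),
      c.cz_triv_right, hm, Finset.sum_eq_zero, Finset.sum_eq_zero]
    · simp
    · intro lam h; rw [h4 lam (c.mem_nrSet.mp h)]; simp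
    · intro lam h; rw [h4 lam (c.mem_nrSet.mp h)]; simp

theorem P_one_ne : T.P 1 ≠ 0 :=
  mul_ne_zero (Int.cast_ne_zero.mpr T.s_ne) (IsIrrCharacter.apply_one_ne_zero T.C.2)

/-- The class sum expression counting pairs, at an element not conjugate into `K`. -/
theorem sum_outer {g : G} (hg : c.Outer g) {τ : ℂ}
    (hτ : ∀ th ∈ T.Θ, (c.cz th c.mu : ℂ) * th.1 1 = τ) (hD : 1 + T.P 1 = -(2 * τ)) :
    ∑ chi : IrrCharacter G, chi.1 c.t ^ 2 * chi.1 g / chi.1 1 =
      1 + T.P g / T.P 1 - ((Nat.card c.K : ℂ) - 1) * (1 + T.P g) / τ := by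
  set f : IrrCharacter G → ℂ := fun chi => chi.1 g / chi.1 1 with hf
  have hCf : f T.C = T.P g / T.P 1 := by
    rw [hf, P, P, mul_div_mul_left _ _ (Int.cast_ne_zero.mpr T.s_ne)]
  have htriv : f (trivialChar G) = 1 := by simp [hf]
  have hmm : ∑ chi : IrrCharacter G, (c.cz chi c.mu : ℂ) * ((c.cz chi c.mu : ℂ) * f chi) =
      1 + T.P g / T.P 1 - (1 + T.P g) / τ := by
    rw [T.sum_split_mu, c.cz_triv c.mu c.mu_spec.1, T.hCl c.mu c.mu_spec.1, htriv, hCf]
    have hsum : ∑ th ∈ T.Θ, (c.cz th c.mu : ℂ) * ((c.cz th c.mu : ℂ) * f th) =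
        (∑ th ∈ T.Θ, (c.cz th c.mu : ℂ) * th.1 g) / τ := by
      rw [Finset.sum_div]
      refine Finset.sum_congr rfl fun th h => ?_
      rw [← hτ th h, hf]
      have hth1 := IsIrrCharacter.apply_one_ne_zero th.2
      rcases (T.Θ_cz h).1 with e | e <;> rw [e] <;> push_cast <;> field_simp
    have hal : ∑ th ∈ T.Θ, (c.cz th c.mu : ℂ) * th.1 g = -(1 + T.P g) := by
      have h := c.sum_cz_apply c.mu g
      rw [c.alpha_outer hg, T.sum_split_mu (fun chi => chi.1 g), trivialChar_apply] at h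
      rw [P]; linear_combination h
    rw [hsum, hal, Int.cast_one, one_mul, ← mul_assoc, T.s_sq, one_mul]
    ring
  have hll : ∀ lam ∈ c.nrSet, ∑ chi : IrrCharacter G, ((c.cz chi lam : ℂ) * c.cz chi lam -
      (c.cz chi lam : ℂ) * c.cz chi c.mu) * f chi = -(1 + T.P g) / (2 * τ) := by
    intro lam hlam
    have hl := c.mem_nrSet.mp hlam
    obtain ⟨X, hs, hne, hXm, -⟩ := T.hX lam hl
    have hrw : ∀ chi : IrrCharacter G, ((c.cz chi lam : ℂ) * c.cz chi lam -
        (c.cz chi lam : ℂ) * c.cz chi c.mu) * f chi =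
        (c.cz chi lam : ℂ) * (((c.cz chi lam : ℂ) - c.cz chi c.mu) * f chi) := fun chi => by ring
    simp only [hrw]
    rw [c.sum_pair_supp (NR.ne_triv c hl) hs hne, c.cz_triv c.mu c.mu_spec.1,
      c.cz_triv lam (NR.ne_triv c hl), hXm, T.hCl lam (NR.ne_triv c hl), T.hCl c.mu c.mu_spec.1]
    have hr := c.cz_sign lam (NR.ne_triv c hl) (show X ∈ c.supp lam by rw [hs]; simp)
    have hXg : (c.cz X lam : ℂ) * X.1 g = -(1 + T.P g) := by
      have h := c.sum_cz_apply lam g
      rw [c.alpha_outer hg, c.sum_pair_supp (NR.ne_triv c hl) hs hne (fun chi => chi.1 g), trivialChar_apply,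
        T.hCl lam (NR.ne_triv c hl)] at h
      rw [P]; linear_combination h
    have hX1 : (c.cz X lam : ℂ) * X.1 1 = 2 * τ := by
      have h := c.degree_eq hl hs hne
      rw [T.hCl lam (NR.ne_triv c hl)] at h
      rw [P] at hD
      linear_combination h - hD
    have hX0 := IsIrrCharacter.apply_one_ne_zero X.2
    rw [← hX1, ← hXg, hf]
    rcases hr with e | e <;> rw [e] <;> push_cast <;> field_simp <;> ring
  have hexp : ∀ chi : IrrCharacter G, chi.1 c.t ^ 2 * chi.1 g / chi.1 1 =
      (c.cz chi c.mu : ℂ) * ((c.cz chi c.mu : ℂ) * f chi) +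
        2 * ∑ lam ∈ c.nrSet, ((c.cz chi lam : ℂ) * c.cz chi lam - (c.cz chi lam : ℂ) * c.cz chi c.mu) * f chi := by
    intro chi
    rw [← Finset.sum_mul, T.sq_apply_t chi, hf]
    ring
  simp only [hexp, Finset.sum_add_distrib, ← Finset.mul_sum]
  rw [hmm, Finset.sum_comm, Finset.sum_congr rfl hll, Finset.sum_const, nsmul_eq_mul]
  have hc : (c.nrSet.card : ℂ) = (Nat.card c.K : ℂ) - 2 := by exact_mod_cast c.card_nrSet
  rw [hc]
  ring

theorem sum_P : ∑ g : G, T.P g = 0 := by
  have h := classInner_irr_of_ne T.C.2 (trivialChar G).2 (fun e => T.hC (Subtype.ext e))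
  simp only [classInner, trivialChar_apply, map_one, mul_one] at h
  simp only [P, ← Finset.mul_sum]
  rw [(mul_eq_zero.mp h).resolve_left (inv_ne_zero card_ne_zero), mul_zero]

theorem sum_P_sq : ∑ g : G, T.P g * conj (T.P g) = (Nat.card G : ℂ) := by
  have h := classInner_irr_self T.C.2
  rw [classInner] at h
  have hG : (Nat.card G : ℂ) ≠ 0 := card_ne_zero
  field_simp at h
  rw [← h]
  refine Finset.sum_congr rfl fun g _ => ?_
  simp only [P, map_mul, map_intCast]
  linear_combination (T.C.1 g * conj (T.C.1 g)) * T.s_sq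

theorem sum_P_outer :
    ∑ g ∈ Finset.univ.filter (fun g => c.Outer g), T.P g =
      -(T.P 1 + (c.numInv : ℂ) * ((Nat.card c.K : ℂ) - 1)) := by
  have h := T.sum_P
  rw [c.sum_g_split, Finset.sum_congr rfl (fun g hg => T.P_KType (Finset.mem_filter.mp hg).2),
    Finset.sum_const, nsmul_eq_mul, mul_one, c.card_KType] at h
  linear_combination h

theorem sum_P_sq_outer :
    ∑ g ∈ Finset.univ.filter (fun g => c.Outer g), T.P g * conj (T.P g) =
      (Nat.card G : ℂ) - T.P 1 * T.P 1 - (c.numInv : ℂ) * ((Nat.card c.K : ℂ) - 1) := by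
  have h := T.sum_P_sq
  have h1 : conj (T.P 1) = T.P 1 := by
    simp [P, apply_one_eq_degree]
  rw [c.sum_g_split, h1, Finset.sum_congr rfl (fun g hg => show T.P g * conj (T.P g) = 1 by
      rw [T.P_KType (Finset.mem_filter.mp hg).2]; simp),
    Finset.sum_const, nsmul_eq_mul, mul_one, c.card_KType] at h
  linear_combination h

end Table

end Config

end Cfsg.Agent.BSW
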